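import Mathlib
import Cfsg.Agent.Lib.Lie.HJType.Outer

/-!
Groups with one class of involutions and centralizer `2^{1+4}.A₅`: some involution of the centralizer
lies outside the core.
-/

set_option autoImplicit false
set_option linter.style.haveILetI false
set_option linter.unusedSectionVars false
set_option maxHeartbeats 1000000

namespace Cfsg.Agent.Spor.JThree

open Equiv Cfsg.Agent.Lie Cfsg.Agent.Lie.HJType

universe u

local notation "A5" => alternatingGroup (Fin 5)

theorem a5_three_at : ∀ i : Fin 5, ∃ g : A5, g * g * g = 1 ∧ g ≠ 1 ∧ (g : Perm (Fin 5)) i = i := by decide +kernel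

theorem three_moves : ∀ i : Fin 5, ∀ g : A5, g * g * g = 1 → g ≠ 1 → (g : Perm (Fin 5)) i = i →
    ∃ v, Even5 v ∧ v i = 0 ∧ actv g v ≠ v := by decide +kernel

variable {G : Type u} [Group G] [Finite G] {t : G} {Q : Subgroup G}

theorem card_centralizer (F : Frame t Q) : Nat.card ↥(Subgroup.centralizer ({t} : Set G)) = 1920 := by
  have h60 : Nat.card F.π.range = 60 := by
    rw [Nat.card_congr (Equiv.subtypeUnivEquiv fun x => MonoidHom.mem_range.2 (F.surj x)),
      nat_card_alternatingGroup, Nat.card_fin]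
    rfl
  have hk : Nat.card F.π.ker = 32 := by
    rw [← F.card]
    exact Nat.card_congr
      { toFun := fun c => ⟨c, (F.ker c).1 c.2⟩
        invFun := fun q => ⟨cen t (F.cen_Q q.2), F.pi_Q q.2⟩
        left_inv := fun c => rfl
        right_inv := fun q => rfl }
  rw [← F.π.ker.card_mul_index, Subgroup.index_ker, hk, h60]

theorem q_pow_four (F : Frame t Q) {q : G} (hq : q ∈ Q) : q ^ 4 = 1 := by
  rcases F.S.sq q hq with e | e <;>
    rw [show (4 : ℕ) = 2 * 2 from rfl, pow_mul, pow_two q, e, pow_two]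
  · exact one_mul 1
  · exact F.S.xt.sq

/-- the noncentral involutions of the core are conjugate in the centralizer -/
theorem core_trans (F : Frame t Q) {x : G} (hx : x ∈ Q) (hxx : x * x = 1) (hx1 : x ≠ 1) (hxt : x ≠ t) :
    ∃ c, Commute c t ∧ c * x * c⁻¹ = F.u 0 := by
  obtain ⟨q, hq, hn⟩ := CentTransfer.exists_not_commute F.S (F.mem 0) (F.ne_one 0) (F.ne_z 0)
  have hmove : q * F.u 0 * q⁻¹ = F.u 0 * t := F.S.xt.move hq (F.mem 0) fun h => hn h.symm
  have hback : ∀ {y : G}, y = F.u 0 ∨ y = F.u 0 * t → ∀ {c : G}, Commute c t → c * x * c⁻¹ = y →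
      ∃ c, Commute c t ∧ c * x * c⁻¹ = F.u 0 := by
    rintro y (rfl | rfl) c hc e
    · exact ⟨c, hc, e⟩
    · refine ⟨q * c, (F.cen_Q hq).mul_left hc, ?_⟩
      calc q * c * x * (q * c)⁻¹ = q * (c * x * c⁻¹) * q⁻¹ := by group
        _ = q * F.u 0 * q⁻¹ * (q * t * q⁻¹) := by rw [e]; group
        _ = F.u 0 * t * t := by rw [hmove, (F.cen_Q hq).eq, mul_inv_cancel_right]
        _ = F.u 0 := by rw [mul_assoc, F.S.xt.sq, mul_one]
  rcases F.all x hx hxx with e | e | ⟨j, hj⟩
  · exact absurd e hx1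
  · exact absurd e hxt
  obtain ⟨σ, hσ⟩ := a5_trans j 0
  obtain ⟨c, rfl⟩ := F.surj σ
  have hct := F.comm_z c
  have hu : (c : G) * F.u j * (c : G)⁻¹ = F.u 0 ∨ (c : G) * F.u j * (c : G)⁻¹ = F.u 0 * t := by
    have := F.act c j; rwa [hσ] at this
  refine hback (y := (c : G) * x * (c : G)⁻¹) ?_ hct rfl
  rcases hj with rfl | rfl
  · exact hu
  · rw [show (c : G) * (F.u j * t) * (c : G)⁻¹ = (c : G) * F.u j * (c : G)⁻¹ * ((c : G) * t * (c : G)⁻¹) by group,
      hct.eq, mul_inv_cancel_right]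
    rcases hu with e | e <;> rw [e]
    · exact Or.inr rfl
    · exact Or.inl (by rw [mul_assoc, F.S.xt.sq, mul_one])

/-- some involution of the centralizer lies outside the core -/
theorem exists_outer_invol (F : Frame t Q) (hone : ∀ x : G, orderOf x = 2 → IsConj t x) :
    ∃ s, Commute s t ∧ s * s = 1 ∧ s ∉ Q := by
  classical
  by_contra! hin
  haveI : Fact (Nat.Prime 2) := ⟨Nat.prime_two⟩
  haveI : Fact (Nat.Prime 3) := ⟨Nat.prime_three⟩
  have hu := F.sq 0
  have htt := F.S.xt.sq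
  have htu : Commute (F.u 0) t := F.cen_Q (F.mem 0)
  obtain ⟨g, hg⟩ := isConj_iff.1 (hone (F.u 0) (HallJankoPairs.ord_of hu (F.ne_one 0)))
  -- an element interchanging the two involutions
  obtain ⟨x0, hx0⟩ : ∃ x0, x0 = g⁻¹ * t * g := ⟨_, rfl⟩
  have hgu : g⁻¹ * F.u 0 * g = t := by rw [← hg]; group
  have hx0c : Commute x0 t := by
    have := (Commute.conj_iff g⁻¹).2 htu.symm
    rw [inv_inv, hgu] at this
    rw [hx0]; exact this
  have hx0x : x0 * x0 = 1 := by
    rw [hx0, show g⁻¹ * t * g * (g⁻¹ * t * g) = g⁻¹ * (t * t) * g by group, htt, mul_one, inv_mul_cancel]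
  obtain ⟨c, hc, hcx⟩ := core_trans F (hin x0 hx0c hx0x) hx0x
    (fun e => F.S.xt.ne (by
      rw [hx0] at e
      calc t = g * (g⁻¹ * t * g) * g⁻¹ := by group
        _ = 1 := by rw [e]; group))
    (fun e => F.ne_z 0 (by
      rw [← hg]
      rw [hx0] at e
      calc g * t * g⁻¹ = g * (g⁻¹ * t * g) * g⁻¹ := by rw [e]
        _ = t := by group))
  obtain ⟨q, hq, hn⟩ := CentTransfer.exists_not_commute F.S (F.mem 0) (F.ne_one 0) (F.ne_z 0)
  have hmove : q * F.u 0 * q⁻¹ = F.u 0 * t := F.S.xt.move hq (F.mem 0) fun h => hn h.symm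
  obtain ⟨h, hh⟩ : ∃ h, h = c * g⁻¹ := ⟨_, rfl⟩
  have h1 : h * F.u 0 * h⁻¹ = t := by
    rw [hh, show c * g⁻¹ * F.u 0 * (c * g⁻¹)⁻¹ = c * (g⁻¹ * F.u 0 * g) * c⁻¹ by group, hgu, hc.eq,
      mul_inv_cancel_right]
  have h2 : h * t * h⁻¹ = F.u 0 := by
    rw [hh, show c * g⁻¹ * t * (c * g⁻¹)⁻¹ = c * (g⁻¹ * t * g) * c⁻¹ by group, ← hx0, hcx]
  obtain ⟨y, hy⟩ : ∃ y, y = h * q := ⟨_, rfl⟩
  have y1 : y * t * y⁻¹ = F.u 0 := by
    rw [hy, show h * q * t * (h * q)⁻¹ = h * (q * t * q⁻¹) * h⁻¹ by group, (F.cen_Q hq).eq,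
      mul_inv_cancel_right, h2]
  have y2 : y * F.u 0 * y⁻¹ = F.u 0 * t := by
    rw [hy, show h * q * F.u 0 * (h * q)⁻¹ = h * (q * F.u 0 * q⁻¹) * h⁻¹ by group, hmove,
      show h * (F.u 0 * t) * h⁻¹ = h * F.u 0 * h⁻¹ * (h * t * h⁻¹) by group, h1, h2, htu.eq]
  have y3 : y * (F.u 0 * t) * y⁻¹ = t := by
    rw [show y * (F.u 0 * t) * y⁻¹ = y * F.u 0 * y⁻¹ * (y * t * y⁻¹) by group, y1, y2, mul_assoc, ← htu.eq,
      ← mul_assoc, hu, one_mul]
  -- the centralizer of the four-group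
  let M : Subgroup G := Subgroup.centralizer ({t} : Set G) ⊓ Subgroup.centralizer ({F.u 0} : Set G)
  have hM : ∀ {a : G}, a ∈ M ↔ Commute a t ∧ Commute a (F.u 0) := fun {a} => by
    simp only [M, Subgroup.mem_inf, Subgroup.mem_centralizer_singleton_iff]
    rfl
  have hMy : y ∈ Subgroup.normalizer (M : Set G) := by
    refine Subgroup.mem_normalizer_fintype fun a ha => ?_
    obtain ⟨a1, a2⟩ := hM.1 ha
    have b1 : Commute (y * a * y⁻¹) (F.u 0) := y1 ▸ (Commute.conj_iff y).2 a1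
    have b2 : Commute (y * a * y⁻¹) (F.u 0 * t) := y2 ▸ (Commute.conj_iff y).2 a2
    refine hM.2 ⟨?_, b1⟩
    have := b1.mul_right b2
    rwa [← mul_assoc, hu, one_mul] at this
  have hMt : M ≤ Subgroup.centralizer ({t} : Set G) := inf_le_left
  have hdvd : Nat.card M ∣ 1920 := card_centralizer F ▸ Subgroup.card_dvd_of_le hMt
  have hinv : ∀ {w : G}, w ∈ M → w * w = 1 → w = 1 ∨ w = t ∨ w = F.u 0 ∨ w = F.u 0 * t := by
    intro w hw hww
    obtain ⟨w1, w2⟩ := hM.1 hw
    rcases F.all w (hin w w1 hww) hww with e | e | ⟨i, e⟩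
    · exact Or.inl e
    · exact Or.inr (Or.inl e)
    have hi : i = 0 := by
      refine F.nc i 0 ?_
      rcases e with rfl | rfl
      · exact w2
      · have h' := w2.mul_left htu.symm
        rwa [mul_assoc, htt, mul_one] at h'
    subst hi
    exact Or.inr (Or.inr e)
  -- the invariant `2`-subgroup
  let W₀ : Subgroup M := Cfsg.pCore 2 M
  haveI : W₀.Normal := Solv.pCore_normal 2
  let W : Subgroup G := W₀.map M.subtype
  have hW2 : IsPGroup 2 W := (Fusion.isPGroup_pCore 2 M).map _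
  have hWM : W ≤ M := Subgroup.map_subtype_le _
  have hWn : ∀ a ∈ Subgroup.normalizer (M : Set G), ∀ w ∈ W, a * w * a⁻¹ ∈ W := by
    intro a ha w hw
    obtain ⟨w', hw', rfl⟩ := hw
    have hmem : ∀ m : M, a * (m : G) * a⁻¹ ∈ M := fun m => (Subgroup.mem_normalizer_iff.1 ha _).1 m.2
    let φ : M →* M :=
      { toFun := fun m => ⟨a * m * a⁻¹, hmem m⟩
        map_one' := Subtype.ext (by simp)
        map_mul' := fun m m' => Subtype.ext (by simp [mul_assoc]) }
    have hφ : Function.Surjective φ := fun m => by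
      refine ⟨⟨a⁻¹ * m * a, ?_⟩, Subtype.ext (show a * (a⁻¹ * (m : G) * a) * a⁻¹ = m by group)⟩
      have := (Subgroup.mem_normalizer_iff.1 ((Subgroup.normalizer (M : Set G)).inv_mem ha) (m : G)).1 m.2
      rwa [inv_inv] at this
    haveI : (W₀.map φ).Normal := Subgroup.Normal.map inferInstance φ hφ
    exact ⟨φ w', Fusion.le_pCore ((Fusion.isPGroup_pCore 2 M).map φ) (Subgroup.mem_map_of_mem φ hw'), rfl⟩
  have hDW : ∀ d ∈ Q, Commute d (F.u 0) → d ∈ W := by
    intro d hd hdu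
    let D : Subgroup M := (Q ⊓ Subgroup.centralizer ({F.u 0} : Set G)).subgroupOf M
    haveI : D.Normal := ⟨fun a ha m => by
      obtain ⟨a1, a2⟩ := ha
      refine ⟨F.S.norm m (hM.1 m.2).1 _ a1, Subgroup.mem_centralizer_singleton_iff.2 ?_⟩
      have hm := ((hM.1 m.2).2)
      have ha2 : Commute (a : G) (F.u 0) := Subgroup.mem_centralizer_singleton_iff.1 a2
      exact ((hm.mul_left ha2).mul_left hm.inv_left).eq⟩
    have hD2 : IsPGroup 2 D := (F.S.two.to_le inf_le_left).comap_of_injective M.subtype M.subtype_injective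
    exact ⟨⟨d, hM.2 ⟨F.cen_Q hd, hdu⟩⟩, Fusion.le_pCore hD2 ⟨hd, Subgroup.mem_centralizer_singleton_iff.2 hdu.eq⟩, rfl⟩
  -- an element of order three in `M`
  obtain ⟨x1, hx1M, hx13, hx11⟩ : ∃ x ∈ M, x ^ 3 = 1 ∧ x ≠ 1 := by
    obtain ⟨σ, hσ3, hσ1, hσ0⟩ := a5_three_at 0
    obtain ⟨c, hcσ, hcu⟩ := F.lift 0 hσ0
    have hc3 : (c : G) ^ 3 ∈ Q := by
      have := (F.ker (c ^ 3)).1 (by rw [map_pow, hcσ, pow_succ, pow_two, hσ3])
      simpa using this
    refine ⟨((c : G) ^ 4), M.pow_mem (hM.2 ⟨F.comm_z c, hcu⟩) 4, by rw [← pow_mul, show 4 * 3 = 3 * 4 from rfl,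
      pow_mul, q_pow_four F hc3], fun e => hσ1 ?_⟩
    have : F.π (c ^ 4) = 1 := by rw [show c ^ 4 = 1 from Subtype.ext (by simpa using e), map_one]
    rwa [map_pow, hcσ, pow_succ, pow_succ, pow_two, hσ3, one_mul] at this
  -- a power of `y` of order a power of three
  obtain ⟨b, m, hm, hbm⟩ : ∃ b m, ¬ 3 ∣ m ∧ orderOf y = 3 ^ b * m :=
    Nat.exists_eq_pow_mul_and_not_dvd (orderOf_pos y).ne' 3 (by norm_num)
  have hcyc : ∀ n : ℕ, (n % 3 = 0 → y ^ n * t * (y ^ n)⁻¹ = t) ∧ (n % 3 = 1 → y ^ n * t * (y ^ n)⁻¹ = F.u 0) ∧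
      (n % 3 = 2 → y ^ n * t * (y ^ n)⁻¹ = F.u 0 * t) := by
    intro n
    induction n with
    | zero => exact ⟨fun _ => by simp, fun e => absurd e (by norm_num), fun e => absurd e (by norm_num)⟩
    | succ n ih =>
      have hs : y ^ (n + 1) * t * (y ^ (n + 1))⁻¹ = y * (y ^ n * t * (y ^ n)⁻¹) * y⁻¹ := by
        rw [pow_succ']; group
      rw [hs]
      refine ⟨fun e => ?_, fun e => ?_, fun e => ?_⟩
      · rw [ih.2.2 (by omega), y3]
      · rw [ih.1 (by omega), y1]
      · rw [ih.2.1 (by omega), y2]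
  have hfour : ∀ {a : G}, (∀ w ∈ W, w * w = 1 → a * w * a⁻¹ = w → w = 1) →
      ∀ w ∈ W, a * w * a⁻¹ = w → w = 1 := by
    intro a ha w hw hwa
    by_contra hw1
    obtain ⟨n, hn⟩ := IsPGroup.iff_orderOf.1 hW2 ⟨w, hw⟩
    rw [Subgroup.orderOf_mk] at hn
    rcases n with _ | n
    · exact hw1 (orderOf_eq_one_iff.1 (hn.trans (pow_zero 2)))
    have hwa' : Commute a w := mul_inv_eq_iff_eq_mul.1 hwa
    have h0 := ha (w ^ (2 ^ n)) (W.pow_mem hw _) (by
      rw [← pow_add, ← two_mul, ← pow_succ', ← hn, pow_orderOf_eq_one])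
      (by rw [(hwa'.pow_right _).eq, mul_inv_cancel_right])
    have := orderOf_dvd_of_pow_eq_one h0
    rw [hn, Nat.pow_dvd_pow_iff_le_right (by norm_num)] at this
    omega
  -- fixed elements of rotating elements
  have hfpf : ∀ (i : G) (n : ℕ), Commute i t → n % 3 ≠ 0 → ∀ w ∈ W,
      (y ^ n * i) * w * (y ^ n * i)⁻¹ = w → Commute i (F.u 0) → w = 1 := by
    intro i n hit hn w hw hwa hiu
    refine hfour (a := y ^ n * i) (fun w hw hww hwa => ?_) w hw hwa
    obtain ⟨-, r1, r2⟩ := hcyc n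
    have hT : (y ^ n * i) * t * (y ^ n * i)⁻¹ ≠ t := by
      rw [show (y ^ n * i) * t * (y ^ n * i)⁻¹ = y ^ n * (i * t * i⁻¹) * (y ^ n)⁻¹ by group, hit.eq,
        mul_inv_cancel_right]
      rcases Nat.lt_or_ge (n % 3) 2 with h | h
      · rw [r1 (by omega)]; exact F.ne_z 0
      · rw [r2 (by omega)]; exact fun e => F.ne_one 0 (mul_eq_right.1 e)
    have hU : (y ^ n * i) * F.u 0 * (y ^ n * i)⁻¹ ≠ F.u 0 := by
      rw [show (y ^ n * i) * F.u 0 * (y ^ n * i)⁻¹ = y ^ n * (i * F.u 0 * i⁻¹) * (y ^ n)⁻¹ by group, hiu.eq,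
        mul_inv_cancel_right]
      rw [show y ^ n * F.u 0 * (y ^ n)⁻¹ = y ^ n * (y ^ 1 * t * (y ^ 1)⁻¹) * (y ^ n)⁻¹ by rw [pow_one, y1],
        show y ^ n * (y ^ 1 * t * (y ^ 1)⁻¹) * (y ^ n)⁻¹ = y ^ (n + 1) * t * (y ^ (n + 1))⁻¹ by
          rw [pow_add]; group]
      rcases Nat.lt_or_ge (n % 3) 2 with h | h
      · rw [(hcyc (n + 1)).2.2 (by omega)]; exact fun e => F.S.xt.ne (mul_eq_left.1 e)
      · rw [(hcyc (n + 1)).1 (by omega)]; exact fun e => F.ne_z 0 e.symm
    rcases hinv (hWM hw) hww with e | e | e | e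
    · exact e
    · exact absurd (e ▸ hwa) hT
    · exact absurd (e ▸ hwa) hU
    · exfalso
      rw [e, show (y ^ n * i) * (F.u 0 * t) * (y ^ n * i)⁻¹ = (y ^ n * i) * F.u 0 * (y ^ n * i)⁻¹ *
        ((y ^ n * i) * t * (y ^ n * i)⁻¹) by group,
        show (y ^ n * i) * F.u 0 * (y ^ n * i)⁻¹ = y ^ n * (i * F.u 0 * i⁻¹) * (y ^ n)⁻¹ by group, hiu.eq,
        mul_inv_cancel_right,
        show (y ^ n * i) * t * (y ^ n * i)⁻¹ = y ^ n * (i * t * i⁻¹) * (y ^ n)⁻¹ by group, hit.eq,
        mul_inv_cancel_right,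
        show y ^ n * F.u 0 * (y ^ n)⁻¹ = y ^ n * (y ^ 1 * t * (y ^ 1)⁻¹) * (y ^ n)⁻¹ by rw [pow_one, y1],
        show y ^ n * (y ^ 1 * t * (y ^ 1)⁻¹) * (y ^ n)⁻¹ = y ^ (n + 1) * t * (y ^ (n + 1))⁻¹ by
          rw [pow_add]; group] at hwa
      rcases Nat.lt_or_ge (n % 3) 2 with h | h
      · rw [(hcyc (n + 1)).2.2 (by omega), r1 (by omega), htu.eq, mul_assoc, hu, mul_one] at hwa
        exact F.ne_one 0 (left_eq_mul.1 hwa)
      · rw [(hcyc (n + 1)).1 (by omega), r2 (by omega), htu.eq, ← mul_assoc, htt, one_mul] at hwa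
        exact F.S.xt.ne (mul_eq_right.1 hwa.symm)
  -- a pair of commuting elements of three-power order
  obtain ⟨z, hz⟩ : ∃ z, z = y ^ m := ⟨_, rfl⟩
  have hz3 : z ^ (3 ^ b) = 1 := by rw [hz, ← pow_mul, mul_comm, ← hbm, pow_orderOf_eq_one]
  have hzN : z ∈ Subgroup.normalizer (M : Set G) := hz ▸ pow_mem hMy m
  obtain ⟨x, hxM, hx3, hx1', hxz⟩ : ∃ x ∈ M, x ^ 3 = 1 ∧ x ≠ 1 ∧ Commute z x := by
    let T := {a : G // a ∈ M ∧ a ^ 3 = 1}
    have hTsmul : ∀ k ∈ Subgroup.normalizer (M : Set G), ∀ a : T, k * (a : G) * k⁻¹ ∈ M ∧ (k * (a : G) * k⁻¹) ^ 3 = 1 :=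
      fun k hk a => ⟨(Subgroup.mem_normalizer_iff.1 hk _).1 a.2.1, by rw [conj_pow, a.2.2, mul_one, mul_inv_cancel]⟩
    letI : MulAction (Subgroup.normalizer (M : Set G)) T :=
      { smul := fun k a => ⟨k * a * (k : G)⁻¹, hTsmul k k.2 a⟩
        one_smul := fun a => Subtype.ext (show ((1 : Subgroup.normalizer (M : Set G)) : G) * a *
          ((1 : Subgroup.normalizer (M : Set G)) : G)⁻¹ = a by simp)
        mul_smul := fun k l a => Subtype.ext (show ((k * l : Subgroup.normalizer (M : Set G)) : G) * a *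
          ((k * l : Subgroup.normalizer (M : Set G)) : G)⁻¹ = k * (l * a * (l : G)⁻¹) * (k : G)⁻¹ by
            simp [mul_assoc]) }
    let xN : Subgroup.normalizer (M : Set G) := ⟨x1, Subgroup.le_normalizer hx1M⟩
    let zN : Subgroup.normalizer (M : Set G) := ⟨z, hzN⟩
    have hfix : ∀ (k : Subgroup.normalizer (M : Set G)) (a : T),
        a ∈ MulAction.fixedPoints (Subgroup.zpowers k) T ↔ Commute (k : G) a := by
      intro k a
      refine ⟨fun h => mul_inv_eq_iff_eq_mul.1 (congrArg Subtype.val (h ⟨k, Subgroup.mem_zpowers k⟩)),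
        fun h l => Subtype.ext ?_⟩
      obtain ⟨j, hj⟩ := Subgroup.mem_zpowers_iff.1 l.2
      show ((l : Subgroup.normalizer (M : Set G)) : G) * a * ((l : Subgroup.normalizer (M : Set G)) : G)⁻¹ = a
      rw [← hj, Subgroup.coe_zpow, (h.zpow_left j).eq, mul_inv_cancel_right]
    have hxN : xN ^ 3 = 1 := Subtype.ext hx13
    have hX : IsPGroup 3 (Subgroup.zpowers xN) :=
      IsPGroup.of_card (n := 1) (by
        rw [Nat.card_zpowers, orderOf_eq_prime hxN fun e => hx11 (congrArg Subtype.val e), pow_one])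
    have hZ : IsPGroup 3 (Subgroup.zpowers zN) := fun k => ⟨b, by
      obtain ⟨j, hj⟩ := Subgroup.mem_zpowers_iff.1 k.2
      refine Subtype.ext ?_
      rw [Subgroup.coe_pow, ← hj, ← zpow_natCast, ← zpow_mul, mul_comm, zpow_mul, zpow_natCast,
        show zN ^ 3 ^ b = 1 from Subtype.ext hz3, one_zpow]
      rfl⟩
    have h3 : Nat.card (MulAction.fixedPoints (Subgroup.zpowers xN) T) = 3 := by
      have hord : orderOf x1 = 3 := orderOf_eq_prime hx13 hx11
      refine le_antisymm ?_ ?_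
      · by_contra! hbig
        obtain ⟨a, haf, ha⟩ : ∃ a : T, a ∈ MulAction.fixedPoints (Subgroup.zpowers xN) T ∧ (a : G) ∉ Subgroup.zpowers x1 := by
          by_contra! hall
          have hle := Nat.card_le_card_of_injective
            (fun a : MulAction.fixedPoints (Subgroup.zpowers xN) T => (⟨(a.1 : G), hall a.1 a.2⟩ : Subgroup.zpowers x1))
            fun a c e => Subtype.ext (Subtype.ext (congrArg Subtype.val e :))
          rw [Nat.card_zpowers, hord] at hle
          omega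
        have hc : Commute x1 (a : G) := (hfix xN a).1 haf
        let R : Subgroup G := Subgroup.zpowers x1 ⊔ Subgroup.zpowers (a : G)
        have hRM : R ≤ M := sup_le (Subgroup.zpowers_le.2 hx1M) (Subgroup.zpowers_le.2 a.2.1)
        have hR : IsPGroup 3 R := by
          refine IsPGroup.to_sup_of_normal_right' (IsPGroup.of_card (n := 1) (by rw [Nat.card_zpowers, hord, pow_one])) ?_ ?_
          · exact fun k => ⟨1, by
              obtain ⟨j, hj⟩ := Subgroup.mem_zpowers_iff.1 k.2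
              refine Subtype.ext ?_
              rw [Subgroup.coe_pow, ← hj, pow_one, ← zpow_natCast, ← zpow_mul, mul_comm, zpow_mul, zpow_natCast, a.2.2,
                one_zpow]
              rfl⟩
          · rw [Subgroup.zpowers_le]
            refine Subgroup.mem_normalizer_fintype fun k hk => ?_
            obtain ⟨j, rfl⟩ := Subgroup.mem_zpowers_iff.1 hk
            rw [(hc.zpow_right j).eq, mul_inv_cancel_right]
            exact hk
        obtain ⟨j, hj⟩ := hR.exists_card_eq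
        have hlt : Nat.card (Subgroup.zpowers x1) < Nat.card R := by
          refine lt_of_le_of_ne (Nat.le_of_dvd Nat.card_pos (Subgroup.card_dvd_of_le le_sup_left)) fun e => ha ?_
          rw [Subgroup.eq_of_le_of_card_ge (le_sup_left (b := Subgroup.zpowers (a : G))) e.ge]
          exact Subgroup.mem_sup_right (Subgroup.mem_zpowers _)
        rw [Nat.card_zpowers, hord, hj] at hlt
        have hj2 : 2 ≤ j := by
          by_contra! hlt2
          interval_cases j <;> norm_num at hlt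
        have h9 : 3 ^ 2 ∣ 1920 := (pow_dvd_pow 3 hj2).trans (hj ▸ (Subgroup.card_dvd_of_le hRM).trans hdvd)
        norm_num at h9
      · have hmem : ∀ a ∈ Subgroup.zpowers x1, a ∈ M ∧ a ^ 3 = 1 ∧ Commute x1 a := by
          intro a ha
          obtain ⟨j, rfl⟩ := Subgroup.mem_zpowers_iff.1 ha
          refine ⟨M.zpow_mem hx1M j, ?_, (Commute.refl x1).zpow_right j⟩
          rw [← zpow_natCast, ← zpow_mul, mul_comm, zpow_mul, zpow_natCast, hx13, one_zpow]
        have hle := Nat.card_le_card_of_injective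
          (fun a : Subgroup.zpowers x1 => (⟨⟨a, (hmem a a.2).1, (hmem a a.2).2.1⟩,
            (hfix xN _).2 (hmem a a.2).2.2⟩ : MulAction.fixedPoints (Subgroup.zpowers xN) T))
          fun a c e => Subtype.ext (congrArg (fun d : MulAction.fixedPoints (Subgroup.zpowers xN) T => (d.1 : G)) e :)
        rw [Nat.card_zpowers, hord] at hle
        exact hle
    have hT : Nat.card T ≡ 0 [MOD 3] := by
      have := hX.card_modEq_card_fixedPoints T
      rw [h3] at this
      exact this.trans (by decide)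
    have hfz := (hZ.card_modEq_card_fixedPoints T).symm.trans hT
    let o : T := ⟨1, M.one_mem, one_pow 3⟩
    have ho : o ∈ MulAction.fixedPoints (Subgroup.zpowers zN) T := (hfix _ _).2 (Commute.one_right _)
    haveI : Nontrivial (MulAction.fixedPoints (Subgroup.zpowers zN) T) := by
      refine Finite.one_lt_card_iff_nontrivial.1 ?_
      have hpos : 0 < Nat.card (MulAction.fixedPoints (Subgroup.zpowers zN) T) := by
        haveI : Nonempty (MulAction.fixedPoints (Subgroup.zpowers zN) T) := ⟨⟨o, ho⟩⟩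
        exact Nat.card_pos
      obtain ⟨k, hk⟩ := (Nat.modEq_zero_iff_dvd).1 hfz
      omega
    obtain ⟨a, ha⟩ := exists_ne (⟨o, ho⟩ : MulAction.fixedPoints (Subgroup.zpowers zN) T)
    exact ⟨(a.1 : G), a.1.2.1, a.1.2.2, fun e => ha (Subtype.ext (Subtype.ext e)), (hfix _ _).1 a.2⟩
  obtain ⟨hxt, hxu⟩ := hM.1 hxM
  -- the free action
  let P : Subgroup G := Subgroup.zpowers x ⊔ Subgroup.zpowers z
  have hPform : ∀ a ∈ P, ∃ (i : ℤ) (n : ℕ), a = z ^ n * x ^ i := by
    intro a ha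
    have hn : Subgroup.zpowers x ≤ Subgroup.normalizer ((Subgroup.zpowers z : Subgroup G) : Set G) := by
      rw [Subgroup.zpowers_le]
      refine Subgroup.mem_normalizer_fintype fun k hk => ?_
      obtain ⟨j, rfl⟩ := Subgroup.mem_zpowers_iff.1 hk
      rw [(hxz.symm.zpow_right j).eq, mul_inv_cancel_right]
      exact hk
    rw [← SetLike.mem_coe, Subgroup.coe_mul_of_left_le_normalizer_right _ _ hn] at ha
    obtain ⟨u, hu', v, hv, rfl⟩ := ha
    obtain ⟨i, rfl⟩ := Subgroup.mem_zpowers_iff.1 hu'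
    obtain ⟨n, rfl⟩ := (mem_powers_iff_mem_zpowers).2 hv
    exact ⟨i, n, ((hxz.symm.zpow_left i).pow_right n).eq⟩
  have hP3 : IsPGroup 3 P := fun a => by
    obtain ⟨i, n, e⟩ := hPform a a.2
    refine ⟨b + 1, Subtype.ext ?_⟩
    rw [Subgroup.coe_pow, e, Commute.mul_pow ((hxz.zpow_right i).pow_left n)]
    have e1 : (z ^ n) ^ 3 ^ (b + 1) = 1 := by
      rw [← pow_mul, mul_comm, pow_mul, pow_succ, pow_mul, hz3, one_pow, one_pow]
    have e2 : (x ^ i) ^ 3 ^ (b + 1) = 1 := by
      rw [← zpow_natCast, ← zpow_mul, mul_comm, zpow_mul, zpow_natCast, pow_succ', pow_mul, hx3, one_pow, one_zpow]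
    rw [e1, e2, one_mul]
    rfl
  have h9 : 9 ∣ Nat.card P := by
    obtain ⟨j, hj⟩ := hP3.exists_card_eq
    have hlt : Nat.card (Subgroup.zpowers x) < Nat.card P := by
      refine lt_of_le_of_ne (Nat.le_of_dvd Nat.card_pos (Subgroup.card_dvd_of_le le_sup_left)) fun e => ?_
      have hzx : z ∈ Subgroup.zpowers x := by
        rw [Subgroup.eq_of_le_of_card_ge (le_sup_left (b := Subgroup.zpowers z)) e.ge]
        exact Subgroup.mem_sup_right (Subgroup.mem_zpowers _)
      obtain ⟨i, hi⟩ := Subgroup.mem_zpowers_iff.1 hzx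
      have hzt : z * t * z⁻¹ = t := by rw [← hi, (hxt.zpow_left i).eq, mul_inv_cancel_right]
      rw [hz] at hzt
      rcases Nat.lt_or_ge (m % 3) 2 with h' | h'
      · rw [(hcyc m).2.1 (by omega)] at hzt; exact F.ne_z 0 hzt
      · rw [(hcyc m).2.2 (by omega)] at hzt; exact F.ne_one 0 (mul_eq_right.1 hzt)
    rw [Nat.card_zpowers, orderOf_eq_prime hx3 hx1', hj] at hlt
    have hj2 : 2 ≤ j := by
      by_contra! hlt2
      interval_cases j <;> norm_num at hlt
    rw [hj]
    exact pow_dvd_pow 3 hj2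
  have hPW : ∀ a ∈ P, ∀ w ∈ W, a * w * a⁻¹ ∈ W ∧ (Commute x w ↔ Commute x (a * w * a⁻¹)) := by
    intro a ha w hw
    obtain ⟨i, n, e⟩ := hPform a ha
    have hax : Commute a x := e ▸ (hxz.pow_left n).mul_left ((Commute.refl x).zpow_left i)
    refine ⟨hWn a ?_ w hw, ?_⟩
    · rw [e]
      exact mul_mem (pow_mem hzN n) (zpow_mem (Subgroup.le_normalizer hxM) i)
    · conv_rhs => rw [show x = a * x * a⁻¹ by rw [hax.eq, mul_inv_cancel_right], Commute.conj_iff]
  let Ω := {w : G // w ∈ W ∧ ¬ Commute x w}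
  letI : MulAction P Ω :=
    { smul := fun a w => ⟨a * w * (a : G)⁻¹, (hPW a a.2 w w.2.1).1, fun h => w.2.2 ((hPW a a.2 w w.2.1).2.2 h)⟩
      one_smul := fun w => Subtype.ext (show ((1 : P) : G) * w * ((1 : P) : G)⁻¹ = w by simp)
      mul_smul := fun a c w => Subtype.ext (show ((a * c : P) : G) * w * ((a * c : P) : G)⁻¹ =
        a * (c * w * (c : G)⁻¹) * (a : G)⁻¹ by simp [mul_assoc]) }
  have hfree : ∀ w : Ω, MulAction.stabilizer P w = ⊥ := by
    intro w
    rw [eq_bot_iff]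
    intro a ha
    obtain ⟨i, n, e⟩ := hPform a a.2
    have hwa : (a : G) * w * (a : G)⁻¹ = w := congrArg Subtype.val ha
    rw [Subgroup.mem_bot]
    refine Subtype.ext ?_
    by_cases hn : n % 3 = 0
    · -- an element of three-power order in `M` commuting with `x`
      by_contra ha1
      have hzM : z ^ n ∈ M := by
        refine hM.2 ⟨?_, ?_⟩
        · refine mul_inv_eq_iff_eq_mul.1 ?_
          rw [hz, ← pow_mul]
          exact (hcyc _).1 (by rw [Nat.mul_mod, hn, mul_zero, Nat.zero_mod])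
        · refine mul_inv_eq_iff_eq_mul.1 ?_
          rw [← y1, hz, ← pow_mul, show y ^ (m * n) * (y * t * y⁻¹) * (y ^ (m * n))⁻¹ =
            y * (y ^ (m * n) * t * (y ^ (m * n))⁻¹) * y⁻¹ by group, (hcyc _).1
              (by rw [Nat.mul_mod, hn, mul_zero, Nat.zero_mod])]
      have haM : (a : G) ∈ M := e ▸ M.mul_mem hzM (M.zpow_mem hxM i)
      let R : Subgroup G := Subgroup.zpowers x ⊔ Subgroup.zpowers (a : G)
      have hRP : R ≤ P := sup_le le_sup_left (Subgroup.zpowers_le.2 a.2)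
      have hRM : R ≤ M := sup_le (Subgroup.zpowers_le.2 hxM) (Subgroup.zpowers_le.2 haM)
      obtain ⟨j, hj⟩ := (hP3.to_le hRP).exists_card_eq
      have hax : (a : G) ∈ Subgroup.zpowers x := by
        by_contra hax
        have hlt : Nat.card (Subgroup.zpowers x) < Nat.card R := by
          refine lt_of_le_of_ne (Nat.le_of_dvd Nat.card_pos (Subgroup.card_dvd_of_le le_sup_left)) fun e' => hax ?_
          rw [Subgroup.eq_of_le_of_card_ge (le_sup_left (b := Subgroup.zpowers (a : G))) e'.ge]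
          exact Subgroup.mem_sup_right (Subgroup.mem_zpowers _)
        rw [Nat.card_zpowers, orderOf_eq_prime hx3 hx1', hj] at hlt
        have hj2 : 2 ≤ j := by
          by_contra! hlt2
          interval_cases j <;> norm_num at hlt
        have h9 : 3 ^ 2 ∣ 1920 := (pow_dvd_pow 3 hj2).trans (hj ▸ (Subgroup.card_dvd_of_le hRM).trans hdvd)
        norm_num at h9
      have hgen : Subgroup.zpowers (a : G) = Subgroup.zpowers x := by
        refine Subgroup.eq_of_le_of_card_ge (Subgroup.zpowers_le.2 hax) ?_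
        rw [Nat.card_zpowers, Nat.card_zpowers]
        exact Nat.le_of_dvd (orderOf_pos _) (by
          have hd : orderOf (a : G) ∣ orderOf x := by
            rw [← Nat.card_zpowers, ← Nat.card_zpowers]
            exact Subgroup.card_dvd_of_le (Subgroup.zpowers_le.2 hax)
          rw [orderOf_eq_prime hx3 hx1'] at hd ⊢
          rcases (Nat.dvd_prime Nat.prime_three).1 hd with h' | h'
          · exact absurd (orderOf_eq_one_iff.1 h') ha1
          · rw [h'])
      obtain ⟨j', hj'⟩ := Subgroup.mem_zpowers_iff.1 (hgen.ge (Subgroup.mem_zpowers x))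
      refine w.2.2 ?_
      have hcw : Commute ((a : G) ^ j') (w : G) := Commute.zpow_left (mul_inv_eq_iff_eq_mul.1 hwa) j'
      rwa [hj'] at hcw
    · exfalso
      refine w.2.2 ?_
      have h0 : (w : G) = 1 := hfpf (x ^ i) (m * n) (hxt.zpow_left i)
        (fun h => hn (by
          rcases (Nat.prime_three.dvd_mul).1 (Nat.dvd_of_mod_eq_zero h) with h' | h'
          · exact absurd h' hm
          · exact Nat.mod_eq_zero_of_dvd h'))
        w w.2.1 (by rw [pow_mul, ← hz, ← e]; exact hwa) (hxu.zpow_left i)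
      rw [h0]
      exact Commute.one_right _
  have hdivΩ : Nat.card P ∣ Nat.card Ω :=
    ⟨Nat.card (Quotient (MulAction.orbitRel P Ω)), by
      rw [Nat.card_congr (MulAction.selfEquivOrbitsQuotientProd hfree), Nat.card_prod, mul_comm]⟩
  let A : Subgroup G := W ⊓ Subgroup.centralizer ({x} : Set G)
  have hA : ∀ {w : G}, w ∈ A ↔ w ∈ W ∧ Commute x w := fun {w} => by
    simp only [A, Subgroup.mem_inf, Subgroup.mem_centralizer_singleton_iff]
    exact and_congr_right fun _ => eq_comm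
  have hsplit : Nat.card W = Nat.card A + Nat.card Ω := by
    rw [← Nat.card_sum]
    exact Nat.card_congr
      ((Equiv.sumCompl fun w : W => Commute x (w : G)).symm.trans
        (Equiv.sumCongr
          { toFun := fun w => ⟨w.1, hA.2 ⟨w.1.2, w.2⟩⟩
            invFun := fun a => ⟨⟨a, (hA.1 a.2).1⟩, (hA.1 a.2).2⟩
            left_inv := fun _ => rfl
            right_inv := fun _ => rfl }
          { toFun := fun w => ⟨w.1, w.1.2, w.2⟩
            invFun := fun a => ⟨⟨a.1, a.2.1⟩, a.2.2⟩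
            left_inv := fun _ => rfl
            right_inv := fun _ => rfl }))
  obtain ⟨k, hk⟩ := hW2.exists_card_eq
  have hA2 : IsPGroup 2 A := hW2.to_le inf_le_left
  obtain ⟨j, hj⟩ := hA2.exists_card_eq
  have hk7 : k ≤ 7 := by
    have h' : 2 ^ k ∣ 1920 := hk ▸ (Subgroup.card_dvd_of_le (hWM.trans hMt)).trans (card_centralizer F).dvd
    by_contra! h8
    have := (pow_dvd_pow 2 (show 8 ≤ k by omega)).trans h'
    norm_num at this
  have hj2 : 2 ≤ j := by
    have hV : ∀ w, w = 1 ∨ w = t ∨ w = F.u 0 ∨ w = F.u 0 * t → w ∈ A := by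
      have htW : t ∈ W := hDW t F.S.xt.mem htu.symm
      have huW : F.u 0 ∈ W := hDW _ (F.mem 0) (Commute.refl _)
      rintro w (rfl | rfl | rfl | rfl)
      · exact A.one_mem
      · exact hA.2 ⟨htW, hxt⟩
      · exact hA.2 ⟨huW, hxu⟩
      · exact hA.2 ⟨W.mul_mem huW htW, hxu.mul_right hxt⟩
    have h4 : F.u 0 * t ≠ 1 := fun h => F.ne_z 0 ((mul_eq_one_iff_eq_inv.1 h).trans (inv_eq_of_mul_eq_one_right htt))
    have h5 : F.u 0 * t ≠ t := fun h => F.ne_one 0 (mul_eq_right.1 h)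
    have h6 : F.u 0 * t ≠ F.u 0 := fun h => F.S.xt.ne (mul_eq_left.1 h)
    have h4c : ({1, t, F.u 0, F.u 0 * t} : Finset G).card = 4 := by
      rw [Finset.card_insert_of_notMem, Finset.card_insert_of_notMem, Finset.card_pair h6.symm]
      · simp only [Finset.mem_insert, Finset.mem_singleton, not_or]
        exact ⟨(F.ne_z 0).symm, h5.symm⟩
      · simp only [Finset.mem_insert, Finset.mem_singleton, not_or]
        exact ⟨F.S.xt.ne.symm, (F.ne_one 0).symm, h4.symm⟩
    have hle := Nat.card_le_card_of_injective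
      (fun w : ({1, t, F.u 0, F.u 0 * t} : Finset G) => (⟨(w : G), hV w (by
        have h := w.2
        simp only [Finset.mem_insert, Finset.mem_singleton] at h
        exact h)⟩ : A))
      fun v w e => Subtype.ext (congrArg Subtype.val e :)
    rw [hj, Nat.card_eq_finsetCard, h4c] at hle
    by_contra! hlt
    interval_cases j <;> norm_num at hle
  have hne : ∃ w : G, w ∈ W ∧ ¬ Commute x w := by
    have hg3 : F.π (cen t hxt) * F.π (cen t hxt) * F.π (cen t hxt) = 1 := by
      rw [← map_mul, ← map_mul, show cen t hxt * cen t hxt * cen t hxt = 1 from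
        Subtype.ext (by show x * x * x = 1; rw [← hx3, pow_succ, pow_two]), map_one]
    have hg1 : F.π (cen t hxt) ≠ 1 := fun e => hx1' (by
      have hq4 := q_pow_four F ((F.ker _).1 e)
      have : x ^ 4 = x := by rw [pow_succ, hx3, one_mul]
      rw [← this]; exact hq4)
    have hg0 : (F.π (cen t hxt) : Perm (Fin 5)) 0 = 0 := F.fix_of_commute (c := cen t hxt) hxu
    obtain ⟨v, hv, hv0, hvne⟩ := three_moves 0 _ hg3 hg1 hg0
    obtain ⟨d, hd, rfl⟩ := F.vec_surj hv
    refine ⟨d, hDW d hd (F.vec_eq_zero_iff.1 hv0), fun hcd => hvne ?_⟩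
    rw [← F.vconj (cen t hxt) hd]
    show F.vec (x * d * x⁻¹) = F.vec d
    rw [hcd.eq, mul_inv_cancel_right]
  obtain ⟨w0, hw0⟩ := hne
  haveI : Nonempty Ω := ⟨⟨w0, hw0⟩⟩
  have hpos : 0 < Nat.card Ω := Nat.card_pos
  have hjk : j < k := by
    refine (Nat.pow_lt_pow_iff_right (by norm_num : 1 < 2)).1 ?_
    rw [← hj, ← hk]; omega
  obtain ⟨r, hr⟩ := h9.trans hdivΩ
  rw [hk, hj, hr] at hsplit
  interval_cases k <;> interval_cases j <;> norm_num at hsplit <;> omega


end Cfsg.Agent.Spor.JThree
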