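import Cfsg.Agent.Lib.Spor.JThree.Data

/-!
# The two generators of the complement: words and relators
-/

set_option autoImplicit false
set_option maxRecDepth 100000

namespace Cfsg.Agent.Spor.JThree

/-- indices of the two generators of `A₅`, of orders two and three -/
def genIdx (x : ℕ) : ℕ := if x = 0 then 3 else 19

/-- parent and last letter in the tree of words -/
def parL : List ℕ := [0, 101, 53, 0, 27, 77, 2, 99, 29, 73, 10, 51, 105, 36, 42, 79, 38, 5, 103, 1, 59, 55, 34, 40, 87, 60, 66, 109, 9, 68, 31, 56, 70, 85, 7, 33, 117, 39, 65, 72, 86, 92, 74, 13, 41, 37, 63, 88, 69, 95, 47, 96, 21, 71, 98, 104, 118, 67, 106, 45]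

def wordOf : ℕ → ℕ → List ℕ
  | 0, _ => []
  | f + 1, g => if g = 0 then [] else wordOf f (parL.getD g 0 / 2) ++ [parL.getD g 0 % 2]

/-- the word of a permutation -/
def wrd (g : ℕ) : List ℕ := wordOf 14 g

/-- the relators -/
def rels : List (List ℕ) := [[0, 0], [1, 1, 1], [0, 1, 0, 1, 0, 1, 0, 1, 0, 1]]

/-- order of deduction: vertex, relator, position -/
def deds : List (ℕ × ℕ × ℕ) := [(0, 0, 1), (0, 1, 2), (1, 0, 1), (1, 1, 0), (2, 1, 1), (3, 1, 2), (4, 1, 1), (5, 0, 1), (5, 1, 0), (6, 1, 2), (7, 1, 0), (9, 1, 0), (10, 1, 2), (13, 0, 0), (14, 0, 0), (15, 1, 1), (16, 0, 0), (16, 1, 2), (17, 0, 1), (18, 1, 1), (20, 0, 1), (20, 1, 1), (21, 1, 0), (23, 2, 6), (24, 0, 0), (25, 0, 0), (26, 0, 0), (28, 0, 1), (29, 0, 0), (32, 0, 0), (32, 2, 6), (33, 1, 1), (36, 0, 1), (37, 0, 1), (40, 0, 0), (41, 0, 0), (42, 2, 8), (44, 0, 1), (47, 2, 8), (48, 0, 1), (49, 0, 1), (50, 0, 1), (51, 2, 8), (52, 0, 1), (53, 0, 1), (56, 0, 0), (57, 2, 5), (58, 2, 8), (59, 1, 0), (2, 0, 1), (4, 0, 1), (7, 2, 5), (8, 1, 0), (9, 2, 5),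 (11, 1, 0), (12, 0, 0), (21, 2, 2), (38, 0, 1), (45, 2, 5), (46, 1, 0), (55, 2, 6)]

/-- the next vertex -/
def nxt (g x : ℕ) : ℕ := gTab g (genIdx x)

/-- end of a path -/
def endp : ℕ → List ℕ → ℕ
  | g, [] => g
  | g, x :: w => endp (nxt g x) w

/-- edges of a path -/
def edges : ℕ → List ℕ → List (ℕ × ℕ)
  | _, [] => []
  | g, x :: w => (g, x) :: edges (nxt g x) w

/-- checking the deductions -/
def deduce : List (ℕ × ℕ × ℕ) → List (ℕ × ℕ) → Bool
  | [], known => (List.range 60).all fun g => decide ((g, 0) ∈ known) && decide ((g, 1) ∈ known)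
  | (g, r, p) :: rest, known =>
    (fun R => decide (R ∈ rels) && decide (R.take p ++ R.getD p 0 :: R.drop (p + 1) = R) && Nat.beq (endp g R) g &&
      ((edges g (R.take p)).all fun e => decide (e ∈ known)) &&
      ((edges (nxt (endp g (R.take p)) (R.getD p 0)) (R.drop (p + 1))).all fun e => decide (e ∈ known)) &&
      deduce rest ((endp g (R.take p), R.getD p 0) :: known)) (rels.getD r [])

/-- edges of the tree -/
def treeEdges : List (ℕ × ℕ) := ((List.range 60).filter (· != 0)).map fun g => (parL.getD g 0 / 2, parL.getD g 0 % 2)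

theorem deduce_ok : deduce deds treeEdges = true := by decide +kernel

theorem tree_ok : ((List.range 60).all fun g => Nat.beq g 0 ||
    (decide (wrd g = wrd (parL.getD g 0 / 2) ++ [parL.getD g 0 % 2]) &&
      Nat.beq (nxt (parL.getD g 0 / 2) (parL.getD g 0 % 2)) g)) = true := by decide +kernel

theorem wrd_zero : wrd 0 = [] := by decide +kernel

theorem endp_ok : ((List.range 60).all fun g => (List.range 60).all fun h =>
    Nat.beq (endp g (wrd h)) (gTab g h) && Nat.ble (gTab g h + 1) 60) = true := by decide +kernel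

theorem wrd_letters : ((List.range 60).all fun h => (wrd h).all fun x => Nat.ble x 1) = true := by decide +kernel

theorem ptab_ok : ((List.range 60).all fun g => (List.range 5).all fun i =>
    Nat.ble (pTab g i + 1) 5 &&
    Nat.beq (pTab (nxt g 0) i) (pTab g (pTab (genIdx 0) i)) &&
    Nat.beq (pTab (nxt g 1) i) (pTab g (pTab (genIdx 1) i))) = true := by decide +kernel

/-- a coset representative of the stabilizer of `0` -/
def trans (i : ℕ) : ℕ := ((List.range 60).find? fun g => Nat.beq (pTab g 0) i).getD 0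

/-- its inverse -/
def transInv (i : ℕ) : ℕ := ((List.range 60).find? fun g => Nat.beq (gTab g (trans i)) 0).getD 0

theorem trans_ok : ((List.range 5).all fun i => Nat.beq (pTab (trans i) 0) i && Nat.ble (trans i + 1) 60 &&
    Nat.ble (transInv i + 1) 60 && Nat.beq (gTab (transInv i) (trans i)) 0) = true := by decide +kernel

theorem stab_ok : ((List.range 60).all fun g => (List.range 5).all fun i =>
    (fun j h => Nat.beq (gTab (trans j) h) (gTab g (trans i)) && Nat.beq (pTab h 0) 0)
      (pTab g i) (gTab (transInv (pTab g i)) (gTab g (trans i)))) = true := by decide +kernel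

theorem stab_gen_ok : ((List.range 60).all fun g => !(Nat.beq (pTab g 0) 0) || (List.range 60).any fun a =>
    Nat.beq (pTab a 0) 0 && Nat.beq (gTab (gTab a a) a) 0 && (List.range 60).any fun b =>
      Nat.beq (pTab b 0) 0 && Nat.beq (gTab (gTab b b) b) 0 && Nat.beq (gTab a b) g) = true := by decide +kernel

/-- the members of a subset of `0, 1, 2, 3` -/
def bits (s : ℕ) : List ℕ := (List.range 4).filter fun i => Nat.beq (s / 2 ^ i % 2) 1

/-- the count of members above a point -/
def above (x m : ℕ) : ℕ := ((List.range 4).filter fun i => Nat.blt x i && Nat.beq (m / 2 ^ i % 2) 1).length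

/-- adding one of the first four involutions on the right -/
def put (st : ℕ × ℕ) (x : ℕ) : ℕ × ℕ := ((st.1 + above x st.2) % 2, Nat.xor st.2 (2 ^ x))

/-- expansion of the fifth involution -/
def expand (x : ℕ) : List ℕ := if x = 4 then [0, 1, 2, 3] else [x]

/-- normal form of a word in the five involutions -/
def nrm (w : List ℕ) : ℕ := (fun st => st.1 + 2 * st.2) ((w.flatMap expand).foldl put (0, 0))

theorem tables_ok : ((List.range 16).all fun s =>
    ((List.range 16).all fun s' => Nat.beq (bTab s s') (nrm (bits s ++ bits s'))) &&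
    (List.range 60).all fun g => Nat.beq (aTab g s) (nrm ((bits s).map (pTab g)))) = true := by decide +kernel

theorem tables_lt : ((List.range 16).all fun s =>
    ((List.range 16).all fun s' => Nat.blt (bTab s s') 32) &&
    (List.range 60).all fun g => Nat.blt (aTab g s) 32) = true := by decide +kernel

end Cfsg.Agent.Spor.JThree
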