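import Mathlib
import Cfsg.Agent.Lib.Lie.HJType.Outer
import Cfsg.Agent.Lib.Spor.JThree.Words

/-!
Coordinates on an involution centralizer `2^{1+4}_-:A₅`.
-/

set_option autoImplicit false
set_option linter.style.haveILetI false
set_option linter.unusedSectionVars false
set_option maxHeartbeats 1000000

namespace Cfsg.Agent.Spor.JThree

open Equiv Cfsg.Agent.Lie Cfsg.Agent.Lie.HJType

universe u

local notation "A5" => alternatingGroup (Fin 5)

/-- coordinates on the centralizer -/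
structure Coord {G : Type u} [Group G] (t : G) where
  dec : ℕ → ↥(Subgroup.centralizer ({t} : Set G))
  surj : ∀ c, ∃ x < 1920, dec x = c
  inj : ∀ x < 1920, ∀ y < 1920, dec x = dec y → x = y
  zero : dec 0 = 1
  one : (dec 1 : G) = t
  mul : ∀ x < 1920, ∀ y < 1920, dec (mc x y) = dec x * dec y
  lt : ∀ x < 1920, ∀ y < 1920, mc x y < 1920

theorem a5_gen_facts : ∀ σ β : A5, (∀ i : Fin 5, ((σ : Perm (Fin 5)) i).val = pTab (genIdx 0) i.val) →
    (∀ i : Fin 5, ((β : Perm (Fin 5)) i).val = pTab (genIdx 1) i.val) →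
    σ * σ = 1 ∧ σ ≠ 1 ∧ β * β * β = 1 ∧ (σ * β) ^ 5 = 1 ∧ σ * β ≠ 1 := by decide +kernel

theorem a5_gen_exists : ∀ x < 2, ∃ σ : A5, ∀ i : Fin 5, ((σ : Perm (Fin 5)) i).val = pTab (genIdx x) i.val := by
  decide +kernel

theorem a5_index : ∀ σ : A5, ∃ g < 60, ∀ i : Fin 5, ((σ : Perm (Fin 5)) i).val = pTab g i.val := by decide +kernel

theorem five_fpf : ∀ γ : A5, γ ^ 5 = 1 → γ ≠ 1 → ∀ v, Even5 v → actv γ v = v → v = 0 := by decide +kernel

/-- the vector of a normal form -/
def vecm (m : ℕ) : Fin 5 → ZMod 2 :=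
  (if m / 1 % 2 = 1 then E 0 else 0) + (if m / 2 % 2 = 1 then E 1 else 0) +
    (if m / 4 % 2 = 1 then E 2 else 0) + (if m / 8 % 2 = 1 then E 3 else 0)

theorem vecm_surj : ∀ v, Even5 v → ∃ m < 16, vecm m = v := by decide +kernel

theorem sum_E : E 0 + E 1 + E 2 + E 3 + E 4 = 0 := by decide +kernel

theorem code_parts {z p b g : ℕ} (hz : z = p % 2 + 2 * (b / 2) + 32 * g) (hb : b < 32) :
    z % 2 = p % 2 ∧ z / 2 % 16 = b / 2 ∧ z / 32 = g := by omega

/-! ### the complement -/

section Words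

variable {H : Type u} [Group H] (X : ℕ → H)

/-- the value of a word -/
def ev (w : List ℕ) : H := (w.map X).prod

/-- the element over a permutation -/
def kk (g : ℕ) : H := ev X (wrd g)

theorem kk_zero : kk X 0 = 1 := by rw [kk, wrd_zero]; rfl

theorem path {g : ℕ} {w : List ℕ} (h : ∀ e ∈ edges g w, kk X e.1 * X e.2 = kk X (nxt e.1 e.2)) :
    kk X g * ev X w = kk X (endp g w) := by
  induction w generalizing g with
  | nil => simp [ev, endp]
  | cons x w ih =>
    simp only [edges, List.mem_cons, forall_eq_or_imp] at h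
    rw [endp, ← ih h.2, ← h.1]
    simp [ev, mul_assoc]

theorem ev_append (v w : List ℕ) : ev X (v ++ w) = ev X v * ev X w := by simp [ev]

theorem deduce_sound (hrel : ∀ R ∈ rels, ev X R = 1) :
    ∀ (l : List (ℕ × ℕ × ℕ)) (known : List (ℕ × ℕ)), deduce l known = true →
      (∀ e ∈ known, kk X e.1 * X e.2 = kk X (nxt e.1 e.2)) →
      ∀ g < 60, ∀ x ≤ 1, kk X g * X x = kk X (nxt g x)
  | [], known, h, hk => by
    intro g hg x hx
    simp only [deduce, List.all_eq_true, List.mem_range, Bool.and_eq_true, decide_eq_true_eq] at h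
    interval_cases x
    · exact hk _ (h g hg).1
    · exact hk _ (h g hg).2
  | (g, r, p) :: rest, known, h, hk => by
    simp only [deduce, Bool.and_eq_true, decide_eq_true_eq, List.all_eq_true] at h
    obtain ⟨⟨⟨⟨⟨hR, hsplit⟩, hend⟩, h1⟩, h2⟩, h3⟩ := h
    refine deduce_sound hrel rest _ h3 fun e he => ?_
    rcases List.mem_cons.1 he with rfl | he
    · set R := rels.getD r [] with hRdef
      set m := endp g (R.take p)
      set x := R.getD p 0
      have e1 : kk X g * ev X (R.take p) = kk X m := path X fun e he => hk e (h1 e he)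
      have e2 : kk X (nxt m x) * ev X (R.drop (p + 1)) = kk X (endp (nxt m x) (R.drop (p + 1))) :=
        path X fun e he => hk e (h2 e he)
      have happ : ∀ (w v : List ℕ) (a : ℕ), endp a (w ++ v) = endp (endp a w) v := by
        intro w v
        induction w with
        | nil => intro a; rfl
        | cons y w ih => intro a; exact ih _
      have hg : endp (nxt m x) (R.drop (p + 1)) = g := by
        have := Nat.eq_of_beq_eq_true hend
        rw [← hsplit, happ] at this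
        exact this
      rw [hg] at e2
      have hone := hrel R hR
      rw [← hsplit, ev_append, show ev X (x :: R.drop (p + 1)) = X x * ev X (R.drop (p + 1)) by simp [ev]] at hone
      show kk X m * X x = kk X (nxt m x)
      refine mul_right_cancel (b := ev X (R.drop (p + 1))) ?_
      rw [e2, ← e1, mul_assoc, mul_assoc, hone, mul_one]
    · exact hk e he

theorem kk_step (hrel : ∀ R ∈ rels, ev X R = 1) : ∀ g < 60, ∀ x ≤ 1, kk X g * X x = kk X (nxt g x) := by
  refine deduce_sound X hrel deds treeEdges deduce_ok fun e he => ?_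
  simp only [treeEdges, List.mem_map, List.mem_filter, List.mem_range, bne_iff_ne] at he
  obtain ⟨g, ⟨hg, hg0⟩, rfl⟩ := he
  have h := List.all_eq_true.1 tree_ok g (List.mem_range.2 hg)
  simp only [Bool.or_eq_true, Bool.and_eq_true, decide_eq_true_eq] at h
  rcases h with h | ⟨hw, hn⟩
  · exact absurd (Nat.eq_of_beq_eq_true h) hg0
  dsimp only
  rw [Nat.eq_of_beq_eq_true hn]
  conv_rhs => rw [kk, hw, ev_append]
  simp [kk, ev]

theorem gTab_lt {g h : ℕ} (hg : g < 60) (hh : h < 60) : gTab g h < 60 ∧ endp g (wrd h) = gTab g h := by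
  have := List.all_eq_true.1 (List.all_eq_true.1 endp_ok g (List.mem_range.2 hg)) h (List.mem_range.2 hh)
  simp only [Bool.and_eq_true] at this
  exact ⟨Nat.le_of_ble_eq_true this.2, Nat.eq_of_beq_eq_true this.1⟩

theorem nxt_lt {g x : ℕ} (hg : g < 60) : nxt g x < 60 := by
  refine (gTab_lt hg ?_).1
  simp only [genIdx]; split_ifs <;> norm_num

theorem kk_word (hrel : ∀ R ∈ rels, ev X R = 1) : ∀ (w : List ℕ) (g : ℕ), g < 60 → (∀ x ∈ w, x ≤ 1) →
    kk X g * ev X w = kk X (endp g w) := by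
  intro w
  induction w with
  | nil => intro g _ _; simp [ev, endp]
  | cons x w ih =>
    intro g hg hw
    rw [endp, ← ih _ (nxt_lt hg) fun y hy => hw y (List.mem_cons_of_mem _ hy),
      ← kk_step X hrel g hg x (hw x List.mem_cons_self)]
    simp [ev, mul_assoc]

theorem wrd_le {h : ℕ} (hh : h < 60) : ∀ x ∈ wrd h, x ≤ 1 := fun x hx =>
  Nat.le_of_ble_eq_true (List.all_eq_true.1 (List.all_eq_true.1 wrd_letters h (List.mem_range.2 hh)) x hx)

theorem kk_mul (hrel : ∀ R ∈ rels, ev X R = 1) {g h : ℕ} (hg : g < 60) (hh : h < 60) :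
    kk X g * kk X h = kk X (gTab g h) := by
  rw [show kk X h = ev X (wrd h) from rfl, kk_word X hrel _ g hg (wrd_le hh), (gTab_lt hg hh).2]

end Words

/-! ### normal forms of words in five anticommuting involutions -/

/-- five anticommuting involutions with product one -/
structure Quint (H : Type u) [Group H] where
  T : H
  v : ℕ → H
  TT : T * T = 1
  Tc : ∀ x, T * x = x * T
  vv : ∀ i < 5, v i * v i = 1
  anti : ∀ i < 5, ∀ j < 5, i ≠ j → v i * v j = v j * v i * T
  prod : v 0 * v 1 * v 2 * v 3 * v 4 = 1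

namespace Quint

variable {H : Type u} [Group H] (U : Quint H)

/-- the normal forms -/
def qq (m : ℕ) : H :=
  (if m / 1 % 2 = 1 then U.v 0 else 1) * (if m / 2 % 2 = 1 then U.v 1 else 1) *
    (if m / 4 % 2 = 1 then U.v 2 else 1) * (if m / 8 % 2 = 1 then U.v 3 else 1)

theorem flip {i j : ℕ} (hi : i < 5) (hj : j < 5) (h : i ≠ j) :
    U.v i * U.v j = U.T * (U.v j * U.v i) ∧ ∀ x, U.v i * (U.v j * x) = U.T * (U.v j * (U.v i * x)) := by
  have e : U.v i * U.v j = U.T * (U.v j * U.v i) := by rw [U.anti i hi j hj h, U.Tc]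
  exact ⟨e, fun x => by rw [← mul_assoc, e, mul_assoc, mul_assoc]⟩

/-- the normal forms, with truth values -/
def qb (a b c d : Bool) : H :=
  (if a then U.v 0 else 1) * (if b then U.v 1 else 1) * (if c then U.v 2 else 1) * (if d then U.v 3 else 1)

theorem qq_eq (m : ℕ) : U.qq m =
    U.qb (decide (m / 1 % 2 = 1)) (decide (m / 2 % 2 = 1)) (decide (m / 4 % 2 = 1)) (decide (m / 8 % 2 = 1)) := by
  simp [qq, qb]

theorem qb_three (a b c d : Bool) : U.qb a b c d * U.v 3 = U.qb a b c (!d) := by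
  have h := U.vv 3 (by norm_num)
  cases d <;> simp [qb, mul_assoc, h]

theorem qb_two (a b c d : Bool) : U.qb a b c d * U.v 2 = U.T ^ d.toNat * U.qb a b (!c) d := by
  have h := U.vv 2 (by norm_num)
  have h' : ∀ y, U.v 2 * (U.v 2 * y) = y := fun y => by rw [← mul_assoc, h, one_mul]
  obtain ⟨e, e'⟩ := U.flip (i := 3) (j := 2) (by norm_num) (by norm_num) (by norm_num)
  have k : ∀ i y, U.v i * (U.T * y) = U.T * (U.v i * y) := fun i y => by rw [← mul_assoc, ← U.Tc, mul_assoc]
  cases a <;> cases b <;> cases c <;> cases d <;> simp [qb, mul_assoc, h, h', e, k]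

theorem qb_one (a b c d : Bool) : U.qb a b c d * U.v 1 = U.T ^ (c.toNat + d.toNat) * U.qb a (!b) c d := by
  have h := U.vv 1 (by norm_num)
  have h' : ∀ y, U.v 1 * (U.v 1 * y) = y := fun y => by rw [← mul_assoc, h, one_mul]
  obtain ⟨e, -⟩ := U.flip (i := 3) (j := 1) (by norm_num) (by norm_num) (by norm_num)
  obtain ⟨f, f'⟩ := U.flip (i := 2) (j := 1) (by norm_num) (by norm_num) (by norm_num)
  have k : ∀ i y, U.v i * (U.T * y) = U.T * (U.v i * y) := fun i y => by rw [← mul_assoc, ← U.Tc, mul_assoc]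
  cases a <;> cases b <;> cases c <;> cases d <;> simp [qb, mul_assoc, h, h', e, f, f', k, pow_succ]

theorem qb_zero (a b c d : Bool) :
    U.qb a b c d * U.v 0 = U.T ^ (b.toNat + c.toNat + d.toNat) * U.qb (!a) b c d := by
  have h := U.vv 0 (by norm_num)
  have h' : ∀ y, U.v 0 * (U.v 0 * y) = y := fun y => by rw [← mul_assoc, h, one_mul]
  obtain ⟨e, -⟩ := U.flip (i := 3) (j := 0) (by norm_num) (by norm_num) (by norm_num)
  obtain ⟨f, f'⟩ := U.flip (i := 2) (j := 0) (by norm_num) (by norm_num) (by norm_num)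
  obtain ⟨g, g'⟩ := U.flip (i := 1) (j := 0) (by norm_num) (by norm_num) (by norm_num)
  have k : ∀ i y, U.v i * (U.T * y) = U.T * (U.v i * y) := fun i y => by rw [← mul_assoc, ← U.Tc, mul_assoc]
  cases a <;> cases b <;> cases c <;> cases d <;> simp [qb, mul_assoc, h, h', e, f, f', g, g', k, pow_succ]

theorem bit_facts : ∀ m < 16, ∀ x < 4, ∀ i < 4,
    decide (Nat.xor m (2 ^ x) / 2 ^ i % 2 = 1) = (if i = x then !decide (m / 2 ^ i % 2 = 1) else decide (m / 2 ^ i % 2 = 1)) ∧
    above x m = ((if x < 1 then (decide (m / 2 % 2 = 1)).toNat else 0) + (if x < 2 then (decide (m / 4 % 2 = 1)).toNat else 0) +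
      if x < 3 then (decide (m / 8 % 2 = 1)).toNat else 0) := by decide +kernel

theorem qq_mul {m x : ℕ} (hm : m < 16) (hx : x < 4) :
    U.qq m * U.v x = U.T ^ above x m * U.qq (Nat.xor m (2 ^ x)) := by
  have h0 := (bit_facts m hm x hx 0 (by norm_num)).1
  have h1 := (bit_facts m hm x hx 1 (by norm_num)).1
  have h2 := (bit_facts m hm x hx 2 (by norm_num)).1
  obtain ⟨h3, hab⟩ := bit_facts m hm x hx 3 (by norm_num)
  simp only [pow_zero, pow_one, show (2 : ℕ) ^ 2 = 4 from rfl, show (2 : ℕ) ^ 3 = 8 from rfl] at h0 h1 h2 h3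
  rw [U.qq_eq, U.qq_eq, h0, h1, h2, h3, hab]
  interval_cases x <;> norm_num
  · exact U.qb_zero _ _ _ _
  · exact U.qb_one _ _ _ _
  · exact U.qb_two _ _ _ _
  · exact U.qb_three _ _ _ _

theorem xor_lt {m x : ℕ} (hm : m < 16) (hx : x < 4) : Nat.xor m (2 ^ x) < 16 := by
  interval_cases m <;> interval_cases x <;> decide

theorem pow_mod (n : ℕ) : U.T ^ (n % 2) = U.T ^ n := (pow_eq_pow_mod n (by rw [pow_two, U.TT])).symm

theorem foldl_put (w : List ℕ) : ∀ st : ℕ × ℕ, st.2 < 16 → (∀ x ∈ w, x < 4) →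
    U.T ^ st.1 * U.qq st.2 * (w.map U.v).prod =
      U.T ^ (w.foldl put st).1 * U.qq (w.foldl put st).2 ∧ (w.foldl put st).2 < 16 := by
  induction w with
  | nil => intro st hst _; simp [hst]
  | cons x w ih =>
    intro st hst hw
    have hx := hw x List.mem_cons_self
    obtain ⟨e, hlt⟩ := ih (put st x) (xor_lt hst hx) fun y hy => hw y (List.mem_cons_of_mem _ hy)
    refine ⟨?_, hlt⟩
    rw [List.foldl_cons, ← e]
    simp only [put, List.map_cons, List.prod_cons]
    rw [U.pow_mod, pow_add, mul_assoc (U.T ^ st.1) (U.T ^ above x st.2), ← U.qq_mul hst hx]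
    simp [mul_assoc]

theorem expand_prod {x : ℕ} (hx : x < 5) : ((expand x).map U.v).prod = U.v x := by
  by_cases h : x = 4
  · subst h
    have := U.prod
    have h4 := U.vv 4 (by norm_num)
    simp only [expand, if_pos, List.map_cons, List.map_nil, List.prod_cons, List.prod_nil, mul_one]
    calc U.v 0 * (U.v 1 * (U.v 2 * U.v 3)) = U.v 0 * U.v 1 * U.v 2 * U.v 3 * (U.v 4 * U.v 4) := by
          rw [h4]; simp [mul_assoc]
      _ = U.v 4 := by rw [← mul_assoc, this, one_mul]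
  · simp [expand, h]

theorem nrm_prod (w : List ℕ) (hw : ∀ x ∈ w, x < 5) :
    (w.map U.v).prod = U.T ^ (nrm w % 2) * U.qq (nrm w / 2) := by
  have h1 : ((w.flatMap expand).map U.v).prod = (w.map U.v).prod := by
    induction w with
    | nil => rfl
    | cons x w ih =>
      rw [List.flatMap_cons, List.map_append, List.prod_append, ih fun y hy => hw y (List.mem_cons_of_mem _ hy),
        U.expand_prod (hw x List.mem_cons_self)]
      simp
  obtain ⟨e, hlt⟩ := U.foldl_put (w.flatMap expand) (0, 0) (by norm_num) fun x hx => by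
    obtain ⟨y, hy, hxy⟩ := List.mem_flatMap.1 hx
    have := hw y hy
    simp only [expand] at hxy
    split_ifs at hxy <;> simp at hxy <;> omega
  rw [← h1]
  simp only [nrm]
  have hq0 : U.qq 0 = 1 := by simp [qq]
  rw [pow_zero, hq0, one_mul, one_mul] at e
  rw [e, Nat.add_mul_mod_self_left, U.pow_mod, Nat.add_mul_div_left _ _ (by norm_num : 0 < 2)]
  have hst : ∀ (l : List ℕ) (st : ℕ × ℕ), st.1 < 2 → (l.foldl put st).1 < 2 := by
    intro l
    induction l with
    | nil => exact fun st h => h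
    | cons x l ih => exact fun st _ => ih _ (Nat.mod_lt _ (by norm_num))
  rw [Nat.div_eq_of_lt (hst _ (0, 0) (by norm_num)), zero_add]

theorem qq_bits {m : ℕ} (hm : m < 16) : U.qq m = ((bits m).map U.v).prod := by
  interval_cases m <;> simp [qq, bits, List.range_succ, Nat.beq, mul_assoc]

end Quint

/-! ### the coordinates -/

variable {G : Type u} [Group G] [Finite G] {t : G} {Q : Subgroup G}

/-- the centralizer has coordinates once some involution lies outside the core -/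
theorem exists_coord (F : Frame t Q) (hout : ∃ s, Commute s t ∧ s * s = 1 ∧ s ∉ Q)
    (hcard : Nat.card ↥(Subgroup.centralizer ({t} : Set G)) = 1920) : Nonempty (Coord t) := by
  classical
  have htt := F.S.xt.sq
  let T : ↥(Subgroup.centralizer ({t} : Set G)) := ⟨t, mem_cent.2 (Commute.refl t)⟩
  have hTT : T * T = 1 := Subtype.ext htt
  have hTc : ∀ x, T * x = x * T := fun x => Subtype.ext (F.comm_z x).symm.eq
  have hπT : F.π T = 1 := (F.ker _).2 F.S.xt.mem
  obtain ⟨σ, hσ⟩ := a5_gen_exists 0 (by norm_num)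
  obtain ⟨β, hβ⟩ := a5_gen_exists 1 (by norm_num)
  obtain ⟨hσ2, hσ1, hβ3, h5, h5'⟩ := a5_gen_facts σ β hσ hβ
  obtain ⟨s₁, hs₁c, hs₁s, hs₁Q⟩ := hout
  obtain ⟨hπ2, hπ1⟩ := F.pi_inv (htz := hs₁c) hs₁s hs₁Q
  obtain ⟨h, hh⟩ := a5_inv_conj _ hπ2 hπ1 σ hσ2 hσ1
  obtain ⟨c, rfl⟩ := F.surj h
  obtain ⟨s₂, hs₂⟩ : ∃ s₂, s₂ = c * cen t hs₁c * c⁻¹ := ⟨_, rfl⟩
  have hs₂2 : s₂ * s₂ = 1 := by
    rw [hs₂, conj_mul, show cen t hs₁c * cen t hs₁c = 1 from Subtype.ext hs₁s, mul_one, mul_inv_cancel]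
  have hπs₂ : F.π s₂ = σ := by rw [hs₂, map_mul, map_mul, map_inv, hh]
  obtain ⟨d, hd⟩ := F.surj β
  have hQ4 : ∀ {y : ↥(Subgroup.centralizer ({t} : Set G))}, F.π y = 1 → y ^ 4 = 1 := fun {y} hy => by
    refine Subtype.ext ?_
    rw [Subgroup.coe_pow]
    rcases F.S.sq _ ((F.ker y).1 hy) with e | e <;>
      rw [show (4 : ℕ) = 2 * 2 from rfl, pow_mul, pow_two (y : G), e, pow_two]
    · exact one_mul 1
    · exact htt
  have hd3 : (d ^ 4) ^ 3 = 1 := by
    rw [← pow_mul, show 4 * 3 = 3 * 4 from rfl, pow_mul]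
    exact hQ4 (by rw [map_pow, hd, pow_succ, pow_two, hβ3])
  have hπb : F.π (d ^ 4) = β := by rw [map_pow, hd, pow_succ, pow_succ, pow_two, hβ3, one_mul]
  -- adjusting the sign
  obtain ⟨s, hs2, hπs, hs5⟩ : ∃ s, s * s = 1 ∧ F.π s = σ ∧ (s * d ^ 4) ^ 5 = 1 := by
    have hmem : F.π ((s₂ * d ^ 4) ^ 5) = 1 := by rw [map_pow, map_mul, hπs₂, hπb, h5]
    have hq := (F.ker _).1 hmem
    have hfix : actv (σ * β) (F.vec (((s₂ * d ^ 4) ^ 5 : ↥(Subgroup.centralizer ({t} : Set G))) : G)) =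
        F.vec (((s₂ * d ^ 4) ^ 5 : ↥(Subgroup.centralizer ({t} : Set G))) : G) := by
      rw [← hπs₂, ← hπb, ← map_mul, ← F.vconj _ hq]
      congr 1
      rw [← Subgroup.coe_inv, ← Subgroup.coe_mul, ← Subgroup.coe_mul, ← pow_succ', pow_succ _ 5, mul_inv_cancel_right]
    rcases F.vec_facts.2 _ hq (five_fpf _ h5 h5' _ (F.vec_facts.1 _ hq) hfix) with e | e
    · exact ⟨s₂, hs₂2, hπs₂, Subtype.ext e⟩
    · refine ⟨T * s₂, ?_, by rw [map_mul, hπT, hπs₂, one_mul], ?_⟩
      · rw [Commute.mul_mul_mul_comm (hTc s₂).symm, hTT, hs₂2, one_mul]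
      · rw [mul_assoc, Commute.mul_pow (hTc _), show (s₂ * d ^ 4) ^ 5 = T from Subtype.ext e,
          pow_succ, pow_succ, pow_succ, pow_succ, pow_one, hTT, one_mul, hTT, one_mul, hTT]
  let X : ℕ → ↥(Subgroup.centralizer ({t} : Set G)) := fun x => if x = 0 then s else d ^ 4
  have hrel : ∀ R ∈ rels, ev X R = 1 := by
    intro R hR
    simp only [rels, List.mem_cons, List.not_mem_nil, or_false] at hR
    have hb3 : d ^ 4 * (d ^ 4 * d ^ 4) = 1 := by rw [← pow_two, ← pow_succ']; exact hd3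
    rcases hR with rfl | rfl | rfl
    · simp [ev, X, hs2]
    · simp [ev, X, hb3]
    · rw [← hs5]; simp [ev, X, pow_succ, mul_assoc]
  have hπX : ∀ x ≤ 1, ∀ i : Fin 5, ((F.π (X x) : Perm (Fin 5)) i).val = pTab (genIdx x) i.val := by
    intro x hx i
    interval_cases x
    · show ((F.π s : Perm (Fin 5)) i).val = _
      rw [hπs]; exact hσ i
    · show ((F.π (d ^ 4) : Perm (Fin 5)) i).val = _
      rw [hπb]; exact hβ i
  have hpnxt : ∀ g < 60, ∀ x ≤ 1, ∀ i < 5, pTab (nxt g x) i = pTab g (pTab (genIdx x) i) := by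
    intro g hg x hx i hi
    have := List.all_eq_true.1 (List.all_eq_true.1 ptab_ok g (List.mem_range.2 hg)) i (List.mem_range.2 hi)
    simp only [Bool.and_eq_true] at this
    interval_cases x
    · exact Nat.eq_of_beq_eq_true this.1.2
    · exact Nat.eq_of_beq_eq_true this.2
  have hπev : ∀ (w : List ℕ) (g : ℕ) (p : ↥(Subgroup.centralizer ({t} : Set G))), g < 60 →
      (∀ i : Fin 5, ((F.π p : Perm (Fin 5)) i).val = pTab g i.val) → (∀ x ∈ w, x ≤ 1) →
      ∀ i : Fin 5, ((F.π (p * ev X w) : Perm (Fin 5)) i).val = pTab (endp g w) i.val := by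
    intro w
    induction w with
    | nil => intro g p _ hp _; simpa [ev, endp] using hp
    | cons x w ih =>
      intro g p hg hp hw i
      have hx := hw x List.mem_cons_self
      have := ih (nxt g x) (p * X x) (nxt_lt hg) (fun j => by
        rw [map_mul, Subgroup.coe_mul, Perm.mul_apply, hp, hπX x hx, hpnxt g hg x hx j.val j.isLt])
        (fun y hy => hw y (List.mem_cons_of_mem _ hy)) i
      rw [show p * ev X (x :: w) = p * X x * ev X w by simp [ev, mul_assoc], endp]
      exact this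
  have hπkk : ∀ g < 60, ∀ i : Fin 5, ((F.π (kk X g) : Perm (Fin 5)) i).val = pTab g i.val := by
    intro g hg i
    have hid : ∀ g < 60, endp 0 (wrd g) = g ∧ ∀ j : Fin 5, pTab 0 j.val = j.val := by decide +kernel
    have := hπev (wrd g) 0 1 (by norm_num)
      (fun j => by rw [map_one, Subgroup.coe_one, Perm.one_apply, (hid g hg).2]) (wrd_le hg) i
    rwa [one_mul, (hid g hg).1] at this
  have hpt : ∀ g < 60, ∀ i < 5, pTab g i < 5 := by
    intro g hg i hi
    have := List.all_eq_true.1 (List.all_eq_true.1 ptab_ok g (List.mem_range.2 hg)) i (List.mem_range.2 hi)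
    simp only [Bool.and_eq_true] at this
    exact Nat.le_of_ble_eq_true this.1.1
  have htr : ∀ i < 5, pTab (trans i) 0 = i ∧ trans i < 60 ∧ transInv i < 60 ∧
      gTab (transInv i) (trans i) = 0 := by
    intro i hi
    have := List.all_eq_true.1 trans_ok i (List.mem_range.2 hi)
    simp only [Bool.and_eq_true] at this
    exact ⟨Nat.eq_of_beq_eq_true this.1.1.1, Nat.le_of_ble_eq_true this.1.1.2, Nat.le_of_ble_eq_true this.1.2,
      Nat.eq_of_beq_eq_true this.2⟩
  let w₀ : ↥(Subgroup.centralizer ({t} : Set G)) := cen t (F.cen_Q (F.mem 0))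
  -- the stabilizer of `0` commutes with `w₀`
  have hstab : ∀ g < 60, pTab g 0 = 0 → Commute (kk X g) w₀ := by
    have hthree : ∀ a < 60, pTab a 0 = 0 → gTab (gTab a a) a = 0 → Commute (kk X a) w₀ := by
      intro a ha h0 h3
      have hp : (F.π (kk X a) : Perm (Fin 5)) 0 = 0 := Fin.ext (by rw [hπkk a ha]; exact h0)
      have hx3 : kk X a * kk X a * kk X a = 1 := by
        rw [kk_mul X hrel ha ha, kk_mul X hrel (gTab_lt ha ha).1 ha, h3, kk_zero]
      obtain ⟨y, hy⟩ : ∃ y, y = kk X a := ⟨_, rfl⟩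
      rw [← hy] at hp hx3 ⊢
      refine Subtype.ext ?_
      show (y : G) * F.u 0 = F.u 0 * (y : G)
      rcases F.act y 0 with e | e <;> rw [hp] at e
      · exact mul_inv_eq_iff_eq_mul.1 e
      · exfalso
        have hct : (y : G) * t * (y : G)⁻¹ = t := by rw [(F.comm_z _).eq, mul_inv_cancel_right]
        have e2 : (y : G) * ((y : G) * F.u 0 * (y : G)⁻¹) * (y : G)⁻¹ = F.u 0 := by
          rw [e, show (y : G) * (F.u 0 * t) * (y : G)⁻¹ =
            (y : G) * F.u 0 * (y : G)⁻¹ * ((y : G) * t * (y : G)⁻¹) by group, e, hct, mul_assoc, htt, mul_one]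
        have hx3' := congrArg Subtype.val hx3
        simp only [Subgroup.coe_mul, Subgroup.coe_one] at hx3'
        have e3 : F.u 0 = F.u 0 * t := by
          calc F.u 0 = ((y : G) * (y : G) * (y : G)) * F.u 0 * ((y : G) * (y : G) * (y : G))⁻¹ := by rw [hx3']; group
            _ = (y : G) * ((y : G) * ((y : G) * F.u 0 * (y : G)⁻¹) * (y : G)⁻¹) * (y : G)⁻¹ := by group
            _ = F.u 0 * t := by rw [e2, e]
        exact F.S.xt.ne (left_eq_mul.1 e3)
    intro g hg h0
    have := List.all_eq_true.1 stab_gen_ok g (List.mem_range.2 hg)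
    simp only [Bool.or_eq_true, Bool.not_eq_eq_eq_not, Bool.not_true, List.any_eq_true, Bool.and_eq_true] at this
    rcases this with h | ⟨a, ha, ⟨ha0, ha3⟩, b, hb, ⟨hb0, hb3⟩, hab⟩
    · rw [show Nat.beq (pTab g 0) 0 = true from by rw [h0]; rfl] at h; simp at h
    rw [← Nat.eq_of_beq_eq_true hab, ← kk_mul X hrel (List.mem_range.1 ha) (List.mem_range.1 hb)]
    exact (hthree a (List.mem_range.1 ha) (Nat.eq_of_beq_eq_true ha0) (Nat.eq_of_beq_eq_true ha3)).mul_left
      (hthree b (List.mem_range.1 hb) (Nat.eq_of_beq_eq_true hb0) (Nat.eq_of_beq_eq_true hb3))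
  have hinvk : ∀ i < 5, (kk X (trans i))⁻¹ = kk X (transInv i) := by
    intro i hi
    obtain ⟨-, h1, h2, h3⟩ := htr i hi
    exact inv_eq_of_mul_eq_one_left (by rw [kk_mul X hrel h2 h1, h3, kk_zero])
  let uu : ↥(Subgroup.centralizer ({t} : Set G)) → ℕ → ↥(Subgroup.centralizer ({t} : Set G)) :=
    fun w i => kk X (trans i) * w * (kk X (trans i))⁻¹
  have hequi : ∀ w, (∀ g < 60, pTab g 0 = 0 → Commute (kk X g) w) →
      ∀ g < 60, ∀ i < 5, kk X g * uu w i * (kk X g)⁻¹ = uu w (pTab g i) := by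
    intro w hw g hg i hi
    obtain ⟨-, h1, -, -⟩ := htr i hi
    have hj := hpt g hg i hi
    obtain ⟨-, h1', h2', -⟩ := htr _ hj
    have hlt : gTab g (trans i) < 60 := (gTab_lt hg h1).1
    have hh : gTab (transInv (pTab g i)) (gTab g (trans i)) < 60 := (gTab_lt h2' hlt).1
    have := List.all_eq_true.1 (List.all_eq_true.1 stab_ok g (List.mem_range.2 hg)) i (List.mem_range.2 hi)
    simp only [Bool.and_eq_true] at this
    have e : kk X g * kk X (trans i) =
        kk X (trans (pTab g i)) * kk X (gTab (transInv (pTab g i)) (gTab g (trans i))) := by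
      rw [kk_mul X hrel hg h1, kk_mul X hrel h1' hh, Nat.eq_of_beq_eq_true this.1]
    simp only [uu]
    rw [show kk X g * (kk X (trans i) * w * (kk X (trans i))⁻¹) * (kk X g)⁻¹ =
      kk X g * kk X (trans i) * w * (kk X g * kk X (trans i))⁻¹ by group, e,
      show ∀ a b : ↥(Subgroup.centralizer ({t} : Set G)), a * b * w * (a * b)⁻¹ = a * (b * w * b⁻¹) * a⁻¹ from
        fun a b => by group,
      (hw _ hh (Nat.eq_of_beq_eq_true this.2)).eq, mul_inv_cancel_right]
  have hnear : ∀ i : Fin 5, (uu w₀ i.val : G) = F.u i ∨ (uu w₀ i.val : G) = F.u i * t := by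
    intro i
    obtain ⟨h0, h1, -, -⟩ := htr i.val i.isLt
    have hp : (F.π (kk X (trans i.val)) : Perm (Fin 5)) 0 = i := Fin.ext (by rw [hπkk _ h1]; exact h0)
    have := F.act (kk X (trans i.val)) 0
    rw [hp] at this
    simpa [uu, w₀, cen] using this
  -- correcting the product
  obtain ⟨w, hw, hwn, hwp⟩ : ∃ w, (∀ g < 60, pTab g 0 = 0 → Commute (kk X g) w) ∧
      (∀ i : Fin 5, (uu w i.val : G) = F.u i ∨ (uu w i.val : G) = F.u i * t) ∧
      uu w 0 * uu w 1 * uu w 2 * uu w 3 * uu w 4 = 1 := by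
    have hQu : ∀ i : Fin 5, (uu w₀ i.val : G) ∈ Q ∧ F.vec (uu w₀ i.val : G) = E i := fun i => by
      rcases hnear i with e | e <;> rw [e]
      · exact ⟨F.mem i, F.vec_u i⟩
      · exact ⟨Q.mul_mem (F.mem i) F.S.xt.mem, by rw [F.vec_mul (F.mem i) F.S.xt.mem, F.vec_z, add_zero, F.vec_u]⟩
    obtain ⟨q0, v0⟩ := hQu 0
    obtain ⟨q1, v1⟩ := hQu 1
    obtain ⟨q2, v2⟩ := hQu 2
    obtain ⟨q3, v3⟩ := hQu 3
    obtain ⟨q4, v4⟩ := hQu 4
    simp only [show ((0 : Fin 5) : ℕ) = 0 from rfl, show ((1 : Fin 5) : ℕ) = 1 from rfl,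
      show ((2 : Fin 5) : ℕ) = 2 from rfl, show ((3 : Fin 5) : ℕ) = 3 from rfl,
      show ((4 : Fin 5) : ℕ) = 4 from rfl] at q0 q1 q2 q3 q4 v0 v1 v2 v3 v4
    have hq01 := Q.mul_mem q0 q1
    have hq012 := Q.mul_mem hq01 q2
    have hq0123 := Q.mul_mem hq012 q3
    rcases F.vec_facts.2 _ (Q.mul_mem hq0123 q4) (by
      rw [F.vec_mul hq0123 q4, F.vec_mul hq012 q3, F.vec_mul hq01 q2, F.vec_mul q0 q1, v0, v1, v2, v3, v4, sum_E])
      with e | e
    · exact ⟨w₀, hstab, hnear, Subtype.ext (by simp only [Subgroup.coe_mul, Subgroup.coe_one]; exact e)⟩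
    · have huT : ∀ i, uu (w₀ * T) i = uu w₀ i * T := fun i => by
        simp only [uu]
        rw [mul_assoc (kk X (trans i) * w₀), ← hTc (kk X (trans i))⁻¹]
        simp only [mul_assoc]
      refine ⟨w₀ * T, fun g hg h0 => (hstab g hg h0).mul_right (hTc _).symm, fun i => ?_, ?_⟩
      · rw [huT, Subgroup.coe_mul]
        rcases hnear i with e' | e' <;> rw [e']
        · exact Or.inr rfl
        · exact Or.inl (by rw [show ((T : ↥(Subgroup.centralizer ({t} : Set G))) : G) = t from rfl, mul_assoc, htt, mul_one])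
      · have e' : uu w₀ 0 * uu w₀ 1 * uu w₀ 2 * uu w₀ 3 * uu w₀ 4 = T := Subtype.ext (by
          simp only [Subgroup.coe_mul]; exact e)
        have c : ∀ a b : ↥(Subgroup.centralizer ({t} : Set G)), a * T * (b * T) = a * b := fun a b => by
          rw [← mul_assoc, mul_assoc a T, hTc, ← mul_assoc, mul_assoc, hTT, mul_one]
        simp only [huT]
        rw [c, ← mul_assoc (uu w₀ 0 * uu w₀ 1), c, ← mul_assoc, e', hTT]
  -- the five involutions
  let v : ℕ → ↥(Subgroup.centralizer ({t} : Set G)) := uu w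
  have hTT' : ∀ x : G, x * t * t = x := fun x => by rw [mul_assoc, htt, mul_one]
  let U : Quint ↥(Subgroup.centralizer ({t} : Set G)) :=
    { T := T
      v := v
      TT := hTT
      Tc := hTc
      vv := fun i hi => Subtype.ext (by
        show (uu w i : G) * uu w i = 1
        rcases hwn ⟨i, hi⟩ with e | e <;> rw [show (uu w i : G) = _ from e]
        · exact F.sq _
        · rw [(F.cen_Q (F.mem _)).symm.mul_mul_mul_comm, F.sq, htt, one_mul])
      anti := fun i hi j hj hij => Subtype.ext (by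
        show (uu w i : G) * uu w j = uu w j * uu w i * t
        have hn : ¬ Commute (F.u ⟨i, hi⟩) (F.u ⟨j, hj⟩) := fun h => hij (congrArg Fin.val (F.nc _ _ h))
        have key := CentTransfer.moved F.S (F.mem _) (F.mem _) hn
        have hci : Commute (F.u ⟨i, hi⟩) t := F.cen_Q (F.mem _)
        have hcj : Commute (F.u ⟨j, hj⟩) t := F.cen_Q (F.mem _)
        have c1 : ∀ x, t * (F.u ⟨i, hi⟩ * x) = F.u ⟨i, hi⟩ * (t * x) := fun x => by
          rw [← mul_assoc, ← hci.eq, mul_assoc]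
        have c2 : ∀ x, t * (F.u ⟨j, hj⟩ * x) = F.u ⟨j, hj⟩ * (t * x) := fun x => by
          rw [← mul_assoc, ← hcj.eq, mul_assoc]
        have k2 : ∀ x, F.u ⟨i, hi⟩ * (F.u ⟨j, hj⟩ * x) = F.u ⟨j, hj⟩ * (F.u ⟨i, hi⟩ * (t * x)) := fun x => by
          rw [← mul_assoc, key]; simp [mul_assoc]
        rcases hwn ⟨i, hi⟩ with e | e <;> rcases hwn ⟨j, hj⟩ with e' | e' <;>
          rw [show (uu w i : G) = _ from e, show (uu w j : G) = _ from e'] <;>
          simp only [mul_assoc, c1, c2, k2, htt, mul_one, hci.symm.eq, hcj.symm.eq, key])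
      prod := hwp }
  let dec : ℕ → ↥(Subgroup.centralizer ({t} : Set G)) := fun x =>
    T ^ (x % 2) * U.qq (x / 2 % 16) * kk X (x / 32)
  have htab : ∀ s < 16, (∀ s' < 16, bTab s s' = nrm (bits s ++ bits s') ∧ bTab s s' < 32) ∧
      ∀ g < 60, aTab g s = nrm ((bits s).map (pTab g)) ∧ aTab g s < 32 := by
    intro s hs
    have h1 := List.all_eq_true.1 tables_ok s (List.mem_range.2 hs)
    have h2 := List.all_eq_true.1 tables_lt s (List.mem_range.2 hs)
    simp only [Bool.and_eq_true, List.all_eq_true, List.mem_range] at h1 h2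
    exact ⟨fun s' hs' => ⟨Nat.eq_of_beq_eq_true (h1.1 s' hs'), by simpa [Nat.blt_eq] using h2.1 s' hs'⟩,
      fun g hg => ⟨Nat.eq_of_beq_eq_true (h1.2 g hg), by simpa [Nat.blt_eq] using h2.2 g hg⟩⟩
  have hbits : ∀ {s x : ℕ}, x ∈ bits s → x < 4 := fun {s x} hx => by
    simp only [bits, List.mem_filter, List.mem_range] at hx
    exact hx.1
  have hA : ∀ g < 60, ∀ s < 16, kk X g * U.qq s * (kk X g)⁻¹ = T ^ (aTab g s % 2) * U.qq (aTab g s / 2) := by
    intro g hg s hs
    have hc : ∀ l : List ℕ, (∀ x ∈ l, x < 5) → kk X g * (l.map v).prod * (kk X g)⁻¹ = ((l.map (pTab g)).map v).prod := by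
      intro l hl
      induction l with
      | nil => simp
      | cons x l ih =>
        simp only [List.map_cons, List.prod_cons, v] at ih ⊢
        rw [← ih fun y hy => hl y (List.mem_cons_of_mem _ hy), ← hequi w hw g hg x (hl x List.mem_cons_self)]
        group
    rw [U.qq_bits hs, hc _ (fun x hx => (hbits hx).trans (by norm_num)), ((htab s hs).2 g hg).1]
    exact U.nrm_prod _ fun x hx => by
      obtain ⟨y, hy, rfl⟩ := List.mem_map.1 hx
      exact hpt g hg y ((hbits hy).trans (by norm_num))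
  have hB : ∀ s < 16, ∀ s' < 16, U.qq s * U.qq s' = T ^ (bTab s s' % 2) * U.qq (bTab s s' / 2) := by
    intro s hs s' hs'
    rw [U.qq_bits hs, U.qq_bits hs', ← List.prod_append, ← List.map_append, ((htab s hs).1 s' hs').1]
    exact U.nrm_prod _ fun x hx => by
      rcases List.mem_append.1 hx with h | h <;> exact (hbits h).trans (by norm_num)
  have hTp : ∀ n (a : ↥(Subgroup.centralizer ({t} : Set G))), Commute (T ^ n) a := fun n a =>
    (show Commute T a from hTc a).pow_left n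
  have hlt : ∀ x < 1920, ∀ y < 1920, mc x y < 1920 := by
    intro x hx y hy
    have ha := ((htab (y / 2 % 16) (Nat.mod_lt _ (by norm_num))).2 (x / 32) (by omega)).2
    have hb := ((htab (x / 2 % 16) (Nat.mod_lt _ (by norm_num))).1 (aTab (x / 32) (y / 2 % 16) / 2) (by omega)).2
    have hg := (gTab_lt (show x / 32 < 60 by omega) (show y / 32 < 60 by omega)).1
    simp only [mc]
    omega
  have hmul : ∀ x < 1920, ∀ y < 1920, dec (mc x y) = dec x * dec y := by
    intro x hx y hy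
    have hg1 : x / 32 < 60 := by omega
    have hg2 : y / 32 < 60 := by omega
    have hs1 : x / 2 % 16 < 16 := Nat.mod_lt _ (by norm_num)
    have hs2 : y / 2 % 16 < 16 := Nat.mod_lt _ (by norm_num)
    obtain ⟨a, ha⟩ : ∃ a, a = aTab (x / 32) (y / 2 % 16) := ⟨_, rfl⟩
    have ha32 : a < 32 := ha ▸ ((htab _ hs2).2 _ hg1).2
    obtain ⟨b, hb⟩ : ∃ b, b = bTab (x / 2 % 16) (a / 2) := ⟨_, rfl⟩
    have hb32 : b < 32 := hb ▸ ((htab _ hs1).1 _ (by omega)).2
    obtain ⟨z, hz⟩ : ∃ z, z = mc x y := ⟨_, rfl⟩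
    have hzv : z = (x % 2 + y % 2 + a % 2 + b % 2) % 2 + 2 * (b / 2) + 32 * gTab (x / 32) (y / 32) := by
      rw [hz, hb, ha]; rfl
    rw [← hz]
    show T ^ (z % 2) * U.qq (z / 2 % 16) * kk X (z / 32) =
      T ^ (x % 2) * U.qq (x / 2 % 16) * kk X (x / 32) * (T ^ (y % 2) * U.qq (y / 2 % 16) * kk X (y / 32))
    obtain ⟨e1, e2, e3⟩ := code_parts hzv hb32
    rw [e1, e2, e3, ← kk_mul X hrel hg1 hg2, show T ^ ((x % 2 + y % 2 + a % 2 + b % 2) % 2) =
      T ^ (x % 2 + y % 2 + a % 2 + b % 2) from U.pow_mod _, pow_add, pow_add, pow_add]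
    have hA' : kk X (x / 32) * U.qq (y / 2 % 16) = T ^ (a % 2) * U.qq (a / 2) * kk X (x / 32) := by
      rw [ha, ← hA _ hg1 _ hs2, inv_mul_cancel_right]
    have hB' : U.qq (x / 2 % 16) * U.qq (a / 2) = T ^ (b % 2) * U.qq (b / 2) := by
      rw [hb]; exact hB _ hs1 _ (by omega)
    symm
    calc T ^ (x % 2) * U.qq (x / 2 % 16) * kk X (x / 32) * (T ^ (y % 2) * U.qq (y / 2 % 16) * kk X (y / 32))
        = T ^ (x % 2) * U.qq (x / 2 % 16) * (kk X (x / 32) * T ^ (y % 2)) * U.qq (y / 2 % 16) * kk X (y / 32) := by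
          simp only [mul_assoc]
      _ = T ^ (x % 2) * (U.qq (x / 2 % 16) * T ^ (y % 2)) * (kk X (x / 32) * U.qq (y / 2 % 16)) * kk X (y / 32) := by
          rw [← (hTp (y % 2) (kk X (x / 32))).eq]; simp only [mul_assoc]
      _ = T ^ (x % 2) * T ^ (y % 2) * (U.qq (x / 2 % 16) * T ^ (a % 2)) * U.qq (a / 2) * kk X (x / 32) *
            kk X (y / 32) := by
          rw [← (hTp (y % 2) (U.qq (x / 2 % 16))).eq, hA']; simp only [mul_assoc]
      _ = T ^ (x % 2) * T ^ (y % 2) * T ^ (a % 2) * (U.qq (x / 2 % 16) * U.qq (a / 2)) * kk X (x / 32) *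
            kk X (y / 32) := by
          rw [← (hTp (a % 2) (U.qq (x / 2 % 16))).eq]; simp only [mul_assoc]
      _ = _ := by rw [hB']; simp only [mul_assoc]
  have hq0 : U.qq 0 = 1 := by simp [Quint.qq]
  have hsurj : ∀ c, ∃ x < 1920, dec x = c := by
    intro c
    obtain ⟨g, hg, hgp⟩ := a5_index (F.π c)
    obtain ⟨r, hr⟩ : ∃ r, r = c * (kk X g)⁻¹ := ⟨_, rfl⟩
    have hrQ : (r : G) ∈ Q := (F.ker r).1 (by
      rw [hr, map_mul, map_inv, mul_inv_eq_one]
      exact Subtype.ext (Equiv.ext fun i => Fin.ext (by rw [hgp, hπkk g hg])))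
    obtain ⟨m, hm, hmv⟩ := vecm_surj _ (F.vec_facts.1 _ hrQ)
    have hv : ∀ i : Fin 5, (U.v i.val : G) ∈ Q ∧ F.vec (U.v i.val : G) = E i := fun i => by
      show (uu w i.val : G) ∈ Q ∧ F.vec (uu w i.val : G) = E i
      rcases hwn i with e | e <;> rw [e]
      · exact ⟨F.mem i, F.vec_u i⟩
      · exact ⟨Q.mul_mem (F.mem i) F.S.xt.mem, by rw [F.vec_mul (F.mem i) F.S.xt.mem, F.vec_z, add_zero, F.vec_u]⟩
    have hbit : ∀ (i : Fin 5) (k : ℕ), ((if m / k % 2 = 1 then U.v i.val else 1 : ↥(Subgroup.centralizer ({t} : Set G))) : G) ∈ Q ∧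
        F.vec ((if m / k % 2 = 1 then U.v i.val else 1 : ↥(Subgroup.centralizer ({t} : Set G))) : G) =
          if m / k % 2 = 1 then E i else 0 := fun i k => by
      split_ifs
      · exact hv i
      · exact ⟨Q.one_mem, F.vec_one⟩
    obtain ⟨b0, c0⟩ := hbit 0 1
    obtain ⟨b1, c1⟩ := hbit 1 2
    obtain ⟨b2, c2⟩ := hbit 2 4
    obtain ⟨b3, c3⟩ := hbit 3 8
    simp only [show ((0 : Fin 5) : ℕ) = 0 from rfl, show ((1 : Fin 5) : ℕ) = 1 from rfl,
      show ((2 : Fin 5) : ℕ) = 2 from rfl, show ((3 : Fin 5) : ℕ) = 3 from rfl] at b0 b1 b2 b3 c0 c1 c2 c3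
    have hqQ : (U.qq m : G) ∈ Q ∧ F.vec (U.qq m : G) = vecm m := by
      have b01 := Q.mul_mem b0 b1
      have b012 := Q.mul_mem b01 b2
      refine ⟨Q.mul_mem b012 b3, ?_⟩
      show F.vec (_ * _ * _ * _) = _
      rw [F.vec_mul b012 b3, F.vec_mul b01 b2, F.vec_mul b0 b1, c0, c1, c2, c3]
      rfl
    obtain ⟨k, hk, hrk⟩ : ∃ k < 2, r = T ^ k * U.qq m := by
      rcases F.vec_eq hrQ hqQ.1 (hmv.symm.trans hqQ.2.symm) with e | e
      · exact ⟨0, by norm_num, by rw [pow_zero, one_mul]; exact Subtype.ext e⟩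
      · exact ⟨1, by norm_num, by rw [pow_one, hTc]; exact Subtype.ext e⟩
    refine ⟨k + 2 * m + 32 * g, by omega, ?_⟩
    show T ^ ((k + 2 * m + 32 * g) % 2) * U.qq ((k + 2 * m + 32 * g) / 2 % 16) * kk X ((k + 2 * m + 32 * g) / 32) = c
    rw [show (k + 2 * m + 32 * g) % 2 = k by omega, show (k + 2 * m + 32 * g) / 2 % 16 = m by omega,
      show (k + 2 * m + 32 * g) / 32 = g by omega, ← hrk, hr, inv_mul_cancel_right]
  have hbij : Function.Bijective fun x : Fin 1920 => dec x.val :=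
    (Nat.bijective_iff_surjective_and_card _).2 ⟨fun c => by
      obtain ⟨x, hx, e⟩ := hsurj c
      exact ⟨⟨x, hx⟩, e⟩, by rw [Nat.card_fin, hcard]⟩
  exact ⟨{
    dec := dec
    surj := hsurj
    inj := fun x hx y hy e => congrArg Fin.val (hbij.injective (a₁ := ⟨x, hx⟩) (a₂ := ⟨y, hy⟩) e)
    zero := by simp [dec, hq0, kk_zero]
    one := by simp [dec, hq0, kk_zero, T]
    mul := hmul
    lt := hlt }⟩

end Cfsg.Agent.Spor.JThree
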