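import Cfsg.Agent.Lib.Spor.JThree.Data

/-!
# Class data and induced linear characters on the codes
-/

set_option autoImplicit false
set_option maxRecDepth 100000

namespace Cfsg.Agent.Spor.JThree

/-- the class of a code -/
def clsC (x : ℕ) : ℕ := wit x % 16

/-- sizes of the sixteen classes -/
def csz : List ℕ := [1, 1, 10, 20, 80, 80, 160, 160, 160, 120, 240, 120, 192, 192, 192, 192]

/-- the special classes, `7` for the others -/
def labR : List ℕ := [7, 0, 7, 1, 7, 2, 7, 7, 3, 7, 4, 7, 7, 5, 7, 6]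

/-- label of a code -/
def labC (x : ℕ) : ℕ := labR.getD (clsC x) 7

/-- products in `ℤ[φ]`, `φ² = φ + 1` -/
def pmul (p q : ℤ × ℤ) : ℤ × ℤ := (p.1 * q.1 + p.2 * q.2, p.1 * q.2 + p.2 * q.1 + p.2 * q.2)

/-- the seven class functions on the seven special classes -/
def TH : List (List (ℤ × ℤ)) := [[(48, 0), (-4, 0), (0, 0), (-4, 0), (-2, 0), (-2, 0), (-2, 0), (0, 0)], [(16, 0), (4, 0), (4, 0), (-2, 0), (-2, 0), (2, -2), (0, 2), (0, 0)], [(-16, 0), (-4, 0), (-4, 0), (2, 0), (2, 0), (0, -2), (-2, 2), (0, 0)], [(32, 0), (-8, 0), (-4, 0), (-2, 0), (0, 0), (2, 0), (2, 0), (0, 0)], [(48, 0), (12, 0), (0, 0), (0, 0), (2, 0), (-2, 0), (-2, 0), (0, 0)], [(32, 0), (8, 0), (-4, 0), (2, 0), (-4, 0), (2, 0), (2, 0), (0, 0)], [(-32, 0), (8, 0), (-8, 0), (-4, 0), (0, 0), (-2, 0), (-2, 0), (0, 0)]]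

/-- values of the class functions -/
def thV (i l : ℕ) : ℤ × ℤ := (TH.getD i []).getD l (0, 0)

/-- subgroups with a linear character: codes with exponents, and the order of the root of unity -/
def linData : List (List (ℕ × ℕ) × ℕ) := [([(0, 0), (32, 2), (64, 4)], 6), ([(0, 0), (2, 0), (108, 0), (110, 0)], 1), ([(0, 0), (1, 0), (16, 0), (17, 0)], 1), ([(0, 0), (96, 0), (257, 0), (353, 0)], 1), ([(0, 0), (512, 1), (1024, 2), (1440, 3), (1536, 4)], 5), ([(0, 0), (512, 2), (1024, 4), (1440, 1), (1536, 3)], 5), ([(0, 0), (1, 0), (6, 0), (7, 0), (448, 1), (449, 1), (454, 1), (455, 1)], 2), ([(0, 0), (1, 0), (512, 0), (513, 0), (1024, 0), (1025, 0), (1440, 0), (1441, 0), (1536, 0), (1537, 0)], 1), ([(0, 0), (1, 0), (512, 1), (513, 1), (1024, 2), (1025, 2), (1440, 3), (1441, 3), (1536, 4), (1537, 4)], 5), ([(0, 0), (1, 0), (6, 0), (7, 0), (32, 2), (33, 2), (38, 2), (39, 2), (64, 4), (65, 4), (70, 4), (71, 4)], 6), ([(0,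 0), (1, 3), (16, 0), (17, 3), (486, 4), (487, 1), (502, 4), (503, 1), (778, 2), (779, 5), (794, 2), (795, 5)], 6), ([(0, 0), (1, 0), (4, 1), (5, 1), (8, 1), (9, 1), (12, 0), (13, 0), (96, 0), (97, 0), (100, 1), (101, 1), (104, 1), (105, 1), (108, 0), (109, 0)], 2), ([(0, 0), (1, 1), (2, 1), (3, 0), (96, 0), (97, 1), (98, 1), (99, 0), (280, 1), (281, 0), (282, 0), (283, 1), (376, 1), (377, 0), (378, 0), (379, 1)], 2)]

/-- coefficients of the induced characters -/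
def thCoef : List (List ℤ) := [[-1, -7, 4, 3, -1, -1, -2, -1, 0, 2, 2, 1, 11], [-1, -3, 2, 1, 1, 0, -1, 0, -2, 1, 3, 1, 1], [1, -3, 1, 3, 0, -1, 1, -1, -2, -1, -3, -1, 3], [0, 2, -1, -2, 1, 1, -1, 1, 0, 1, -1, 0, -2], [0, -3, 1, 3, -1, -1, 1, -1, 0, 0, 0, -1, 3], [1, 8, -3, -6, 1, 1, 0, 1, 0, -1, -3, 2, -6], [0, -4, 2, 2, -1, -1, -1, -1, 0, 2, -2, 0, 10]]

/-- number of elements of a class with a given exponent -/
def cnt (a : List (ℕ × ℕ)) (j m : ℕ) : ℤ := ((a.countP fun p => Nat.beq (clsC p.1) j && Nat.beq p.2 m) : ℕ)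

/-- the sum of the roots of unity with multiplicities, in `ℤ[φ]` -/
def comb (a : List (ℕ × ℕ)) (n j : ℕ) : ℤ × ℤ :=
  if n = 1 then (cnt a j 0, 0)
  else if n = 2 then (cnt a j 0 - cnt a j 1, 0)
  else if n = 5 then (cnt a j 0 - cnt a j 1, cnt a j 1 - cnt a j 2)
  else (cnt a j 0 - cnt a j 3 + cnt a j 1 - cnt a j 4, 0)

/-- induced value at a class: an exact quotient -/
def indV (d : List (ℕ × ℕ) × ℕ) (j : ℕ) : ℤ × ℤ :=
  (1920 * (comb d.1 d.2 j).1 / ((csz.getD j 1 : ℕ) * (d.1.length : ℕ)), 1920 * (comb d.1 d.2 j).2 / ((csz.getD j 1 : ℕ) * (d.1.length : ℕ)))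

/-- conditions on a subgroup with a linear character -/
def linOK (d : List (ℕ × ℕ) × ℕ) : Bool :=
  decide (d.2 ∈ [1, 2, 5, 6]) && decide ((d.1.map Prod.fst).Nodup) && decide ((0, 0) ∈ d.1) &&
  (d.1.all fun p => Nat.blt p.1 1920 && Nat.blt p.2 d.2 && decide (iv p.1 ∈ d.1.map Prod.fst) &&
    d.1.all fun q => decide ((mc p.1 q.1, (p.2 + q.2) % d.2) ∈ d.1)) &&
  ((List.range 16).all fun j =>
    (if d.2 = 5 then decide (cnt d.1 j 1 = cnt d.1 j 4 ∧ cnt d.1 j 2 = cnt d.1 j 3)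
      else if d.2 = 6 then decide (cnt d.1 j 1 + cnt d.1 j 2 = cnt d.1 j 4 + cnt d.1 j 5)
      else true) &&
    decide ((indV d j).1 * ((csz.getD j 1 : ℕ) * (d.1.length : ℕ)) = 1920 * (comb d.1 d.2 j).1 ∧
      (indV d j).2 * ((csz.getD j 1 : ℕ) * (d.1.length : ℕ)) = 1920 * (comb d.1 d.2 j).2))

theorem lin_ok : linData.all linOK = true := by decide +kernel

/-- combination of the induced values -/
def thSum (i j : ℕ) : ℤ × ℤ :=
  ((List.range linData.length).map fun k =>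
      ((thCoef.getD i []).getD k 0 * (indV (linData.getD k ([], 1)) j).1,
        (thCoef.getD i []).getD k 0 * (indV (linData.getD k ([], 1)) j).2)).foldl
    (fun s q => (s.1 + q.1, s.2 + q.2)) (0, 0)

theorem th_comb : ((List.range 7).all fun i => (List.range 16).all fun j =>
    decide (thSum i j = thV i (labR.getD j 7))) = true := by decide +kernel

end Cfsg.Agent.Spor.JThree
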