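import Cfsg.Agent.Lib.Spor.JThree.Chars

/-!
# Finite checks on the codes
-/

set_option autoImplicit false
set_option maxRecDepth 100000

namespace Cfsg.Agent.Spor.JThree

/-- powers on codes -/
def pw (x : ℕ) : ℕ → ℕ
  | 0 => 0
  | k + 1 => mc x (pw x k)

theorem wit_ok : ((List.range 1920).all fun x =>
    Nat.blt (wit x / 16) 1920 && Nat.beq (mc (wit x / 16) (rep (wit x % 16))) (mc x (wit x / 16)) &&
      Nat.blt (iv x) 1920 && Nat.beq (mc x (iv x)) 0) = true := by decide +kernel

theorem rep_ok : ((List.range 16).all fun j => Nat.blt (rep j) 1920 && Nat.beq (clsC (rep j)) j) = true := by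
  decide +kernel

theorem conj_ok : ((List.range 16).all fun j => (List.range 1920).all fun c =>
    Nat.beq (clsC (mc (iv c) (mc (rep j) c))) j) = true := by decide +kernel

theorem csz_ok : ((List.range 16).all fun j =>
    Nat.beq (((List.range 1920).countP fun x => Nat.beq (clsC x) j)) (csz.getD j 0) &&
      Nat.blt 0 (csz.getD j 0) && Nat.ble (labR.getD j 7) 7) = true := by decide +kernel

/-- the special classes have the central involution as their only involutory power -/
theorem root_ok : ((List.range 16).all fun j => Nat.beq (labR.getD j 7) 7 ||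
    (Nat.beq (pw (rep j) 120) 0 && ((List.range 120).any fun k => Nat.beq (pw (rep j) k) 1) &&
      (List.range 120).all fun k =>
        !(Nat.beq (mc (pw (rep j) k) (pw (rep j) k)) 0) || Nat.beq (pw (rep j) k) 0 || Nat.beq (pw (rep j) k) 1)) = true := by
  decide +kernel

theorem exponent_ok : ((List.range 16).all fun j => Nat.beq (pw (rep j) 120) 0) = true := by decide +kernel

/-- exchange of the two classes of elements of order ten -/
def sw (l : ℕ) : ℕ := if l = 5 then 6 else if l = 6 then 5 else l

theorem seven_ok : ((List.range 16).all fun j =>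
    Nat.beq (labR.getD (clsC (pw (rep j) 7)) 7) (sw (labR.getD j 7))) = true := by decide +kernel

/-- sigma on the coordinates -/
theorem th_seven : ((List.range 8).all fun l => (List.range 7).all fun i =>
    decide (thV (if i = 1 then 2 else if i = 2 then 1 else i) (sw l) =
      ((if i = 1 ∨ i = 2 then -1 else 1) * (thV i l).1, (if i = 1 ∨ i = 2 then -1 else 1) * (thV i l).2))) = true := by
  decide +kernel

theorem th_off : ((List.range 7).all fun i => decide (thV i 7 = (0, 0))) = true := by decide +kernel

/-- products of two involutions equal to a given element -/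
def invPairs (y : ℕ) : ℕ :=
  (List.range 1920).countP fun u =>
    Nat.beq (mc u u) 0 && !(Nat.beq u 0) && Nat.beq (mc (mc u y) (mc u y)) 0 && !(Nat.beq (mc u y) 0)

/-- pair counts at the special classes -/
def pairsR : List ℕ := [0, 130, 0, 28, 0, 12, 0, 0, 12, 0, 8, 0, 0, 10, 0, 10]

theorem pairs_ok : ((List.range 16).all fun j => Nat.beq (labR.getD j 7) 7 ||
    Nat.beq (invPairs (rep j)) (pairsR.getD j 0)) = true := by decide +kernel

theorem roots_two : ((List.range 16).all fun j =>
    (!(Nat.beq (rep j) 1) || Nat.beq j 1) && (!(Nat.beq (pw (rep j) 2) 1) || Nat.beq j 3) &&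
      (!(Nat.beq (pw (rep j) 4) 1) || Nat.beq j 10)) = true := by decide +kernel

/-- a subgroup of order `128` -/
def sylCodes : List ℕ := ([0, 96, 256, 352] : List ℕ).flatMap fun g => (List.range 32).map (· + g)

theorem syl_ok : (Nat.beq sylCodes.length 128 && decide sylCodes.Nodup && decide (0 ∈ sylCodes) &&
    sylCodes.all fun x => Nat.blt x 1920 && decide (iv x ∈ sylCodes) && sylCodes.all fun y =>
      (fun z => sylCodes.any (Nat.beq z)) (mc x y)) = true := by decide +kernel

/-- `0` for the identity, else the exponent of the involutory power -/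
def twoOrd (j : ℕ) : ℕ :=
  if Nat.beq (rep j) 0 then 0
  else if Nat.beq (pw (rep j) 2) 0 then 1
  else if Nat.beq (pw (rep j) 4) 0 then 2
  else if Nat.beq (pw (rep j) 8) 0 then 4
  else 8

theorem syl_count : Nat.beq (sylCodes.countP fun x => Nat.beq (twoOrd (clsC x)) 0) 1 &&
    Nat.beq (sylCodes.countP fun x => Nat.beq (twoOrd (clsC x)) 1) 35 &&
    Nat.beq (sylCodes.countP fun x => Nat.beq (twoOrd (clsC x)) 2) 44 &&
    Nat.beq (sylCodes.countP fun x => Nat.beq (twoOrd (clsC x)) 4) 48 = true := by decide +kernel

end Cfsg.Agent.Spor.JThree
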