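import Mathlib
import Cfsg.Agent.Lib.Lead.JankoOne.Vals
import Cfsg.Agent.Lib.Spor.JThree.Split
import Cfsg.Agent.Lib.Spor.JThree.Checks
import Cfsg.Agent.Lib.Char.BrauerChar

/-!
Class functions of `2^{1+4}_-:A₅` living on the special classes.
-/

set_option autoImplicit false
set_option linter.style.haveILetI false
set_option linter.unusedSectionVars false
set_option maxRecDepth 20000
set_option maxHeartbeats 1000000

namespace Cfsg.Agent.Spor.JThree

open Cfsg Cfsg.Agent.Char
open Cfsg.Agent.Lead.JankoOne (zz zz_five zz_sum ff ff_sq conj_ff)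
open scoped ComplexConjugate

universe u

/-- the embedding of `ℤ[φ]` -/
noncomputable def vf (p : ℤ × ℤ) : ℂ := p.1 + p.2 * ff

theorem vf_mul (p q : ℤ × ℤ) : vf (pmul p q) = vf p * vf q := by
  simp only [vf, pmul]; push_cast
  linear_combination (-(p.2 : ℂ) * q.2) * ff_sq

theorem vf_add (a b c d : ℤ) : vf (a + c, b + d) = vf (a, b) + vf (c, d) := by
  simp only [vf]; push_cast; ring

theorem vf_zero : vf (0, 0) = 0 := by simp [vf]

theorem vf_int (a : ℤ) : vf (a, 0) = a := by simp [vf]

theorem vf_scale (k a b : ℤ) : vf (k * a, k * b) = k * vf (a, b) := by simp only [vf]; push_cast; ring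

theorem conj_vf (p : ℤ × ℤ) : conj (vf p) = vf p := by
  simp [vf, conj_ff]

/-- a primitive sixth root of unity -/
noncomputable def w6 : ℂ := ⟨1 / 2, Real.sqrt 3 / 2⟩

theorem w6_sq : w6 * w6 = w6 - 1 := by
  have h := Real.mul_self_sqrt (show (0 : ℝ) ≤ 3 by norm_num)
  apply Complex.ext <;> simp [w6, Complex.mul_re, Complex.mul_im] <;> nlinarith

theorem w6_six : w6 ^ 6 = 1 := by
  have h3 : w6 ^ 3 = -1 := by linear_combination (w6 + 1) * w6_sq
  rw [show 6 = 3 * 2 from rfl, pow_mul, h3]; norm_num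

/-- the roots of unity in use -/
noncomputable def zeta (n : ℕ) : ℂ := if n = 1 then 1 else if n = 2 then -1 else if n = 5 then zz else w6

theorem zeta_pow {n : ℕ} (h : n ∈ [1, 2, 5, 6]) : zeta n ^ n = 1 := by
  simp only [List.mem_cons, List.not_mem_nil, or_false] at h
  rcases h with rfl | rfl | rfl | rfl <;> simp [zeta, zz_five, w6_six]

theorem comb_eq (a : List (ℕ × ℕ)) {n : ℕ} (hn : n ∈ [1, 2, 5, 6]) (j : ℕ)
    (h5 : n = 5 → cnt a j 1 = cnt a j 4 ∧ cnt a j 2 = cnt a j 3)
    (h6 : n = 6 → cnt a j 1 + cnt a j 2 = cnt a j 4 + cnt a j 5) :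
    ∑ m ∈ Finset.range n, (cnt a j m : ℂ) * zeta n ^ m = vf (comb a n j) := by
  simp only [List.mem_cons, List.not_mem_nil, or_false] at hn
  rcases hn with rfl | rfl | rfl | rfl
  · simp [zeta, comb, vf]
  · simp [zeta, comb, vf, Finset.sum_range_succ, sub_eq_add_neg]
  · obtain ⟨e1, e2⟩ := h5 rfl
    simp only [zeta, comb, vf, Finset.sum_range_succ, Finset.sum_range_zero]
    norm_num [← e1, ← e2]
    rw [ff]
    linear_combination ((cnt a j 2 : ℂ)) * zz_sum
  · have e := congrArg (Int.cast : ℤ → ℂ) (h6 rfl)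
    push_cast at e
    simp only [zeta, comb, vf, Finset.sum_range_succ, Finset.sum_range_zero]
    norm_num
    have q2 : w6 ^ 2 = w6 - 1 := by rw [pow_two, w6_sq]
    have q3 : w6 ^ 3 = -1 := by linear_combination (w6 + 1) * w6_sq
    rw [q2, q3, pow_succ w6 3, q3, show w6 ^ 5 = w6 ^ 3 * w6 ^ 2 by ring, q3, q2]
    linear_combination (w6 - 1) * e

section Coord

variable {G : Type u} [Group G] {t : G} (e : Coord t)

/-- the code of an element -/
noncomputable def cod (c : ↥(Subgroup.centralizer ({t} : Set G))) : ℕ := (e.surj c).choose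

theorem cod_lt (c) : cod e c < 1920 := (e.surj c).choose_spec.1

theorem dec_cod (c) : e.dec (cod e c) = c := (e.surj c).choose_spec.2

theorem cod_dec {x : ℕ} (hx : x < 1920) : cod e (e.dec x) = x :=
  e.inj _ (cod_lt e _) x hx (dec_cod e _)

theorem cod_injective : Function.Injective (cod e) := fun a b h => by rw [← dec_cod e a, h, dec_cod]

theorem cod_mul (a b : ↥(Subgroup.centralizer ({t} : Set G))) : cod e (a * b) = mc (cod e a) (cod e b) := by
  refine e.inj _ (cod_lt e _) _ (e.lt _ (cod_lt e a) _ (cod_lt e b)) ?_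
  rw [e.mul _ (cod_lt e a) _ (cod_lt e b), dec_cod, dec_cod, dec_cod]

theorem cod_one : cod e (1 : ↥(Subgroup.centralizer ({t} : Set G))) = 0 := by
  rw [← e.zero, cod_dec e (by norm_num)]

theorem cod_t {c : ↥(Subgroup.centralizer ({t} : Set G))} (h : (c : G) = t) : cod e c = 1 := by
  rw [show c = e.dec 1 from Subtype.ext (h.trans e.one.symm), cod_dec e (by norm_num)]

theorem cod_pow (c : ↥(Subgroup.centralizer ({t} : Set G))) (k : ℕ) : cod e (c ^ k) = pw (cod e c) k := by
  induction k with
  | zero => rw [pow_zero, cod_one]; rfl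
  | succ k ih => rw [pow_succ', cod_mul, ih]; rfl

theorem wit_facts {x : ℕ} (hx : x < 1920) : wit x / 16 < 1920 ∧
    mc (wit x / 16) (rep (wit x % 16)) = mc x (wit x / 16) ∧ iv x < 1920 ∧ mc x (iv x) = 0 := by
  have h := List.all_eq_true.1 wit_ok x (List.mem_range.2 hx)
  simp only [Bool.and_eq_true] at h
  exact ⟨by simpa [Nat.blt_eq] using h.1.1.1, Nat.eq_of_beq_eq_true h.1.1.2,
    by simpa [Nat.blt_eq] using h.1.2, Nat.eq_of_beq_eq_true h.2⟩

theorem cod_inv (c : ↥(Subgroup.centralizer ({t} : Set G))) : cod e c⁻¹ = iv (cod e c) := by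
  obtain ⟨-, -, h3, h4⟩ := wit_facts (cod_lt e c)
  refine e.inj _ (cod_lt e _) _ h3 ?_
  rw [dec_cod]
  refine inv_eq_of_mul_eq_one_right ?_
  have := e.mul _ (cod_lt e c) _ h3
  rwa [h4, e.zero, dec_cod, eq_comm] at this

/-- the class of an element -/
noncomputable def cls (c : ↥(Subgroup.centralizer ({t} : Set G))) : ℕ := clsC (cod e c)

theorem cls_lt (c) : cls e c < 16 := Nat.mod_lt _ (by norm_num)

theorem rep_facts {j : ℕ} (hj : j < 16) : rep j < 1920 ∧ clsC (rep j) = j := by
  have h := List.all_eq_true.1 rep_ok j (List.mem_range.2 hj)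
  simp only [Bool.and_eq_true] at h
  exact ⟨by simpa [Nat.blt_eq] using h.1, Nat.eq_of_beq_eq_true h.2⟩

theorem cls_spec (c : ↥(Subgroup.centralizer ({t} : Set G))) :
    ∃ w, c = w * e.dec (rep (cls e c)) * w⁻¹ := by
  obtain ⟨h1, h2, -, -⟩ := wit_facts (cod_lt e c)
  refine ⟨e.dec (wit (cod e c) / 16), eq_mul_inv_of_mul_eq ?_⟩
  have h := e.mul _ (cod_lt e c) _ h1
  rw [dec_cod, ← h2, e.mul _ h1 _ (rep_facts (Nat.mod_lt _ (by norm_num))).1] at h
  exact h.symm

theorem cls_conj_rep {j : ℕ} (hj : j < 16) (w : ↥(Subgroup.centralizer ({t} : Set G))) :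
    cls e (w * e.dec (rep j) * w⁻¹) = j := by
  have h := List.all_eq_true.1 (List.all_eq_true.1 conj_ok j (List.mem_range.2 hj)) _
    (List.mem_range.2 (cod_lt e w⁻¹))
  rw [cls, show w * e.dec (rep j) * w⁻¹ = (w⁻¹)⁻¹ * (e.dec (rep j) * w⁻¹) by group, cod_mul, cod_mul,
    cod_inv e w⁻¹, cod_dec e (rep_facts hj).1]
  exact Nat.eq_of_beq_eq_true h

theorem cls_conj (g c : ↥(Subgroup.centralizer ({t} : Set G))) : cls e (g * c * g⁻¹) = cls e c := by
  obtain ⟨w, hw⟩ := cls_spec e c
  conv_lhs => rw [hw]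
  rw [show g * (w * e.dec (rep (cls e c)) * w⁻¹) * g⁻¹ = g * w * e.dec (rep (cls e c)) * (g * w)⁻¹ by group]
  exact cls_conj_rep e (cls_lt e c) _

theorem cls_pow (c : ↥(Subgroup.centralizer ({t} : Set G))) (k : ℕ) :
    cls e (c ^ k) = clsC (pw (rep (cls e c)) k) := by
  obtain ⟨w, hw⟩ := cls_spec e c
  conv_lhs => rw [hw, conj_pow]
  rw [cls_conj, cls, cod_pow, cod_dec e (rep_facts (cls_lt e c)).1]

/-- the code as an index -/
noncomputable def codEquiv : ↥(Subgroup.centralizer ({t} : Set G)) ≃ Fin 1920 where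
  toFun c := ⟨cod e c, cod_lt e c⟩
  invFun x := e.dec x.val
  left_inv c := dec_cod e c
  right_inv x := Fin.ext (cod_dec e x.isLt)

include e in
theorem card_eq : Nat.card ↥(Subgroup.centralizer ({t} : Set G)) = 1920 := by
  rw [Nat.card_congr (codEquiv e), Nat.card_fin]

/-- the special class functions -/
noncomputable def fi (i : ℕ) (c : ↥(Subgroup.centralizer ({t} : Set G))) : ℂ :=
  vf (thV i (labR.getD (cls e c) 7))

theorem fi_class (i : ℕ) : IsClassFunction _ (fi e i) := fun g h => by simp only [fi, cls_conj]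

theorem fi_off {i : ℕ} (hi : i < 7) {c : ↥(Subgroup.centralizer ({t} : Set G))}
    (h : labR.getD (cls e c) 7 = 7) : fi e i c = 0 := by
  have := List.all_eq_true.1 th_off i (List.mem_range.2 hi)
  rw [fi, h, of_decide_eq_true this, vf_zero]

variable [Fintype ↥(Subgroup.centralizer ({t} : Set G))]

theorem sum_cod {M : Type*} [AddCommMonoid M] (F : ℕ → M) :
    ∑ c : ↥(Subgroup.centralizer ({t} : Set G)), F (cod e c) = ∑ x ∈ Finset.range 1920, F x := by
  rw [← Fin.sum_univ_eq_sum_range]
  exact Fintype.sum_equiv (codEquiv e) _ _ fun c => rfl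

theorem countP_range (p : ℕ → Bool) (n : ℕ) :
    ((List.range n).countP p) = ((Finset.range n).filter fun x => p x = true).card := by
  induction n with
  | zero => rfl
  | succ n ih =>
    rw [List.range_succ, List.countP_append, Finset.range_add_one, Finset.filter_insert, ih]
    by_cases h : p n = true <;> simp [h]

theorem card_class {j : ℕ} (hj : j < 16) :
    (Finset.univ.filter fun c : ↥(Subgroup.centralizer ({t} : Set G)) => cls e c = j).card = csz.getD j 0 := by
  have h := List.all_eq_true.1 csz_ok j (List.mem_range.2 hj)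
  simp only [Bool.and_eq_true] at h
  rw [← Nat.eq_of_beq_eq_true h.1.1, countP_range, Finset.card_filter, Finset.card_filter]
  refine Eq.trans (Finset.sum_congr rfl fun c _ =>
    if_congr (show cls e c = j ↔ clsC (cod e c) = j from Iff.rfl) rfl rfl) ?_
  rw [sum_cod e (fun x => if clsC x = j then 1 else 0)]
  refine Finset.sum_congr rfl fun x _ => if_congr ?_ rfl rfl
  exact ⟨fun e => by rw [e]; exact Nat.beq_refl j, Nat.eq_of_beq_eq_true⟩

/-- sums of functions of the class -/
theorem sum_cls (F : ℕ → ℂ) :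
    ∑ c : ↥(Subgroup.centralizer ({t} : Set G)), F (cls e c) = ∑ j ∈ Finset.range 16, (csz.getD j 0 : ℂ) * F j := by
  rw [← Finset.sum_fiberwise_of_maps_to (t := Finset.range 16) (g := cls e)
    fun c _ => Finset.mem_range.2 (cls_lt e c)]
  refine Finset.sum_congr rfl fun j hj => ?_
  rw [Finset.sum_congr rfl fun c hc => congrArg F (Finset.mem_filter.1 hc).2, Finset.sum_const, nsmul_eq_mul,
    card_class e (Finset.mem_range.1 hj)]

/-- averaging over conjugates -/
theorem sum_conjugates (f : ↥(Subgroup.centralizer ({t} : Set G)) → ℂ) (g : ↥(Subgroup.centralizer ({t} : Set G))) :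
    (csz.getD (cls e g) 0 : ℂ) * ∑ x, f (x⁻¹ * g * x) = 1920 * ∑ y with cls e y = cls e g, f y := by
  classical
  set N := (Finset.univ.filter fun x : ↥(Subgroup.centralizer ({t} : Set G)) => x⁻¹ * g * x = g).card with hN
  have hmaps : ∀ x ∈ (Finset.univ : Finset ↥(Subgroup.centralizer ({t} : Set G))),
      x⁻¹ * g * x ∈ Finset.univ.filter fun y => cls e y = cls e g := fun x _ => by
    refine Finset.mem_filter.2 ⟨Finset.mem_univ _, ?_⟩
    have := cls_conj e x⁻¹ g
    rwa [inv_inv] at this
  have hfib : ∀ y, cls e y = cls e g →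
      (Finset.univ.filter fun x : ↥(Subgroup.centralizer ({t} : Set G)) => x⁻¹ * g * x = y).card = N := by
    intro y hy
    obtain ⟨a, ha⟩ : ∃ a, a⁻¹ * g * a = y := by
      obtain ⟨w, hw⟩ := cls_spec e g
      obtain ⟨v, hv⟩ := cls_spec e y
      rw [hy] at hv
      exact ⟨w * v⁻¹, by conv_lhs => rw [hw]
                         conv_rhs => rw [hv]
                         group⟩
    refine Finset.card_nbij' (fun x => x * a⁻¹) (fun x => x * a) (fun x hx => ?_) (fun x hx => ?_)
      (fun x _ => by simp) (fun x _ => by simp)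
    · simp only [Finset.coe_filter, Finset.mem_univ, true_and, Set.mem_setOf_eq] at hx ⊢
      calc (x * a⁻¹)⁻¹ * g * (x * a⁻¹) = a * (x⁻¹ * g * x) * a⁻¹ := by group
        _ = g := by rw [hx, ← ha]; group
    · simp only [Finset.coe_filter, Finset.mem_univ, true_and, Set.mem_setOf_eq] at hx ⊢
      calc (x * a)⁻¹ * g * (x * a) = a⁻¹ * (x⁻¹ * g * x) * a := by group
        _ = y := by rw [hx, ha]
  have hsum : ∀ f : ↥(Subgroup.centralizer ({t} : Set G)) → ℂ,
      ∑ x, f (x⁻¹ * g * x) = (N : ℂ) * ∑ y with cls e y = cls e g, f y := by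
    intro f
    rw [← Finset.sum_fiberwise_of_maps_to hmaps, Finset.mul_sum]
    refine Finset.sum_congr rfl fun y hy => ?_
    rw [Finset.sum_congr rfl fun x hx => congrArg f (Finset.mem_filter.1 hx).2, Finset.sum_const, nsmul_eq_mul,
      hfib y (Finset.mem_filter.1 hy).2]
  have h1 := hsum fun _ => 1
  simp only [Finset.sum_const, nsmul_eq_mul, mul_one, Finset.card_univ, ← Nat.card_eq_fintype_card, card_eq e,
    card_class e (cls_lt e g)] at h1
  rw [hsum]
  push_cast at h1
  linear_combination -(∑ y with cls e y = cls e g, f y) * h1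

theorem sum_pow_cnt (a : List (ℕ × ℕ)) (j : ℕ) {n : ℕ} (ζ : ℂ) (h : ∀ p ∈ a, p.2 < n) :
    (a.map fun p => if clsC p.1 = j then ζ ^ p.2 else 0).sum =
      ∑ m ∈ Finset.range n, (cnt a j m : ℂ) * ζ ^ m := by
  induction a with
  | nil => simp [cnt]
  | cons p a ih =>
    rw [List.map_cons, List.sum_cons, ih fun q hq => h q (List.mem_cons_of_mem _ hq)]
    have hc : ∀ m, (cnt (p :: a) j m : ℂ) = (cnt a j m : ℂ) + if clsC p.1 = j ∧ p.2 = m then 1 else 0 := by
      intro m
      simp only [cnt, List.countP_cons]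
      have hb : (Nat.beq (clsC p.1) j && Nat.beq p.2 m) = true ↔ clsC p.1 = j ∧ p.2 = m := by
        simp only [Bool.and_eq_true]
        exact and_congr ⟨Nat.eq_of_beq_eq_true, fun e => by rw [e]; exact Nat.beq_refl _⟩
          ⟨Nat.eq_of_beq_eq_true, fun e => by rw [e]; exact Nat.beq_refl _⟩
      by_cases h : clsC p.1 = j ∧ p.2 = m
      · rw [if_pos h, if_pos (hb.2 h)]; push_cast; ring
      · rw [if_neg h, if_neg fun h' => h (hb.1 h')]; simp
    simp only [hc, add_mul, Finset.sum_add_distrib]
    rw [add_comm]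
    congr 1
    by_cases hj : clsC p.1 = j
    · rw [if_pos hj, Finset.sum_eq_single p.2]
      · simp [hj]
      · intro m _ hm; simp [Ne.symm hm]
      · intro hm; exact absurd (Finset.mem_range.2 (h p List.mem_cons_self)) hm
    · simp [hj]

theorem char_lin {d : List (ℕ × ℕ) × ℕ} (hd : linOK d = true) :
    IsCharacter ↥(Subgroup.centralizer ({t} : Set G)) fun c => vf (indV d (cls e c)) := by
  classical
  obtain ⟨a, n⟩ := d
  simp only [linOK, Bool.and_eq_true, decide_eq_true_eq, List.all_eq_true] at hd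
  obtain ⟨⟨⟨⟨hn, hnd⟩, h00⟩, hcl⟩, hcls⟩ := hd
  have hlt : ∀ p ∈ a, p.1 < 1920 ∧ p.2 < n := fun p hp =>
    ⟨by simpa [Nat.blt_eq] using (hcl p hp).1.1.1, by simpa [Nat.blt_eq] using (hcl p hp).1.1.2⟩
  have hn0 : 0 < n := (Nat.zero_le _).trans_lt (hlt _ h00).2
  have huniq : ∀ {x m m' : ℕ}, (x, m) ∈ a → (x, m') ∈ a → m = m' := fun {x m m'} h h' => by
    have hinj := (List.nodup_map_iff_inj_on (List.Nodup.of_map _ hnd)).1 hnd _ h _ h' rfl
    exact congrArg Prod.snd hinj
  let K : Subgroup ↥(Subgroup.centralizer ({t} : Set G)) :=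
    { carrier := {c | cod e c ∈ a.map Prod.fst}
      one_mem' := by
        show cod e (1 : ↥(Subgroup.centralizer ({t} : Set G))) ∈ a.map Prod.fst
        rw [cod_one]; exact List.mem_map.2 ⟨_, h00, rfl⟩
      mul_mem' := fun {x y} hx hy => by
        show cod e (x * y) ∈ a.map Prod.fst
        obtain ⟨p, hp, hp'⟩ := List.mem_map.1 hx
        obtain ⟨q, hq, hq'⟩ := List.mem_map.1 hy
        rw [cod_mul, ← hp', ← hq']
        exact List.mem_map.2 ⟨_, (hcl p hp).2 q hq, rfl⟩
      inv_mem' := fun {x} hx => by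
        show cod e x⁻¹ ∈ a.map Prod.fst
        obtain ⟨p, hp, hp'⟩ := List.mem_map.1 hx
        rw [cod_inv, ← hp']
        exact (hcl p hp).1.2 }
  have hex : ∀ c : K, ∃ m, (cod e c.1, m) ∈ a := fun c => by
    obtain ⟨p, hp, hp'⟩ := List.mem_map.1 c.2
    exact ⟨p.2, by rw [← hp']; exact hp⟩
  choose ex hex using hex
  have hζ : zeta n ^ n = 1 := zeta_pow hn
  let u : ℂˣ := Units.ofPowEqOne (zeta n) n hζ hn0.ne'
  have hu : ∀ m : ℕ, ((u ^ m : ℂˣ) : ℂ) = zeta n ^ m := fun m => by
    rw [Units.val_pow_eq_pow_val, Units.val_ofPowEqOne]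
  let l : K →* ℂˣ :=
    { toFun := fun c => u ^ ex c
      map_one' := by
        have h0 : (0, ex 1) ∈ a := by
          have := hex 1
          rwa [OneMemClass.coe_one, cod_one] at this
        rw [huniq h0 h00, pow_zero]
      map_mul' := fun x y => by
        apply Units.ext
        rw [Units.val_mul, hu, hu, hu, ← pow_add]
        have h1 := (hcl _ (hex x)).2 _ (hex y)
        have h2 := hex (x * y)
        rw [Subgroup.coe_mul, cod_mul] at h2
        rw [huniq h2 h1, ← pow_eq_pow_mod _ hζ] }
  have hK : Nat.card K = a.length := by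
    rw [← List.length_map (f := Prod.fst), ← List.toFinset_card_of_nodup hnd, ← Nat.card_eq_finsetCard]
    refine Nat.card_congr (Equiv.ofBijective (fun c => ⟨cod e c.1, List.mem_toFinset.2 c.2⟩) ⟨?_, ?_⟩)
    · exact fun x y h => Subtype.ext (cod_injective e (congrArg Subtype.val h))
    · rintro ⟨x, hx⟩
      have hx' := List.mem_toFinset.1 hx
      obtain ⟨p, hp, hp'⟩ := List.mem_map.1 hx'
      have hx1920 : x < 1920 := hp' ▸ (hlt p hp).1
      exact ⟨⟨e.dec x, by show cod e (e.dec x) ∈ a.map Prod.fst; rw [cod_dec e hx1920]; exact hx'⟩,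
        Subtype.ext (cod_dec e hx1920)⟩
  refine (congrArg (IsCharacter _) (funext fun g => ?_)).mp (isCharacter_indFun K (isCharacter_hom K l))
  let F : ℕ → ℂ := fun x =>
    if clsC x = cls e g then (a.map fun p => if p.1 = x then zeta n ^ p.2 else 0).sum else 0
  have hpick : ∀ {x m : ℕ}, (x, m) ∈ a → ∀ (b : List (ℕ × ℕ)), (b.map Prod.fst).Nodup → (∀ p ∈ b, p ∈ a) →
      (x, m) ∈ b → (b.map fun p => if p.1 = x then zeta n ^ p.2 else 0).sum = zeta n ^ m := by
    intro x m hxm b
    induction b with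
    | nil => intro _ _ h; simp at h
    | cons p b ih =>
      intro hb hsub h
      rw [List.map_cons, List.nodup_cons] at hb
      rw [List.map_cons, List.sum_cons]
      rcases List.mem_cons.1 h with rfl | h'
      · rw [if_pos rfl, List.sum_eq_zero, add_zero]
        intro z hz
        obtain ⟨q, hq, rfl⟩ := List.mem_map.1 hz
        exact if_neg fun e' => hb.1 (List.mem_map.2 ⟨q, hq, e'⟩)
      · rw [if_neg fun e' => hb.1 (List.mem_map.2 ⟨_, h', e'.symm⟩),
          ih hb.2 (fun q hq => hsub q (List.mem_cons_of_mem _ hq)) h', zero_add]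
  have hmid : ∑ y with cls e y = cls e g, extendByZero K (fun c => (l c : ℂ)) y =
      vf (comb a n (cls e g)) := by
    have h5 := hcls _ (List.mem_range.2 (cls_lt e g))
    calc ∑ y with cls e y = cls e g, extendByZero K (fun c => (l c : ℂ)) y
        = ∑ y : ↥(Subgroup.centralizer ({t} : Set G)), F (cod e y) := by
          rw [Finset.sum_filter]
          refine Finset.sum_congr rfl fun y _ => ?_
          by_cases hy : cls e y = cls e g
          · simp only [F, if_pos hy, if_pos (show clsC (cod e y) = cls e g from hy)]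
            by_cases hK' : y ∈ K
            · rw [extendByZero_mem K _ hK', hpick (hex ⟨y, hK'⟩) a hnd (fun _ h => h) (hex ⟨y, hK'⟩)]
              exact hu _
            · rw [extendByZero_not_mem K _ hK', List.sum_eq_zero]
              intro z hz
              obtain ⟨q, hq, rfl⟩ := List.mem_map.1 hz
              exact if_neg fun e' => hK' (List.mem_map.2 ⟨q, hq, e'⟩)
          · rw [if_neg hy]
            exact (if_neg (show ¬ clsC (cod e y) = cls e g from hy)).symm
      _ = (a.map fun p => if clsC p.1 = cls e g then zeta n ^ p.2 else 0).sum := by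
          rw [sum_cod e F]
          have : ∀ b : List (ℕ × ℕ), (∀ p ∈ b, p.1 < 1920) →
              ∑ x ∈ Finset.range 1920, (if clsC x = cls e g then
                (b.map fun p => if p.1 = x then zeta n ^ p.2 else 0).sum else 0) =
              (b.map fun p => if clsC p.1 = cls e g then zeta n ^ p.2 else 0).sum := by
            intro b
            induction b with
            | nil => intro _; simp
            | cons p b ih =>
              intro hb
              rw [List.map_cons, List.sum_cons, ← ih fun q hq => hb q (List.mem_cons_of_mem _ hq),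
                show (if clsC p.1 = cls e g then zeta n ^ p.2 else 0) = ∑ x ∈ Finset.range 1920,
                  if p.1 = x then (if clsC x = cls e g then zeta n ^ p.2 else 0) else 0 by
                rw [Finset.sum_ite_eq, if_pos (Finset.mem_range.2 (hb p List.mem_cons_self))],
                ← Finset.sum_add_distrib]
              refine Finset.sum_congr rfl fun x _ => ?_
              rw [List.map_cons, List.sum_cons]
              by_cases h1 : clsC x = cls e g <;> by_cases h2 : p.1 = x <;> simp [h1, h2]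
          exact this a fun p hp => (hlt p hp).1
      _ = ∑ m ∈ Finset.range n, (cnt a (cls e g) m : ℂ) * zeta n ^ m :=
          sum_pow_cnt a _ _ fun p hp => (hlt p hp).2
      _ = _ := comb_eq a hn _
          (fun h => by have := h5.1; rw [if_pos h] at this; exact of_decide_eq_true this)
          (fun h => by have := h5.1; subst h; simpa using this)
  have hval := (hcls _ (List.mem_range.2 (cls_lt e g))).2
  have hcs : (csz.getD (cls e g) 0 : ℂ) ≠ 0 := by
    have h := List.all_eq_true.1 csz_ok _ (List.mem_range.2 (cls_lt e g))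
    simp only [Bool.and_eq_true, Nat.blt_eq] at h
    exact Nat.cast_ne_zero.2 h.1.2.ne'
  have ha0 : (a.length : ℂ) ≠ 0 := Nat.cast_ne_zero.2 (List.length_pos_of_mem h00).ne'
  have hget : csz.getD (cls e g) 1 = csz.getD (cls e g) 0 := by
    have : cls e g < csz.length := cls_lt e g
    simp [List.getD_eq_getElem?_getD, List.getElem?_eq_getElem this]
  show indFun K (fun c => (l c : ℂ)) g = vf (indV (a, n) (cls e g))
  have hind : (csz.getD (cls e g) 0 : ℂ) * ((a.length : ℂ) * indFun K (fun c => (l c : ℂ)) g) =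
      1920 * vf (comb a n (cls e g)) := by
    rw [indFun, hK, ← mul_assoc (a.length : ℂ), mul_inv_cancel₀ ha0, one_mul, sum_conjugates e, hmid]
  refine mul_left_cancel₀ ha0 (mul_left_cancel₀ hcs (hind.trans ?_))
  obtain ⟨v1, v2⟩ := hval
  have v1' := congrArg (Int.cast : ℤ → ℂ) v1
  have v2' := congrArg (Int.cast : ℤ → ℂ) v2
  push_cast [hget] at v1' v2'
  simp only [vf]
  linear_combination (-1 : ℂ) * v1' - ff * v2'

theorem gen_fi {i : ℕ} (hi : i < 7) : IsGeneralizedCharacter ↥(Subgroup.centralizer ({t} : Set G)) (fi e i) := by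
  classical
  let z : ℕ → ℤ := fun k => (thCoef.getD i []).getD k 0
  let χ : ℕ → ↥(Subgroup.centralizer ({t} : Set G)) → ℂ := fun k c => vf (indV (linData.getD k ([], 1)) (cls e c))
  have hχ : ∀ k ∈ Finset.range linData.length, IsCharacter _ (χ k) := fun k hk => by
    have hk' := Finset.mem_range.1 hk
    refine char_lin e (List.all_eq_true.1 lin_ok _ ?_)
    rw [List.getD_eq_getElem?_getD, List.getElem?_eq_getElem hk', Option.getD_some]
    exact List.getElem_mem hk'
  refine ⟨∑ k ∈ Finset.range linData.length, (z k).toNat • χ k, ∑ k ∈ Finset.range linData.length, (-z k).toNat • χ k,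
    isCharacter_sum _ _ fun k hk => isCharacter_nsmul (hχ k hk) _,
    isCharacter_sum _ _ fun k hk => isCharacter_nsmul (hχ k hk) _, funext fun c => ?_⟩
  have hth := of_decide_eq_true (List.all_eq_true.1 (List.all_eq_true.1 th_comb i (List.mem_range.2 hi)) _
    (List.mem_range.2 (cls_lt e c)))
  rw [fi, ← hth, thSum, List.foldl_map]
  have hfold : ∀ n, vf ((List.range n).foldl (fun s k => (s.1 + z k * (indV (linData.getD k ([], 1)) (cls e c)).1,
      s.2 + z k * (indV (linData.getD k ([], 1)) (cls e c)).2)) (0, 0)) =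
      ∑ k ∈ Finset.range n, (z k : ℂ) * χ k c := by
    intro n
    induction n with
    | zero => simp [vf]
    | succ n ih =>
      rw [List.range_succ, List.foldl_append, Finset.sum_range_succ, ← ih]
      simp only [List.foldl_cons, List.foldl_nil, vf_add, χ]
      rw [vf_scale]
  rw [hfold, Pi.sub_apply, Finset.sum_apply, Finset.sum_apply, ← Finset.sum_sub_distrib]
  refine Finset.sum_congr rfl fun k _ => ?_
  simp only [Pi.smul_apply, nsmul_eq_mul]
  rw [← sub_mul]
  congr 1
  have h : (((z k).toNat : ℤ) : ℂ) - (((-z k).toNat : ℤ) : ℂ) = (z k : ℂ) := by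
    rw [← Int.cast_sub, Int.toNat_sub_toNat_neg]
  exact_mod_cast h.symm

end Coord

end Cfsg.Agent.Spor.JThree
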