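import Cfsg.Agent.Lib.Spor.JThree.Lattice

/-!
The numerical system satisfied by the irreducible characters.
-/

set_option autoImplicit false

namespace Cfsg.Agent.Spor.JThree

/-- the Galois permutation of the seven coordinates -/
def sgi (i : ℕ) : ℕ := if i = 1 then 2 else if i = 2 then 1 else i

/-- the Galois signs -/
def sgs (i : ℕ) : ℤ := if i = 1 ∨ i = 2 then -1 else 1

/-- a linear form in seven coordinates -/
def lin7 (w : List ℤ) (f : ℕ → ℤ) : ℤ := ∑ i ∈ Finset.range 7, w.getD i 0 * f i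

/-- the residue condition on the degree -/
def resForm (f : ℕ → ℤ) : ℤ := 35 * lin7 wX f + 44 * lin7 wFour f + 48 * lin7 wEight f

/-- the system: coordinates `z`, principal index `o`, Galois permutation `π`, degrees `d`, order `g` -/
structure Sys (ι : Type*) [Fintype ι] (z : ℕ → ι → ℤ) (o : ι) (π : ι → ι) (d : ι → ℕ) (g : ℕ) : Prop where
  inner : ∀ i < 7, ∀ j < 7, ∑ χ, z i χ * z j χ = gram i j
  princ : ∀ i < 7, z i o = cOne.getD i 0
  deg : ∀ i < 7, ∑ χ, z i χ * (d χ : ℤ) = 0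
  gal : ∀ i < 7, ∀ χ, z i (π χ) = sgs i * z (sgi i) χ
  dpos : ∀ χ, 0 < d χ
  one : d o = 1
  cong : ∀ χ, (128 : ℤ) ∣ (d χ : ℤ) + resForm fun i => z i χ
  sq : ∑ χ, (d χ : ℤ) ^ 2 = g
  dvd : 1920 ∣ g
  pairs : ∀ i < 7, ∑ χ, (z i χ : ℚ) * ((lin7 wX fun k => z k χ : ℤ) : ℚ) ^ 2 / (d χ : ℚ) =
    (1920 * kW.getD i 0 : ℤ) / (g : ℚ)

end Cfsg.Agent.Spor.JThree
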