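import Mathlib
import Cfsg.Agent.Lib.Lead.GLTwoThree.Order
import Cfsg.Agent.Lib.Char.GaloisConj
import Cfsg.Agent.Lib.Spor.JThree.Local
import Cfsg.Agent.Lib.Spor.JThree.Sys

/-!
Induced class functions from the centralizer, and the resulting system of equations.
-/

set_option autoImplicit false
set_option linter.style.haveILetI false
set_option linter.unusedSectionVars false
set_option maxRecDepth 20000
set_option maxHeartbeats 1000000

namespace Cfsg.Agent.Spor.JThree

open Cfsg Module Cfsg.Agent.Char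
open Cfsg.Agent.Lead.GLTwoThree (orderOf_two_iff mem_cent_iff t_mem pairCount pairCount_class)
open scoped ComplexConjugate

universe u

variable {G : Type u} [Group G] {t : G} (ht : orderOf t = 2) (e : Coord t)

theorem csum_cast (F : ℕ → ℤ × ℤ) :
    vf (csum F) = ∑ j ∈ Finset.range 16, (csz.getD j 0 : ℂ) * vf (F j) := by
  have : ∀ n, vf ((List.range n).foldl (fun s j => (s.1 + (csz.getD j 0 : ℕ) * (F j).1, s.2 + (csz.getD j 0 : ℕ) * (F j).2)) (0, 0)) =
      ∑ j ∈ Finset.range n, (csz.getD j 0 : ℂ) * vf (F j) := by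
    intro n
    induction n with
    | zero => simp [vf]
    | succ n ih =>
      rw [List.range_succ, List.foldl_append, Finset.sum_range_succ, ← ih]
      simp only [List.foldl_cons, List.foldl_nil, vf_add, vf_scale, Int.cast_natCast]
  exact this 16

theorem lcomb_cast (w : List ℤ) (j : ℕ) :
    vf (lcomb w j) = ∑ i ∈ Finset.range 7, (w.getD i 0 : ℂ) * vf (thV i (labR.getD j 7)) := by
  have : ∀ n, vf ((List.range n).foldl (fun s i => (s.1 + w.getD i 0 * (thV i (labR.getD j 7)).1,
      s.2 + w.getD i 0 * (thV i (labR.getD j 7)).2)) (0, 0)) =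
      ∑ i ∈ Finset.range n, (w.getD i 0 : ℂ) * vf (thV i (labR.getD j 7)) := by
    intro n
    induction n with
    | zero => simp [vf]
    | succ n ih =>
      rw [List.range_succ, List.foldl_append, Finset.sum_range_succ, ← ih]
      simp only [List.foldl_cons, List.foldl_nil, vf_add, vf_scale]
  exact this 7

/-- the central involution in the centralizer -/
noncomputable def tC : ↥(Subgroup.centralizer ({t} : Set G)) := e.dec 1

theorem tC_coe : (tC e : G) = t := e.one

theorem dec_pow {x : ℕ} (hx : x < 1920) (k : ℕ) : cod e (e.dec x ^ k) = pw x k := by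
  rw [cod_pow, cod_dec e hx]

theorem conj_tC (w : ↥(Subgroup.centralizer ({t} : Set G))) : w * tC e * w⁻¹ = tC e := Subtype.ext (by
  simp only [Subgroup.coe_mul, Subgroup.coe_inv, tC_coe]
  rw [mem_cent_iff.1 w.2, mul_inv_cancel_right])

include ht in
/-- powers of special elements -/
theorem root_power {n : ↥(Subgroup.centralizer ({t} : Set G))} (hr : labR.getD (cls e n) 7 ≠ 7) :
    (∃ k, (n : G) ^ k = t) ∧ ∀ k, orderOf ((n : G) ^ k) = 2 → (n : G) ^ k = t := by
  obtain ⟨w, hw⟩ := cls_spec e n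
  obtain ⟨hj, hlt⟩ : cls e n < 16 ∧ rep (cls e n) < 1920 := ⟨cls_lt e n, (rep_facts (cls_lt e n)).1⟩
  have h := List.all_eq_true.1 root_ok _ (List.mem_range.2 hj)
  simp only [Bool.or_eq_true, Bool.and_eq_true, List.any_eq_true, List.all_eq_true, Bool.not_eq_eq_eq_not,
    Bool.not_true] at h
  rcases h with h | ⟨⟨h120, k0, -, hk0⟩, hall⟩
  · exact absurd (Nat.eq_of_beq_eq_true h) hr
  set R := e.dec (rep (cls e n))
  have hpow : ∀ k, n ^ k = w * R ^ k * w⁻¹ := fun k => by rw [hw, conj_pow]
  have key : ∀ k, pw (rep (cls e n)) k = 1 → (n : G) ^ k = t := fun k hk => by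
    have hR : R ^ k = tC e := cod_injective e (by
      rw [dec_pow e hlt, hk, tC, cod_dec e (by norm_num)])
    rw [← Subgroup.coe_pow, hpow, hR, conj_tC, tC_coe]
  refine ⟨⟨k0, key _ (Nat.eq_of_beq_eq_true hk0)⟩, fun k hk => ?_⟩
  have hR120 : R ^ 120 = 1 := cod_injective e (by
    rw [dec_pow e hlt, Nat.eq_of_beq_eq_true h120, cod_one])
  have hn120 : n ^ 120 = 1 := by rw [hpow, hR120, mul_one, mul_inv_cancel]
  have hmod : (n : G) ^ k = (n : G) ^ (k % 120) := by
    rw [← Subgroup.coe_pow, ← Subgroup.coe_pow, pow_eq_pow_mod k hn120]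
  rw [hmod] at hk ⊢
  obtain ⟨h2, hne⟩ := orderOf_two_iff.1 hk
  rcases hall (k % 120) (List.mem_range.2 (Nat.mod_lt _ (by norm_num))) with (h' | h') | h'
  · exfalso
    have : mc (pw (rep (cls e n)) (k % 120)) (pw (rep (cls e n)) (k % 120)) = 0 := by
      rw [← dec_pow e hlt, ← cod_mul, ← cod_one e]
      refine congrArg (cod e) ((conj_eq_one_iff (a := w)).1 ?_)
      rw [← conj_mul, ← hpow]
      exact Subtype.ext (by simpa using h2)
    rw [this] at h'
    simp at h'
  · exfalso
    refine hne ?_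
    have hR : R ^ (k % 120) = 1 := cod_injective e (by rw [dec_pow e hlt, Nat.eq_of_beq_eq_true h', cod_one])
    rw [← Subgroup.coe_pow, hpow, hR, mul_one, mul_inv_cancel, Subgroup.coe_one]
  · exact key _ (Nat.eq_of_beq_eq_true h')

section Induced

variable [Fintype G]

/-- the induced class functions -/
noncomputable def theta (i : ℕ) : G → ℂ := indFun (Subgroup.centralizer ({t} : Set G)) (fi e i)

theorem gen_theta {i : ℕ} (hi : i < 7) : IsGeneralizedCharacter G (theta e i) := by
  classical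
  haveI := Fintype.ofFinite ↥(Subgroup.centralizer ({t} : Set G))
  obtain ⟨a, b, ha, hb, hab⟩ := gen_fi e hi
  refine ⟨_, _, isCharacter_indFun _ ha, isCharacter_indFun _ hb, ?_⟩
  rw [← indFun_sub, theta, hab]

include ht in
theorem theta_root {i : ℕ} (hi : i < 7) {n : ↥(Subgroup.centralizer ({t} : Set G))}
    (hr : labR.getD (cls e n) 7 ≠ 7) : theta e i n = fi e i n := by
  classical
  have hterm : ∀ x : G, extendByZero (Subgroup.centralizer ({t} : Set G)) (fi e i) (x⁻¹ * (n : G) * x) =
      if x ∈ (Subgroup.centralizer ({t} : Set G)) then fi e i n else 0 := by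
    intro x
    split_ifs with hx
    · have hm : x⁻¹ * (n : G) * x ∈ (Subgroup.centralizer ({t} : Set G)) :=
        mul_mem (mul_mem (inv_mem hx) n.2) hx
      rw [extendByZero_mem _ _ hm, ← fi_class e i n ⟨x⁻¹, inv_mem hx⟩]
      congr 1
      ext
      simp
    · by_cases hm : x⁻¹ * (n : G) * x ∈ (Subgroup.centralizer ({t} : Set G))
      · rw [extendByZero_mem _ _ hm]
        refine fi_off e hi ?_
        by_contra hne
        obtain ⟨⟨k, hk⟩, -⟩ := root_power ht e hr
        obtain ⟨-, huniq⟩ := root_power ht e hne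
        have hc : (x⁻¹ * (n : G) * x) ^ k = x⁻¹ * t * x := by
          have := conj_pow (a := x⁻¹) (b := (n : G)) (i := k)
          rw [inv_inv] at this
          rw [this, hk]
        have := huniq k (by
          show orderOf ((x⁻¹ * (n : G) * x) ^ k) = 2
          rw [hc, ← ht, show x⁻¹ * t * x = MulAut.conj x⁻¹ t by rw [MulAut.conj_apply, inv_inv]]
          exact MulEquiv.orderOf_eq _ t)
        apply hx
        rw [mem_cent_iff]
        have e' : x⁻¹ * t * x = t := by rw [← hc]; exact this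
        calc x * t = x * (x⁻¹ * t * x) := by rw [e']
          _ = t * x := by group
      · exact extendByZero_not_mem _ _ hm
  simp only [theta, indFun, hterm, Finset.sum_ite, Finset.sum_const_zero, add_zero, Finset.sum_const, nsmul_eq_mul]
  rw [← Fintype.card_subtype, ← Nat.card_eq_fintype_card, ← mul_assoc, inv_mul_cancel₀, one_mul]
  exact Nat.cast_ne_zero.mpr Nat.card_pos.ne'

theorem theta_one {i : ℕ} (hi : i < 7) : theta e i 1 = 0 := by
  rw [theta, indFun_one]
  have hcls : cls e (1 : ↥(Subgroup.centralizer ({t} : Set G))) = clsC 0 := by rw [cls, cod_one]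
  rw [fi_off e hi (by rw [hcls]; decide +kernel), mul_zero]

variable [Fintype ↥(Subgroup.centralizer ({t} : Set G))]

theorem classInner_local (F K : ℕ → ℂ) :
    classInner (fun c : ↥(Subgroup.centralizer ({t} : Set G)) => F (cls e c)) (fun c => K (cls e c)) =
      (1920 : ℂ)⁻¹ * ∑ j ∈ Finset.range 16, (csz.getD j 0 : ℂ) * (F j * conj (K j)) := by
  rw [classInner, card_eq e, sum_cls e (fun j => F j * conj (K j))]
  norm_num

include ht in
theorem inner_theta {i k : ℕ} (hi : i < 7) (hk : k < 7) : classInner (theta e i) (theta e k) = (gram i k : ℂ) := by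
  classical
  show classInner (indFun (Subgroup.centralizer ({t} : Set G)) (fi e i)) (theta e k) = _
  rw [Cfsg.Agent.Char.frobenius _ _ (show IsClassFunction G (theta e k) from isClassFunction_indFun _ _)]
  have hres : ∀ n : ↥(Subgroup.centralizer ({t} : Set G)),
      fi e i n * conj (theta e k (n : G)) = fi e i n * conj (fi e k n) := fun n => by
    by_cases hr : labR.getD (cls e n) 7 = 7
    · rw [fi_off e hi hr, zero_mul, zero_mul]
    · rw [theta_root ht e hk hr]
  have h := classInner_local e (fun j => vf (thV i (labR.getD j 7))) (fun j => vf (thV k (labR.getD j 7)))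
  have hsum := congrArg vf (of_decide_eq_true
    (List.all_eq_true.1 (List.all_eq_true.1 gram_ok i (List.mem_range.2 hi)) k (List.mem_range.2 hk)))
  rw [csum_cast, vf_int] at hsum
  push_cast at hsum
  simp only [vf_mul] at hsum
  simp only [conj_vf] at h
  rw [hsum, ← mul_assoc, inv_mul_cancel₀ (by norm_num), one_mul] at h
  rw [← h, classInner, classInner]
  congr 1
  exact Finset.sum_congr rfl fun n _ => hres n

theorem inner_theta_one {i : ℕ} (hi : i < 7) : classInner (theta e i) (fun _ => 1) = (cOne.getD i 0 : ℂ) := by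
  classical
  rw [theta, Cfsg.Agent.Char.frobenius _ _ (show IsClassFunction G (fun _ => (1 : ℂ)) from fun _ _ => rfl)]
  have h := classInner_local e (fun j => vf (thV i (labR.getD j 7))) (fun _ => 1)
  have hsum := congrArg vf (of_decide_eq_true (List.all_eq_true.1 one_ok i (List.mem_range.2 hi)))
  rw [csum_cast, vf_int] at hsum
  push_cast at hsum
  simp only [map_one, mul_one] at h
  rw [hsum, ← mul_assoc, inv_mul_cancel₀ (by norm_num), one_mul] at h
  exact h

/-- reading off values from coordinates -/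
theorem value_of (w : List ℤ) {j₀ : ℕ} (hj₀ : j₀ < 16) {m : ℕ} (hm : (csz.getD j₀ 0 : ℕ) * m = 1920)
    (hw : ∀ j < 16, lcomb w j = if j = j₀ then ((m : ℤ), 0) else (0, 0))
    {χ : G → ℂ} (hχ : IsClassFunction G χ) {y : ↥(Subgroup.centralizer ({t} : Set G))} (hy : cls e y = j₀) :
    ∑ i ∈ Finset.range 7, (w.getD i 0 : ℂ) * classInner (theta e i) χ = conj (χ y) := by
  classical
  simp only [theta, Cfsg.Agent.Char.frobenius _ _ hχ]
  simp only [classInner, card_eq e, ← mul_assoc, mul_comm _ ((1920 : ℕ) : ℂ)⁻¹]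
  simp only [mul_assoc, ← Finset.mul_sum]
  have hval : ∀ c : ↥(Subgroup.centralizer ({t} : Set G)),
      ∑ i ∈ Finset.range 7, (w.getD i 0 : ℂ) * (fi e i c * conj (χ c)) =
        if cls e c = j₀ then (m : ℂ) * conj (χ y) else 0 := by
    intro c
    simp only [← mul_assoc, ← Finset.sum_mul, fi, ← lcomb_cast, hw _ (cls_lt e c)]
    split_ifs with hc
    · rw [vf_int, Int.cast_natCast]
      congr 2
      obtain ⟨a, ha⟩ := cls_spec e c
      obtain ⟨b, hb⟩ := cls_spec e y
      rw [hc] at ha
      rw [hy] at hb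
      have hcy : (c : G) = ((a * b⁻¹ : ↥(Subgroup.centralizer ({t} : Set G))) : G) * y *
          ((a * b⁻¹ : ↥(Subgroup.centralizer ({t} : Set G))) : G)⁻¹ := by
        rw [← Subgroup.coe_inv, ← Subgroup.coe_mul, ← Subgroup.coe_mul]
        refine congrArg Subtype.val ?_
        conv_lhs => rw [ha]
        conv_rhs => rw [hb]
        group
      rw [hcy, hχ]
    · rw [vf_zero, zero_mul]
  rw [Finset.sum_congr rfl fun i _ => Finset.mul_sum _ _ _, Finset.sum_comm, Finset.sum_congr rfl fun c _ => hval c, Finset.sum_ite, Finset.sum_const_zero, add_zero,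
    Finset.sum_const, nsmul_eq_mul, card_class e hj₀, ← mul_assoc, ← mul_assoc]
  have hm' : (csz.getD j₀ 0 : ℂ) * m = 1920 := by exact_mod_cast hm
  rw [mul_assoc ((1920 : ℕ) : ℂ)⁻¹, hm']
  norm_num

omit [Fintype G] [Fintype ↥(Subgroup.centralizer ({t} : Set G))] in
include ht in
theorem pairCount_root [Finite G] {n : ↥(Subgroup.centralizer ({t} : Set G))}
    (hr : labR.getD (cls e n) 7 ≠ 7) : pairCount (n : G) = pairsR.getD (cls e n) 0 := by
  classical
  haveI := Fintype.ofFinite ↥(Subgroup.centralizer ({t} : Set G))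
  obtain ⟨w, hw⟩ := cls_spec e n
  obtain ⟨hj, hlt⟩ : cls e n < 16 ∧ rep (cls e n) < 1920 := ⟨cls_lt e n, (rep_facts (cls_lt e n)).1⟩
  have hR : labR.getD (cls e (e.dec (rep (cls e n)))) 7 ≠ 7 := by
    rwa [cls, cod_dec e hlt, (rep_facts hj).2]
  obtain ⟨⟨k, hk⟩, -⟩ := root_power ht e hR
  have h1 : pairCount (n : G) = pairCount (e.dec (rep (cls e n)) : G) := by
    conv_lhs => rw [hw]
    simp only [Subgroup.coe_mul, Subgroup.coe_inv, pairCount_class]
  rw [h1]
  obtain ⟨r, hr'⟩ : ∃ r, r = e.dec (rep (cls e n)) := ⟨_, rfl⟩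
  rw [← hr'] at hk hR ⊢
  have hu : ∀ u : G, orderOf u = 2 ∧ orderOf (u * (r : G)) = 2 → u ∈ Subgroup.centralizer ({t} : Set G) := by
    rintro u ⟨h1, h2⟩
    obtain ⟨a, -⟩ := orderOf_two_iff.1 h1
    obtain ⟨b, -⟩ := orderOf_two_iff.1 h2
    obtain ⟨c, -⟩ := orderOf_two_iff.1 ht
    have hi : u⁻¹ = u := inv_eq_of_mul_eq_one_left a
    have hinv : u * (r : G) * u⁻¹ = (r : G)⁻¹ := by
      rw [hi]; exact eq_inv_of_mul_eq_one_left (by rw [mul_assoc]; exact b)
    have := congrArg (fun z => z ^ k) hinv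
    simp only [conj_pow, inv_pow, hk, inv_eq_of_mul_eq_one_left c] at this
    rw [mem_cent_iff]
    calc u * t = (u * t * u⁻¹) * u := by group
      _ = t * u := by rw [this]
  have hinvol : ∀ g : ↥(Subgroup.centralizer ({t} : Set G)), orderOf (g : G) = 2 ↔ mc (cod e g) (cod e g) = 0 ∧ cod e g ≠ 0 := by
    intro g
    rw [Subgroup.orderOf_coe, orderOf_two_iff, ← cod_mul, ← cod_one e, (cod_injective e).eq_iff,
      (cod_injective e).ne_iff]
  let P : ℕ → Prop := fun x => (mc x x = 0 ∧ x ≠ 0) ∧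
    (mc (mc x (cod e r)) (mc x (cod e r)) = 0 ∧ mc x (cod e r) ≠ 0)
  have hP : ∀ g : ↥(Subgroup.centralizer ({t} : Set G)),
      (orderOf (g : G) = 2 ∧ orderOf ((g : G) * r) = 2) ↔ P (cod e g) := fun g => by
    rw [← Subgroup.coe_mul, hinvol, hinvol, cod_mul]
  rw [pairCount, Nat.card_congr (α := {u : G // orderOf u = 2 ∧ orderOf (u * (r : G)) = 2})
    (β := {g : ↥(Subgroup.centralizer ({t} : Set G)) // P (cod e g)})
    { toFun := fun u => ⟨⟨u.1, hu _ u.2⟩, (hP ⟨u.1, hu _ u.2⟩).1 u.2⟩
      invFun := fun g => ⟨(g.1 : G), (hP _).2 g.2⟩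
      left_inv := fun _ => rfl
      right_inv := fun _ => rfl },
    Nat.card_eq_fintype_card, Fintype.card_subtype, Finset.card_filter, sum_cod e (fun x => if P x then 1 else 0),
    ← Finset.card_filter]
  have h := List.all_eq_true.1 pairs_ok _ (List.mem_range.2 hj)
  simp only [Bool.or_eq_true] at h
  rcases h with h | h
  · exact absurd (Nat.eq_of_beq_eq_true h) hr
  refine Eq.trans ?_ (Nat.eq_of_beq_eq_true h)
  simp only [invPairs, countP_range]
  refine congrArg Finset.card (Finset.filter_congr fun x _ => ?_)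
  have hb : ∀ a b : ℕ, Nat.beq a b = true ↔ a = b :=
    fun a b => ⟨Nat.eq_of_beq_eq_true, fun e => by rw [e]; exact Nat.beq_refl _⟩
  simp only [P, hr', cod_dec e hlt, Bool.and_eq_true, Bool.not_eq_eq_eq_not, Bool.not_true, ← Bool.not_eq_true, hb]
  tauto

include ht in
theorem pair_equation (hconj : ∀ u : G, orderOf u = 2 → IsConj t u) {i : ℕ} (hi : i < 7) :
    ∑ a : G, ∑ b : G, theta e i (a * t * a⁻¹ * (b * t * b⁻¹)) =
      (Nat.card G : ℂ) * 1920 * (kW.getD i 0 : ℂ) := by
  classical
  have hN : (Nat.card ↥(Subgroup.centralizer ({t} : Set G)) : ℂ) = 1920 := by rw [card_eq e]; norm_num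
  have hswap : ∀ f : G → ℂ, ∑ a : G, f (a * t * a⁻¹) = 1920 * ∑ y : G with orderOf y = 2, f y := by
    intro f
    rw [← hN, show Finset.univ.filter (fun y : G => orderOf y = 2) = Finset.univ.filter (fun y : G => IsConj t y) from
      Finset.filter_congr fun y _ => ⟨hconj y, fun h => by
        obtain ⟨c, hc⟩ := isConj_iff.1 h
        rw [← hc, show c * t * c⁻¹ = MulAut.conj c t from rfl, MulEquiv.orderOf_eq, ht]⟩, ← sum_conj_eq t f]
    exact Fintype.sum_equiv (Equiv.inv G) _ _ fun a => by simp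
  rw [hswap (fun u => ∑ b : G, theta e i (u * (b * t * b⁻¹)))]
  rw [Finset.sum_congr rfl fun u _ => hswap (fun v => theta e i (u * v)), ← Finset.mul_sum]
  have hre : ∀ u : G, orderOf u = 2 → (∑ v : G with orderOf v = 2, theta e i (u * v)) =
      ∑ g : G, if orderOf (u * g) = 2 then theta e i g else 0 := by
    intro u hu
    obtain ⟨a, -⟩ := orderOf_two_iff.1 hu
    rw [Finset.sum_filter]
    exact Fintype.sum_equiv (Equiv.mulLeft u) _ _ fun v => by
      simp [← mul_assoc, a]
  rw [Finset.sum_congr rfl fun u hu => hre u (Finset.mem_filter.1 hu).2, Finset.sum_comm]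
  have hcnt : ∀ g : G, (∑ u : G with orderOf u = 2, if orderOf (u * g) = 2 then theta e i g else 0) =
      theta e i g * conj ((pairCount g : ℕ) : ℂ) := by
    intro g
    rw [map_natCast, ← Finset.sum_filter, Finset.sum_const, nsmul_eq_mul, mul_comm, pairCount,
      Nat.card_eq_fintype_card, Fintype.card_subtype, Finset.filter_filter]
  rw [Finset.sum_congr rfl fun g _ => hcnt g]
  have hG0 : (Nat.card G : ℂ) ≠ 0 := Nat.cast_ne_zero.2 Nat.card_pos.ne'
  have hfr := Cfsg.Agent.Char.frobenius (Subgroup.centralizer ({t} : Set G)) (fi e i)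
    (χ := fun g => ((pairCount g : ℕ) : ℂ)) (fun g h => by simp only [pairCount_class])
  have hloc : ∑ n : (Subgroup.centralizer ({t} : Set G)), fi e i n * conj ((pairCount (n : G) : ℕ) : ℂ) =
      (kW.getD i 0 : ℂ) := by
    have hsum := congrArg vf (of_decide_eq_true (List.all_eq_true.1 pairs_sum i (List.mem_range.2 hi)))
    rw [csum_cast, vf_int] at hsum
    rw [← hsum, ← sum_cls e]
    refine Finset.sum_congr rfl fun n _ => ?_
    rw [map_natCast]
    by_cases hr : labR.getD (cls e n) 7 = 7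
    · rw [fi_off e hi hr, zero_mul, hr, of_decide_eq_true (List.all_eq_true.1 th_off i (List.mem_range.2 hi))]
      simp [vf]
    · rw [pairCount_root ht e hr]
      simp only [fi, vf]
      push_cast
      ring
  simp only [classInner, hloc, hN] at hfr
  change (Nat.card G : ℂ)⁻¹ * ∑ g : G, theta e i g * conj ((pairCount g : ℕ) : ℂ) = _ at hfr
  rw [inv_mul_eq_iff_eq_mul₀ hG0] at hfr
  rw [hfr]
  ring

end Induced

/-- An exponent prime to the group order that is `7` modulo `120`. -/
theorem exists_exponent (g : ℕ) (hg : g ≠ 0) : ∃ k : ℕ, k.Coprime g ∧ k % 120 = 7 := by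
  refine ⟨7 + 120 * ∏ q ∈ g.primeFactors.erase 7, q, Nat.coprime_of_dvd fun r hr h1 h2 => ?_, by omega⟩
  by_cases h7 : r = 7
  · subst h7
    have h30 : 7 ∣ 120 * ∏ q ∈ g.primeFactors.erase 7, q := (Nat.dvd_add_right (dvd_refl 7)).1 h1
    rcases hr.dvd_mul.1 h30 with h | h
    · norm_num at h
    · obtain ⟨q, hq, hd⟩ := (hr.prime.dvd_finsetProd_iff _).1 h
      obtain ⟨hne, hmem⟩ := Finset.mem_erase.1 hq
      exact hne ((Nat.prime_dvd_prime_iff_eq hr (Nat.prime_of_mem_primeFactors hmem)).1 hd).symm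
  · have : r ∣ 120 * ∏ q ∈ g.primeFactors.erase 7, q := Dvd.dvd.mul_left
      (Finset.dvd_prod_of_mem _ (Finset.mem_erase.2 ⟨h7, Nat.mem_primeFactors.2 ⟨hr, h2, hg⟩⟩)) _
    exact h7 ((Nat.prime_dvd_prime_iff_eq hr (by norm_num)).1 ((Nat.dvd_add_left this).1 h1))

theorem fi_seven {i : ℕ} (hi : i < 7) {k : ℕ} (hk : k % 120 = 7) (c : ↥(Subgroup.centralizer ({t} : Set G))) :
    fi e i c = (sgs i : ℂ) * fi e (sgi i) (c ^ k) := by
  obtain ⟨hj, hlt⟩ : cls e c < 16 ∧ rep (cls e c) < 1920 := ⟨cls_lt e c, (rep_facts (cls_lt e c)).1⟩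
  obtain ⟨w, hw⟩ := cls_spec e c
  have h120 : c ^ 120 = 1 := by
    rw [hw, conj_pow, show e.dec (rep (cls e c)) ^ 120 = 1 from cod_injective e (by
      rw [dec_pow e hlt, Nat.eq_of_beq_eq_true (List.all_eq_true.1 exponent_ok _ (List.mem_range.2 hj)), cod_one]),
      mul_one, mul_inv_cancel]
  have h7 := Nat.eq_of_beq_eq_true (List.all_eq_true.1 seven_ok _ (List.mem_range.2 hj))
  have hl : labR.getD (cls e c) 7 < 8 := by
    have h := List.all_eq_true.1 csz_ok _ (List.mem_range.2 hj)
    simp only [Bool.and_eq_true] at h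
    have := Nat.le_of_ble_eq_true h.2
    omega
  have hth := of_decide_eq_true (List.all_eq_true.1 (List.all_eq_true.1 th_seven _ (List.mem_range.2 hl)) i
    (List.mem_range.2 hi))
  simp only [fi]
  rw [pow_eq_pow_mod k h120, hk, cls_pow, h7]
  rw [show sgi i = (if i = 1 then 2 else if i = 2 then 1 else i) from rfl, hth, vf_scale,
    show (if i = 1 ∨ i = 2 then -1 else 1 : ℤ) = sgs i from rfl, ← mul_assoc, ← Int.cast_mul,
    show sgs i * sgs i = 1 by simp only [sgs]; split_ifs <;> norm_num]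
  simp [vf]

include ht e in
/-- the characters satisfy the system -/
theorem exists_sys [Finite G] (hconj : ∀ u : G, orderOf u = 2 → IsConj t u) :
    ∃ (ι : Type u) (_ : Fintype ι) (z : ℕ → ι → ℤ) (o : ι) (π : ι → ι) (d : ι → ℕ),
      Sys ι z o π d (Nat.card G) := by
  classical
  haveI := Fintype.ofFinite G
  haveI := Fintype.ofFinite ↥(Subgroup.centralizer ({t} : Set G))
  have hex : ∀ i, ∃ zi : IrrCharacter G → ℤ, i < 7 → theta e i = ∑ χ, (zi χ : ℂ) • (χ : G → ℂ) ∧
      ∀ χ : IrrCharacter G, classInner (theta e i) (χ : G → ℂ) = zi χ := fun i => by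
    by_cases hi : i < 7
    · obtain ⟨zi, h⟩ := exists_int_coords (gen_theta e hi)
      exact ⟨zi, fun _ => h⟩
    · exact ⟨0, fun h => absurd h hi⟩
  choose z hz' using hex
  have hz : ∀ i < 7, theta e i = ∑ χ, (z i χ : ℂ) • (χ : G → ℂ) := fun i hi => (hz' i hi).1
  have hzc : ∀ i < 7, ∀ χ : IrrCharacter G, classInner (theta e i) (χ : G → ℂ) = z i χ := fun i hi => (hz' i hi).2
  let d : IrrCharacter G → ℕ := fun χ => deg (χ : G → ℂ)
  have hd : ∀ χ : IrrCharacter G, (χ : G → ℂ) 1 = (d χ : ℂ) := fun χ => char_one_eq_deg (irr_isCharacter χ.2)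
  let o : IrrCharacter G := ⟨fun _ => 1, isIrrCharacter_one⟩
  obtain ⟨k, hk, hk120⟩ := exists_exponent (Nat.card G) Nat.card_pos.ne'
  let π : IrrCharacter G → IrrCharacter G := fun χ => ⟨fun g => (χ : G → ℂ) (g ^ k), isIrrCharacter_pow χ.2 hk⟩
  have hread : ∀ (w : List ℤ) {j₀ m : ℕ}, j₀ < 16 → (csz.getD j₀ 0 : ℕ) * m = 1920 →
      (∀ j < 16, lcomb w j = if j = j₀ then ((m : ℤ), 0) else (0, 0)) →
      ∀ (χ : IrrCharacter G) {y : ↥(Subgroup.centralizer ({t} : Set G))}, cls e y = j₀ →
        (χ : G → ℂ) y = ((lin7 w fun i => z i χ : ℤ) : ℂ) := by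
    intro w j₀ m hj hm hw χ y hy
    have h := congrArg conj (value_of e w hj hm hw (isClassFunction_character (irr_isCharacter χ.2)) hy)
    rw [Complex.conj_conj] at h
    rw [← h, lin7, map_sum, Int.cast_sum]
    refine Finset.sum_congr rfl fun i hi => ?_
    rw [hzc i (Finset.mem_range.1 hi), map_mul, map_intCast, map_intCast]
    push_cast
    ring
  have hv := values_ok
  simp only [List.all_eq_true, Bool.and_eq_true, decide_eq_true_eq, List.mem_range] at hv
  have hX := hread wX (j₀ := 1) (m := 1920) (by norm_num) (by decide +kernel)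
    (fun j hj => by have := (hv j hj).1.1; exact_mod_cast this)
  have hF := hread wFour (j₀ := 3) (m := 96) (by norm_num) (by decide +kernel)
    (fun j hj => by have := (hv j hj).1.2; exact_mod_cast this)
  have hE := hread wEight (j₀ := 10) (m := 8) (by norm_num) (by decide +kernel)
    (fun j hj => by have := (hv j hj).2; exact_mod_cast this)
  have hr2 := roots_two
  simp only [List.all_eq_true, Bool.and_eq_true, Bool.or_eq_true, List.mem_range, Bool.not_eq_eq_eq_not,
    Bool.not_true] at hr2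
  have hroot : ∀ (y : ↥(Subgroup.centralizer ({t} : Set G))) (n : ℕ), (y : G) ^ n = t →
      pw (rep (cls e y)) n = 1 := by
    intro y n hn
    obtain ⟨w, hw⟩ := cls_spec e y
    have hR : e.dec (rep (cls e y)) ^ n = tC e := by
      have h1 : y ^ n = tC e := Subtype.ext (by rw [Subgroup.coe_pow, hn, tC_coe])
      rw [hw, conj_pow] at h1
      calc e.dec (rep (cls e y)) ^ n = w⁻¹ * (w * e.dec (rep (cls e y)) ^ n * w⁻¹) * w := by group
        _ = w⁻¹ * tC e * (w⁻¹)⁻¹ := by rw [h1, inv_inv]
        _ = tC e := conj_tC e _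
    rw [← dec_pow e (rep_facts (cls_lt e y)).1, hR, tC, cod_dec e (by norm_num)]
  have hbne : ∀ a : ℕ, ¬ (Nat.beq a a = false) := fun a => by rw [Nat.beq_refl]; simp
  have hclsT : cls e (tC e) = 1 := by
    have hh := hroot (tC e) 1 (by rw [pow_one, tC_coe])
    have hr' : rep (cls e (tC e)) = 1 := by
      rw [← cod_dec e (rep_facts (cls_lt e (tC e))).1, ← pow_one (e.dec (rep (cls e (tC e)))),
        dec_pow e (rep_facts (cls_lt e (tC e))).1, hh]
    rcases (hr2 _ (cls_lt e (tC e))).1.1 with h | h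
    · rw [hr'] at h; exact absurd h (hbne 1)
    · exact Nat.eq_of_beq_eq_true h
  have hcls2 : ∀ y : ↥(Subgroup.centralizer ({t} : Set G)), (y : G) ^ 2 = t → cls e y = 3 := fun y hy => by
    have hh := hroot y 2 hy
    rcases (hr2 _ (cls_lt e y)).1.2 with h | h
    · rw [hh] at h; exact absurd h (hbne 1)
    · exact Nat.eq_of_beq_eq_true h
  have hcls4 : ∀ y : ↥(Subgroup.centralizer ({t} : Set G)), (y : G) ^ 4 = t → cls e y = 10 := fun y hy => by
    have hh := hroot y 4 hy
    rcases (hr2 _ (cls_lt e y)).2 with h | h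
    · rw [hh] at h; exact absurd h (hbne 1)
    · exact Nat.eq_of_beq_eq_true h
  have hXt : ∀ χ : IrrCharacter G, (χ : G → ℂ) t = ((lin7 wX fun i => z i χ : ℤ) : ℂ) := fun χ => by
    have := hX χ hclsT
    rwa [tC_coe] at this
  refine ⟨IrrCharacter G, inferInstance, z, o, π, d, ⟨?_, ?_, ?_, ?_, ?_, ?_, ?_, ?_, ?_, ?_⟩⟩
  · intro i hi j hj
    have h := inner_theta ht e hi hj
    rw [hz i hi, classInner_sum_left] at h
    have : ∀ χ : IrrCharacter G, classInner ((z i χ : ℂ) • (χ : G → ℂ)) (theta e j) = ((z i χ * z j χ : ℤ) : ℂ) := by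
      intro χ
      rw [classInner_smul_left, ← classInner_symm, hzc j hj, map_intCast]; push_cast; rfl
    rw [Finset.sum_congr rfl fun χ _ => this χ] at h
    exact_mod_cast h
  · intro i hi
    have := inner_theta_one e hi
    rw [show (fun _ => (1 : ℂ)) = ((o : IrrCharacter G) : G → ℂ) from rfl, hzc i hi] at this
    exact_mod_cast this
  · intro i hi
    have h := theta_one e hi
    rw [hz i hi, Finset.sum_apply] at h
    simp only [Pi.smul_apply, smul_eq_mul, hd] at h
    exact_mod_cast h
  · intro i hi χ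
    have hs : sgi i < 7 := by simp only [sgi]; split_ifs <;> omega
    have a1 := hzc i hi (π χ)
    have a2 := hzc (sgi i) hs χ
    rw [theta, Cfsg.Agent.Char.frobenius _ _ (isClassFunction_character (irr_isCharacter (π χ).2))] at a1
    rw [theta, Cfsg.Agent.Char.frobenius _ _ (isClassFunction_character (irr_isCharacter χ.2))] at a2
    have e' : classInner (fi e i) (fun n : ↥(Subgroup.centralizer ({t} : Set G)) => ((π χ : IrrCharacter G) : G → ℂ) n) =
        (sgs i : ℂ) * classInner (fi e (sgi i)) (fun n : ↥(Subgroup.centralizer ({t} : Set G)) => (χ : G → ℂ) n) := by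
      simp only [classInner]
      conv_rhs => rw [mul_left_comm, Finset.mul_sum]
      congr 1
      refine Fintype.sum_equiv (powCoprime (Nat.Coprime.coprime_dvd_left (Subgroup.card_subgroup_dvd_card _) hk.symm))
        _ _ fun n => ?_
      show fi e i n * conj ((χ : G → ℂ) ((n : G) ^ k)) = (sgs i : ℂ) * (fi e (sgi i) (n ^ k) * conj ((χ : G → ℂ) ((n ^ k : _) : G)))
      rw [Subgroup.coe_pow, fi_seven e hi hk120, mul_assoc]
    rw [e', a2] at a1
    exact_mod_cast a1.symm
  · exact fun χ => deg_pos χ.2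
  · have := hd o
    rw [show ((o : IrrCharacter G) : G → ℂ) 1 = 1 from rfl] at this
    exact_mod_cast this.symm
  · intro χ
    have hs := syl_ok
    simp only [Bool.and_eq_true, decide_eq_true_eq, List.all_eq_true, List.any_eq_true] at hs
    obtain ⟨⟨⟨hlen, hnd⟩, h0⟩, hall⟩ := hs
    have hxlt : ∀ x ∈ sylCodes, x < 1920 := fun x hx => by simpa [Nat.blt_eq] using (hall x hx).1.1
    let P : Subgroup ↥(Subgroup.centralizer ({t} : Set G)) :=
      { carrier := {c | cod e c ∈ sylCodes}
        one_mem' := by show cod e (1 : ↥(Subgroup.centralizer ({t} : Set G))) ∈ sylCodes; rw [cod_one]; exact h0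
        mul_mem' := fun {x y} hx hy => by
          show cod e (x * y) ∈ sylCodes
          obtain ⟨v, hv, hv'⟩ := (hall _ hx).2 _ hy
          rw [cod_mul]
          exact (Nat.eq_of_beq_eq_true hv') ▸ hv
        inv_mem' := fun {x} hx => by
          show cod e x⁻¹ ∈ sylCodes
          rw [cod_inv]; exact (hall _ hx).1.2 }
    haveI := Fintype.ofFinite P
    obtain ⟨n, hn⟩ := classInner_natCast (G := P)
      (isCharacter_comp ((Subgroup.centralizer ({t} : Set G)).subtype.comp P.subtype) (irr_isCharacter χ.2))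
      isCharacter_one
    have hcard : Nat.card P = 128 := by
      rw [← Nat.eq_of_beq_eq_true hlen, ← List.toFinset_card_of_nodup hnd, ← Nat.card_eq_finsetCard]
      refine Nat.card_congr (Equiv.ofBijective (fun c => ⟨cod e c.1, List.mem_toFinset.2 c.2⟩) ⟨?_, ?_⟩)
      · exact fun x y h => Subtype.ext (cod_injective e (congrArg Subtype.val h))
      · rintro ⟨x, hx⟩
        have hx' := List.mem_toFinset.1 hx
        exact ⟨⟨e.dec x, by show cod e (e.dec x) ∈ sylCodes; rw [cod_dec e (hxlt x hx')]; exact hx'⟩,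
          Subtype.ext (cod_dec e (hxlt x hx'))⟩
    simp only [classInner, map_one, mul_one, hcard] at hn
    let val : ℕ → ℤ := fun o => if o = 0 then (d χ : ℤ) else if o = 1 then lin7 wX fun i => z i χ
      else if o = 2 then lin7 wFour fun i => z i χ else lin7 wEight fun i => z i χ
    have hto : ∀ j, twoOrd j = 0 ∨ twoOrd j = 1 ∨ twoOrd j = 2 ∨ twoOrd j = 4 ∨ twoOrd j = 8 := fun j => by
      simp only [twoOrd]; split_ifs <;> simp
    have hvalx : ∀ c : ↥(Subgroup.centralizer ({t} : Set G)), twoOrd (cls e c) ≠ 8 →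
        (χ : G → ℂ) c = (val (twoOrd (cls e c)) : ℂ) := by
      intro c hne
      have hcl : IsClassFunction G (χ : G → ℂ) := isClassFunction_character (irr_isCharacter χ.2)
      obtain ⟨w, hw⟩ := cls_spec e c
      have hlt := (rep_facts (cls_lt e c)).1
      have hone : ∀ k, pw (rep (cls e c)) k = 0 → c ^ k = 1 := fun k hk => by
        have hR : e.dec (rep (cls e c)) ^ k = 1 := cod_injective e (by rw [dec_pow e hlt, hk, cod_one])
        rw [hw, conj_pow, hR, mul_one, mul_inv_cancel]
      have hne1 : ∀ k, Nat.beq (pw (rep (cls e c)) k) 0 = false → (c : G) ^ k ≠ 1 := fun k hk hck => by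
        have h1 : c ^ k = 1 := Subtype.ext (by simpa using hck)
        rw [hw, conj_pow] at h1
        rw [← dec_pow e hlt, conj_eq_one_iff.1 h1, cod_one] at hk
        simp at hk
      have hfuse : ∀ n : ℕ, (c : G) ^ (2 * n) = 1 → (c : G) ^ n ≠ 1 → ∀ j, j < 16 →
          (∀ y : ↥(Subgroup.centralizer ({t} : Set G)), (y : G) ^ n = t → cls e y = j) →
          ∃ y : ↥(Subgroup.centralizer ({t} : Set G)), cls e y = j ∧ (χ : G → ℂ) c = (χ : G → ℂ) y := by
        intro n h2n hn1 j _ hj
        obtain ⟨g, hg⟩ := isConj_iff.1 (hconj ((c : G) ^ n) (orderOf_two_iff.2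
          ⟨by rw [← pow_add, ← two_mul]; exact h2n, hn1⟩)).symm
        have hyn : (g * (c : G) * g⁻¹) ^ n = t := by rw [conj_pow, hg]
        have hym : g * (c : G) * g⁻¹ ∈ Subgroup.centralizer ({t} : Set G) := by
          have h' := ((Commute.refl (g * (c : G) * g⁻¹)).pow_right n).eq
          rw [hyn] at h'
          exact mem_cent_iff.2 h'
        refine ⟨⟨_, hym⟩, hj ⟨_, hym⟩ hyn, ?_⟩
        show (χ : G → ℂ) c = (χ : G → ℂ) (g * (c : G) * g⁻¹)
        rw [hcl]
      by_cases h0' : Nat.beq (rep (cls e c)) 0 = true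
      · have : c = 1 := by
          have := hone 1 (by
            rw [← dec_pow e hlt, pow_one, cod_dec e hlt]; exact Nat.eq_of_beq_eq_true h0')
          rwa [pow_one] at this
        rw [twoOrd, if_pos h0', this, Subgroup.coe_one, hd]
        simp [val]
      have h0f : Nat.beq (rep (cls e c)) 0 = false := Bool.eq_false_iff.2 h0'
      by_cases h2 : Nat.beq (pw (rep (cls e c)) 2) 0 = true
      · obtain ⟨g, hg⟩ := isConj_iff.1 (hconj (c : G) (orderOf_two_iff.2
          ⟨by rw [← pow_two, ← Subgroup.coe_pow, hone 2 (Nat.eq_of_beq_eq_true h2), Subgroup.coe_one],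
           fun h => hne1 1 (by rw [← dec_pow e hlt, pow_one, cod_dec e hlt]; exact h0f) (by rw [pow_one]; exact h)⟩))
        rw [twoOrd, if_neg h0', if_pos h2, ← hg, hcl, hXt]
        simp [val]
      by_cases h4 : Nat.beq (pw (rep (cls e c)) 4) 0 = true
      · obtain ⟨y, hy, hxy⟩ := hfuse 2
          (by rw [← Subgroup.coe_pow, hone 4 (Nat.eq_of_beq_eq_true h4), Subgroup.coe_one])
          (hne1 2 (Bool.eq_false_iff.2 h2)) 3 (by norm_num) hcls2
        rw [twoOrd, if_neg h0', if_neg h2, if_pos h4, hxy, hF χ hy]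
        simp [val]
      by_cases h8 : Nat.beq (pw (rep (cls e c)) 8) 0 = true
      · obtain ⟨y, hy, hxy⟩ := hfuse 4
          (by rw [← Subgroup.coe_pow, hone 8 (Nat.eq_of_beq_eq_true h8), Subgroup.coe_one])
          (hne1 4 (Bool.eq_false_iff.2 h4)) 10 (by norm_num) hcls4
        rw [twoOrd, if_neg h0', if_neg h2, if_neg h4, if_pos h8, hxy, hE χ hy]
        simp [val]
      exact absurd (by rw [twoOrd, if_neg h0', if_neg h2, if_neg h4, if_neg h8]) hne
    -- the sum over the subgroup
    have hsc := syl_count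
    simp only [Bool.and_eq_true] at hsc
    obtain ⟨⟨⟨c0, c1⟩, c2⟩, c4⟩ := hsc
    have hbeq : ∀ a b : ℕ, Nat.beq a b = true ↔ a = b :=
      fun a b => ⟨Nat.eq_of_beq_eq_true, fun e => by rw [e]; exact Nat.beq_refl _⟩
    let S : Finset ℕ := sylCodes.toFinset
    have hScard : S.card = 128 := by
      rw [List.toFinset_card_of_nodup hnd, Nat.eq_of_beq_eq_true hlen]
    have hcount : ∀ o, sylCodes.countP (fun x => Nat.beq (twoOrd (clsC x)) o) =
        (S.filter fun x => twoOrd (clsC x) = o).card := fun o => by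
      rw [List.countP_eq_length_filter, ← List.toFinset_card_of_nodup (hnd.filter _), List.toFinset_filter]
      refine congrArg Finset.card (Finset.filter_congr fun x _ => ?_)
      exact hbeq _ _
    have k0 : (S.filter fun x => twoOrd (clsC x) = 0).card = 1 := by rw [← hcount]; exact Nat.eq_of_beq_eq_true c0
    have k1 : (S.filter fun x => twoOrd (clsC x) = 1).card = 35 := by rw [← hcount]; exact Nat.eq_of_beq_eq_true c1
    have k2 : (S.filter fun x => twoOrd (clsC x) = 2).card = 44 := by rw [← hcount]; exact Nat.eq_of_beq_eq_true c2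
    have k4 : (S.filter fun x => twoOrd (clsC x) = 4).card = 48 := by rw [← hcount]; exact Nat.eq_of_beq_eq_true c4
    have hmaps : ∀ x ∈ S, twoOrd (clsC x) ∈ ({0, 1, 2, 4, 8} : Finset ℕ) := fun x _ => by
      rcases hto (clsC x) with h | h | h | h | h <;> simp [h]
    have hpart := Finset.card_eq_sum_card_fiberwise hmaps
    simp [k0, k1, k2, k4, hScard] at hpart
    have hno8 : ∀ x ∈ S, twoOrd (clsC x) ≠ 8 := fun x hx h => by
      have : (S.filter fun x => twoOrd (clsC x) = 8).card = 0 := by omega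
      rw [Finset.card_eq_zero] at this
      exact Finset.notMem_empty x (this ▸ Finset.mem_filter.2 ⟨hx, h⟩)
    have hsumP : ∑ c : P, (χ : G → ℂ) ((c : ↥(Subgroup.centralizer ({t} : Set G))) : G) =
        ∑ x ∈ S, (val (twoOrd (clsC x)) : ℂ) := by
      refine Finset.sum_bij (fun c _ => cod e c.1) (fun c _ => List.mem_toFinset.2 c.2)
        (fun a _ b _ h => Subtype.ext (cod_injective e h)) (fun x hx => ?_) (fun c _ => ?_)
      · have hx' := List.mem_toFinset.1 hx
        exact ⟨⟨e.dec x, by show cod e (e.dec x) ∈ sylCodes; rw [cod_dec e (hxlt x hx')]; exact hx'⟩,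
          Finset.mem_univ _, cod_dec e (hxlt x hx')⟩
      · exact hvalx c.1 (hno8 _ (List.mem_toFinset.2 c.2))
    refine ⟨(n : ℤ), ?_⟩
    change ((128 : ℕ) : ℂ)⁻¹ * ∑ c : P, (χ : G → ℂ) ((c : ↥(Subgroup.centralizer ({t} : Set G))) : G) = _ at hn
    rw [hsumP, inv_mul_eq_iff_eq_mul₀ (by norm_num), ← Finset.sum_fiberwise_of_maps_to hmaps] at hn
    have hfib : ∀ o, ∑ x ∈ S.filter (fun x => twoOrd (clsC x) = o), (val (twoOrd (clsC x)) : ℂ) =
        ((S.filter fun x => twoOrd (clsC x) = o).card : ℂ) * (val o : ℂ) := fun o => by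
      rw [Finset.sum_congr rfl fun x hx => show (val (twoOrd (clsC x)) : ℂ) = (val o : ℂ) by
        rw [(Finset.mem_filter.1 hx).2], Finset.sum_const, nsmul_eq_mul]
    simp only [hfib] at hn
    simp [k0, k1, k2, k4, val, show (S.filter fun x => twoOrd (clsC x) = 8) = ∅ from
      Finset.filter_eq_empty_iff.2 fun x hx => hno8 x hx] at hn
    have hn' : (d χ : ℤ) + 35 * lin7 wX (fun i => z i χ) + 44 * lin7 wFour (fun i => z i χ) +
        48 * lin7 wEight (fun i => z i χ) = 128 * n := by
      apply Int.cast_injective (α := ℂ)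
      push_cast
      linear_combination hn
    rw [resForm, ← hn']
    ring
  · have h := sum_sq_deg (G := G)
    simp only [hd] at h
    exact_mod_cast h
  · rw [← card_eq e]; exact Subgroup.card_subgroup_dvd_card _
  · intro i hi
    have h := pair_equation ht e hconj hi
    have hsum : ∑ a : G, ∑ b : G, theta e i (a * t * a⁻¹ * (b * t * b⁻¹)) =
        (Nat.card G : ℂ) ^ 2 * ∑ χ : IrrCharacter G, (z i χ : ℂ) *
          ((lin7 wX fun k => z k χ : ℤ) : ℂ) ^ 2 / (d χ : ℂ) := by
      rw [hz i hi]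
      simp only [Finset.sum_apply, Pi.smul_apply, smul_eq_mul]
      rw [Finset.sum_congr rfl fun a _ => Finset.sum_comm, Finset.sum_comm, Finset.mul_sum]
      refine Finset.sum_congr rfl fun χ _ => ?_
      simp only [← Finset.mul_sum, sum_pair_irr, hXt, hd]
      ring
    rw [hsum] at h
    have hG0 : (Nat.card G : ℂ) ≠ 0 := Nat.cast_ne_zero.2 Nat.card_pos.ne'
    apply (Rat.cast_injective (α := ℂ))
    push_cast
    push_cast at h
    rw [eq_div_iff hG0]
    refine mul_left_cancel₀ hG0 ?_
    linear_combination h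

end Cfsg.Agent.Spor.JThree
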