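import Cfsg.Agent.Lib.Spor.JThree.Checks

/-!
# The lattice of class functions on the special classes
-/

set_option autoImplicit false
set_option maxRecDepth 100000

namespace Cfsg.Agent.Spor.JThree

/-- the Gram matrix -/
def gramL : List (List ℤ) := [[4, 1, -1, 1, 1, 0, 1], [1, 3, -1, 0, 0, 1, -1], [-1, -1, 3, 0, 0, -1, 1], [1, 0, 0, 3, -1, 1, 0], [1, 0, 0, -1, 4, 0, 1], [0, 1, -1, 1, 0, 5, 0], [1, -1, 1, 0, 1, 0, 6]]

def gram (i j : ℕ) : ℤ := (gramL.getD i []).getD j 0

/-- coefficients at the principal character -/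
def cOne : List ℤ := [-1, 0, 0, 0, 0, 0, -1]

/-- the adjugate of the form on nonprincipal coordinates, divided by a common factor -/
def adjL : List (List ℤ) := [[381, -123, 123, -204, -141, 90, -21], [-123, 265, 11, 76, 39, -66, 43], [123, 11, 265, -76, -39, 66, -43], [-204, 76, -76, 328, 132, -96, 4], [-141, 39, -39, 132, 213, -42, -27], [90, -66, 66, -96, -42, 156, -18], [-21, 43, -43, 4, -27, -18, 133]]

def adj (i j : ℕ) : ℤ := (adjL.getD i []).getD j 0

/-- value at the involution -/
def wX : List ℤ := [9, -2, 2, 11, 15, 5, -10]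
/-- value at the elements of order four with the involution as square -/
def wFour : List ℤ := [-3, 2, -2, -1, 3, 1, 2]
/-- value at the elements of order eight -/
def wEight : List ℤ := [-1, 0, 0, 1, 1, -1, 0]

/-- pair sums -/
def kW : List ℤ := [-15200, 4320, -4320, -320, 9120, 8640, -22720]

/-- weighted sum over the classes -/
def csum (F : ℕ → ℤ × ℤ) : ℤ × ℤ :=
  (List.range 16).foldl (fun s j => (s.1 + (csz.getD j 0 : ℕ) * (F j).1, s.2 + (csz.getD j 0 : ℕ) * (F j).2)) (0, 0)

theorem gram_ok : ((List.range 7).all fun i => (List.range 7).all fun k =>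
    decide (csum (fun j => pmul (thV i (labR.getD j 7)) (thV k (labR.getD j 7))) = (1920 * gram i k, 0))) = true := by
  decide +kernel

theorem one_ok : ((List.range 7).all fun i =>
    decide (csum (fun j => thV i (labR.getD j 7)) = (1920 * cOne.getD i 0, 0))) = true := by decide +kernel

theorem pairs_sum : ((List.range 7).all fun i =>
    decide (csum (fun j => ((thV i (labR.getD j 7)).1 * (pairsR.getD j 0 : ℕ), (thV i (labR.getD j 7)).2 * (pairsR.getD j 0 : ℕ)))
      = (kW.getD i 0, 0))) = true := by decide +kernel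

/-- a combination of the seven functions -/
def lcomb (w : List ℤ) (j : ℕ) : ℤ × ℤ :=
  (List.range 7).foldl (fun s i => (s.1 + w.getD i 0 * (thV i (labR.getD j 7)).1,
    s.2 + w.getD i 0 * (thV i (labR.getD j 7)).2)) (0, 0)

theorem values_ok : ((List.range 16).all fun j =>
    decide (lcomb wX j = if j = 1 then (1920, 0) else (0, 0)) &&
    decide (lcomb wFour j = if j = 3 then (96, 0) else (0, 0)) &&
    decide (lcomb wEight j = if j = 10 then (8, 0) else (0, 0))) = true := by decide +kernel

end Cfsg.Agent.Spor.JThree
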