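import Cfsg.Agent.Lib.Spor.JThree.Search

/-!
# Bounded search, part 5
-/

set_option autoImplicit false
set_option maxRecDepth 100000

namespace Cfsg.Agent.Spor.JThree

theorem scan_ok_5 : ((triL.drop 230).take 46).all scanT = true := by decide +kernel

end Cfsg.Agent.Spor.JThree
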