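import Cfsg.Agent.Lib.Spor.JThree.SearchCk0
import Cfsg.Agent.Lib.Spor.JThree.SearchCk1
import Cfsg.Agent.Lib.Spor.JThree.SearchCk2
import Cfsg.Agent.Lib.Spor.JThree.SearchCk3
import Cfsg.Agent.Lib.Spor.JThree.SearchCk4
import Cfsg.Agent.Lib.Spor.JThree.SearchCk5

/-!
# Bounded search: all triples
-/

set_option autoImplicit false
set_option maxRecDepth 100000

namespace Cfsg.Agent.Spor.JThree

theorem triL_chunks : triL = (triL.drop (46 * 0)).take 46 ++ (triL.drop 46).take 46 ++ (triL.drop 92).take 46 ++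
    (triL.drop 138).take 46 ++ (triL.drop 184).take 46 ++ (triL.drop 230).take 46 := by decide +kernel

theorem scan_ok {t : ℕ × ℕ × ℕ} (h : t ∈ triL) : scanT t = true := by
  rw [triL_chunks] at h
  simp only [List.mem_append] at h
  rcases h with ((((h | h) | h) | h) | h) | h
  · exact List.all_eq_true.1 scan_ok_0 t h
  · exact List.all_eq_true.1 scan_ok_1 t h
  · exact List.all_eq_true.1 scan_ok_2 t h
  · exact List.all_eq_true.1 scan_ok_3 t h
  · exact List.all_eq_true.1 scan_ok_4 t h
  · exact List.all_eq_true.1 scan_ok_5 t h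

end Cfsg.Agent.Spor.JThree
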