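import Cfsg.Agent.Lib.Spor.JThree.Vectors

/-!
# Bounded search for the possible orders: definitions
-/

set_option autoImplicit false
set_option maxRecDepth 100000

namespace Cfsg.Agent.Spor.JThree

/-- the constant of the first column: `1920 * 15200` -/
def kA : ℕ := 29184000

/-- the constant of the second column: `1920 * 4320` -/
def kB : ℤ := 8294400

/-- the order to be found -/
def theOrder : ℕ := 50232960

/-- value at the involution of a vector -/
def xV (v : List ℤ) : ℤ := dotL wX v

/-- squared value at the involution -/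
def cV (v : List ℤ) : ℕ := (xV v).natAbs * (xV v).natAbs

/-- residue of the signed degree of a vector -/
def resV (v : List ℤ) : ℤ := -(35 * dotL wX v + 44 * dotL wFour v + 48 * dotL wEight v)

/-- residue modulo 128 as a natural number -/
def rV (v : List ℤ) : ℕ := (resV v % 128).toNat

/-- bisection for the integer square root -/
def isqA : ℕ → ℕ → ℕ → ℕ → ℕ
  | 0, lo, _, _ => lo
  | f + 1, lo, hi, d =>
    bif Nat.ble ((lo + hi) / 2 * ((lo + hi) / 2)) d then isqA f ((lo + hi) / 2) hi d
    else isqA f lo ((lo + hi) / 2) d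

/-- a candidate root is not admissible -/
def badRoot (g r c F : ℤ) : Bool :=
  decide (F = 0) || decide (c - F = 0) || decide (g ≤ F * F) || decide (g ≤ (c - F) * (c - F)) ||
    !(decide ((F - r) % 128 = 0))

/-- the quadratic `P F² + b F + e = 0` has no admissible root -/
def noRoot (g r c P b e : ℤ) : Bool :=
  let d := b * b - 4 * P * e
  let m := isqA 100 0 (2 ^ 100) d.toNat
  !(decide (P = 0)) &&
    (decide (d < 0) ||
      (decide ((m : ℤ) * m ≤ d) && decide (d < ((m : ℤ) + 1) * ((m : ℤ) + 1)) &&
        (!(decide ((m : ℤ) * m = d)) ||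
          ((!(decide ((-b + m) % (2 * P) = 0)) || badRoot g r c ((-b + m) / (2 * P))) &&
           (!(decide ((-b - m) % (2 * P) = 0)) || badRoot g r c ((-b - m) / (2 * P)))))))

/-- the second column cannot be completed -/
def killW (g E : ℤ) (ws : List ℤ) : Bool :=
  vecs1.all fun w =>
    let s1 := ws.getD 1 0
    let u := mk7 fun q => hh 1 q - s1 * ws.getD q 0 - w.getD q 0
    !(decide (u ∈ vecs1)) ||
      (let c := -E * s1
       let P := kB * E - g * s1 * (cV ws : ℤ)
       noRoot g (resV w) c P (g * E * ((cV u : ℤ) - cV w) - P * c) (g * E * cV w * c))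

/-- which of the three vectors is shared with the second column -/
def killT (g A B D : ℤ) (x y z : List ℤ) : Bool :=
  if x.getD 1 0 ≠ 0 then killW g A x
  else if y.getD 1 0 ≠ 0 then killW g B y
  else killW g D z

/-- signed triple of degrees from absolute values -/
def killS (pos : Bool) (g a b e : ℕ) (x y z : List ℤ) : Bool :=
  bif pos then killT g a b (-(e : ℤ)) x y z else killT g (-(a : ℤ)) (-(b : ℤ)) e x y z

/-- the third absolute value -/
def eAbs (pos : Bool) (a b : ℕ) : ℕ := bif pos then a + b - 1 else a + b + 1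

/-- positive part -/
def pPart (pos : Bool) (cA cB cD a b : ℕ) : ℕ :=
  bif pos then a * b * eAbs pos a b + cD * a * b
  else a * b * eAbs pos a b + cA * b * eAbs pos a b + cB * a * eAbs pos a b

/-- negative part -/
def nPart (pos : Bool) (cA cB cD a b : ℕ) : ℕ :=
  bif pos then cA * b * eAbs pos a b + cB * a * eAbs pos a b else cD * a * b

/-- a single pair of degrees is harmless -/
def bodyB (pos : Bool) (x y z : List ℤ) (cA cB cD a b : ℕ) : Bool :=
  bif Nat.blt (nPart pos cA cB cD a b) (pPart pos cA cB cD a b) then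
    bif Nat.beq (kA * (a * b * eAbs pos a b) % (pPart pos cA cB cD a b - nPart pos cA cB cD a b)) 0 then
      let g := kA * (a * b * eAbs pos a b) / (pPart pos cA cB cD a b - nPart pos cA cB cD a b)
      !(Nat.beq (g % 1920) 0) || !(Nat.blt (a * a + b * b + eAbs pos a b * eAbs pos a b) g) ||
        Nat.beq g theOrder || killS pos g a b (eAbs pos a b) x y z
    else true
  else true

/-- no larger second degree is possible -/
def stopB (r cc E a b : ℕ) : Bool :=
  Nat.blt (a * cc * (a * a + b * b + (a + b - 1) * (a + b - 1)) + E * a * b)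
    (r * (a * a + b * b + (a + b - 1) * (a + b - 1)) * b)

/-- loop over the second degree -/
def scanB (pos : Bool) (x y z : List ℤ) (cA cB cD r cc E a : ℕ) : ℕ → ℕ → Bool
  | 0, _ => false
  | f + 1, b => stopB r cc E a b || (bodyB pos x y z cA cB cD a b && scanB pos x y z cA cB cD r cc E a f (b + 128))

/-- the smallest degree, positive case -/
def scanPos (x y z : List ℤ) (cA cB cD rA rB k : ℕ) : Bool :=
  Nat.beq (rA + 128 * k) 0 || Nat.blt (3 * (cA + cB + cD) * (rA + 128 * k) + kA) (3 * (rA + 128 * k) * (rA + 128 * k)) ||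
    (bif Nat.blt cA (rA + 128 * k) then
      scanB true x y z cA cB cD (rA + 128 * k - cA) cB kA (rA + 128 * k) 1000 (rB + 128 * ((rA + 128 * k - rB) / 128))
    else
      Nat.blt (rA + 128 * k) cA &&
      scanB true x y z cA cB cD (cA - (rA + 128 * k)) cD 0 (rA + 128 * k) 1000
        (rB + 128 * ((rA + 128 * k - rB) / 128)))

/-- the smallest degree, negative case -/
def scanNeg (x y z : List ℤ) (cA cB cD rA rB k : ℕ) : Bool :=
  Nat.blt (3 * (cA + cB + cD) * (128 * (k + 1) - rA) + kA) (3 * (128 * (k + 1) - rA) * (128 * (k + 1) - rA)) ||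
    scanB false x y z cA cB cD (128 * (k + 1) - rA + cA) cD kA (128 * (k + 1) - rA) 1000
      (128 * (((128 * (k + 1) - rA + rB) / 128 - 1) + 1) - rB)

/-- a triple of vectors is harmless -/
def scanT (t : ℕ × ℕ × ℕ) : Bool :=
  let x := vecs0.getD t.1 []
  let y := vecs0.getD t.2.1 []
  let z := vecs0.getD t.2.2 []
  Nat.beq ([x, y, z].countP fun v => !(decide (v.getD 1 0 = 0))) 1 &&
  Nat.blt (3 * (cV x + cV y + cV z) * 6912 + kA) (3 * 6912 * 6912) &&
  ((List.range 54).all fun k => scanPos x y z (cV x) (cV y) (cV z) (rV x) (rV y) k) &&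
  ((List.range 54).all fun k => scanNeg x y z (cV x) (cV y) (cV z) (rV x) (rV y) k)

end Cfsg.Agent.Spor.JThree
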