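import Mathlib
import Cfsg.Agent.Lib.Spor.JThree.Search

/-!
# Bounded search: soundness
-/

set_option autoImplicit false
set_option linter.unusedSimpArgs false
set_option maxRecDepth 20000
set_option maxHeartbeats 1000000

namespace Cfsg.Agent.Spor.JThree

/-- ordering key: absolute value, positive first -/
def keyZ (x : ℤ) : ℕ := 2 * x.natAbs + if x < 0 then 1 else 0

theorem blt_of {a b : ℕ} (h : a < b) : Nat.blt a b = true := by
  rw [Nat.blt_eq]; exact h

theorem stopB_iff {r cc E a b : ℕ} : stopB r cc E a b = true ↔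
    a * cc * (a * a + b * b + (a + b - 1) * (a + b - 1)) + E * a * b <
      r * (a * a + b * b + (a + b - 1) * (a + b - 1)) * b := by
  simp [stopB, Nat.blt_eq]

theorem stopB_mono {r cc E a b b' : ℕ} (hb : b ≤ b') (h : stopB r cc E a b = true) : stopB r cc E a b' = true := by
  rw [stopB_iff] at h ⊢
  set Q := a * a + b * b + (a + b - 1) * (a + b - 1) with hQ
  set Q' := a * a + b' * b' + (a + b' - 1) * (a + b' - 1) with hQ'
  have hQQ : Q ≤ Q' := by
    rw [hQ, hQ']
    gcongr
  have hb0 : 0 < b := Nat.pos_of_ne_zero fun h0 => by subst h0; simp at h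
  have hQ0 : 0 < Q := by
    rw [hQ]
    have : 0 < b * b := Nat.mul_pos hb0 hb0
    omega
  apply Nat.lt_of_mul_lt_mul_right (a := Q * b)
  calc (a * cc * Q' + E * a * b') * (Q * b) ≤ (a * cc * Q + E * a * b) * (Q' * b') := by
        nlinarith [Nat.mul_le_mul (Nat.mul_le_mul_left (a * cc * Q * Q') hb) (le_refl 1),
          Nat.mul_le_mul_left (E * a * b * b') hQQ]
    _ < r * Q * b * (Q' * b') := Nat.mul_lt_mul_of_pos_right h (Nat.mul_pos (by omega) (by omega))
    _ = r * Q' * b' * (Q * b) := by ring

theorem scanB_sound {pos : Bool} {x y z : List ℤ} {cA cB cD r cc E a : ℕ} :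
    ∀ {f b : ℕ}, scanB pos x y z cA cB cD r cc E a f b = true →
      ∀ j, bodyB pos x y z cA cB cD a (b + 128 * j) = true ∨ stopB r cc E a (b + 128 * j) = true
  | 0, b, h, _ => by simp [scanB] at h
  | f + 1, b, h, j => by
    simp only [scanB, Bool.or_eq_true, Bool.and_eq_true] at h
    rcases h with h | ⟨hb, hr⟩
    · exact Or.inr (stopB_mono (by omega) h)
    · cases j with
      | zero => exact Or.inl (by simpa using hb)
      | succ j =>
        rw [show b + 128 * (j + 1) = b + 128 + 128 * j by ring]
        exact scanB_sound hr j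

/-- a true body with an exact quotient -/
theorem body_use {pos : Bool} {x y z : List ℤ} {cA cB cD a b g : ℕ} (h : bodyB pos x y z cA cB cD a b = true)
    (heq : g * pPart pos cA cB cD a b = kA * (a * b * eAbs pos a b) + g * nPart pos cA cB cD a b)
    (hnum : 0 < kA * (a * b * eAbs pos a b)) (hg : a * a + b * b + eAbs pos a b * eAbs pos a b < g)
    (h1920 : 1920 ∣ g) : g = theOrder ∨ killS pos g a b (eAbs pos a b) x y z = true := by
  have hNP : nPart pos cA cB cD a b < pPart pos cA cB cD a b := by
    by_contra hc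
    have := Nat.mul_le_mul_left g (not_lt.1 hc)
    omega
  obtain ⟨m, hm⟩ := Nat.exists_eq_add_of_le hNP.le
  have hm' : pPart pos cA cB cD a b - nPart pos cA cB cD a b = m := by omega
  have hgm : kA * (a * b * eAbs pos a b) = g * m := by rw [hm, mul_add] at heq; omega
  have hdiv : kA * (a * b * eAbs pos a b) / m = g := by rw [hgm, Nat.mul_div_cancel _ (by omega)]
  have hmod : kA * (a * b * eAbs pos a b) % m = 0 := by rw [hgm, Nat.mul_mod_left]
  simp only [bodyB, hm', hdiv, hmod, blt_of hNP, cond_true, Nat.beq_refl, Bool.or_eq_true,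
    Bool.not_eq_true', Nat.mod_eq_zero_of_dvd h1920, blt_of hg] at h
  simp only [Bool.false_eq_true, Bool.true_eq_false, false_or] at h
  rcases h with h | h
  · exact Or.inl (Nat.eq_of_beq_eq_true h)
  · exact Or.inr h

theorem deg_bound {g a b e S : ℕ} (ha : 0 < a) (hb : 0 < b) (he : 0 < e)
    (h : g * (a * b * e) ≤ kA * (a * b * e) + g * S * (b * e)) (hg : 3 * a * a < g) :
    3 * a * a ≤ 3 * S * a + kA := by
  by_contra hc
  push Not at hc
  have h1 : g * a ≤ kA * a + g * S := by
    refine Nat.le_of_mul_le_mul_right ?_ (Nat.mul_pos hb he)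
    calc g * a * (b * e) = g * (a * b * e) := by ring
      _ ≤ _ := h
      _ = (kA * a + g * S) * (b * e) := by ring
  have hS : S < a := by
    by_contra hS
    have := Nat.mul_le_mul_left (3 * a) (not_lt.1 hS)
    have e1 : 3 * a * S = 3 * S * a := by ring
    omega
  obtain ⟨δ, rfl⟩ := Nat.exists_eq_add_of_le hS.le
  have hδ : g * δ ≤ kA * (S + δ) := by nlinarith
  have hlt : kA < 3 * (S + δ) * δ := by nlinarith
  have h2 := Nat.mul_lt_mul_of_pos_right hlt ha
  have h3 := Nat.mul_le_mul_right δ hg.le
  nlinarith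

theorem stop_false {r cc E a b g : ℕ} (hQg : a * a + b * b + (a + b - 1) * (a + b - 1) ≤ g) (hg : 0 < g)
    (h : g * b * r ≤ E * a * b + g * cc * a) : stopB r cc E a b ≠ true := by
  rw [ne_eq, stopB_iff, not_lt]
  set Q := a * a + b * b + (a + b - 1) * (a + b - 1)
  refine Nat.le_of_mul_le_mul_left ?_ hg
  calc g * (r * Q * b) = g * b * r * Q := by ring
    _ ≤ (E * a * b + g * cc * a) * Q := Nat.mul_le_mul_right _ h
    _ ≤ E * a * b * g + g * cc * a * Q := by
        rw [add_mul]; exact Nat.add_le_add_right (Nat.mul_le_mul_left _ hQg) _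
    _ = g * (a * cc * Q + E * a * b) := by ring

theorem rV_spec {v : List ℤ} {A : ℤ} (h : (128 : ℤ) ∣ A - resV v) : (A % 128).toNat = rV v := by
  unfold rV
  omega

theorem scanT_sound {t : ℕ × ℕ × ℕ} (h : scanT t = true) {x y z : List ℤ} (hx : x = vecs0.getD t.1 [])
    (hy : y = vecs0.getD t.2.1 []) (hz : z = vecs0.getD t.2.2 []) {g : ℕ} {A B D : ℤ}
    (hA : (128 : ℤ) ∣ A - resV x) (hB : (128 : ℤ) ∣ B - resV y) (hsum : A + B + D = 1) (hA0 : A ≠ 0)
    (hAB : keyZ A ≤ keyZ B) (hBD : keyZ B ≤ keyZ D)
    (heq : (g : ℤ) * ((cV x : ℤ) * B * D + (cV y : ℤ) * A * D + (cV z : ℤ) * A * B - A * B * D) =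
      -(kA : ℤ) * (A * B * D))
    (hsq : A * A + B * B + D * D < g) (h1920 : 1920 ∣ g) :
    g = theOrder ∨ killT g A B D x y z = true := by
  simp only [scanT, ← hx, ← hy, ← hz, Bool.and_eq_true, List.all_eq_true, List.mem_range, Nat.blt_eq] at h
  obtain ⟨⟨⟨-, hS⟩, hpos⟩, hneg⟩ := h
  generalize hcA : cV x = cA at *
  generalize hcB : cV y = cB at *
  generalize hcD : cV z = cD at *
  have hkA : 0 < kA := by norm_num [kA]
  simp only [keyZ] at hAB hBD
  rcases lt_or_gt_of_ne hA0 with hAn | hAp
  · obtain ⟨a, rfl⟩ : ∃ a : ℕ, A = -(a : ℤ) := ⟨A.natAbs, by omega⟩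
    have hBn : B < 0 := by split_ifs at hAB hBD <;> omega
    obtain ⟨b, rfl⟩ : ∃ b : ℕ, B = -(b : ℤ) := ⟨B.natAbs, by omega⟩
    obtain ⟨e, rfl⟩ : ∃ e : ℕ, D = (e : ℤ) := ⟨D.natAbs, by omega⟩
    have hab : a ≤ b := by split_ifs at hAB <;> omega
    have he : e = eAbs false a b := by simp only [eAbs, cond_false]; omega
    have ha : 0 < a := by omega
    have hb : 0 < b := by omega
    have hbe : b ≤ e := by simp only [eAbs, cond_false] at he; omega
    have hg : a * a + b * b + e * e < g := by
      have : ((a * a + b * b + e * e : ℕ) : ℤ) < g := by push_cast; linarith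
      exact_mod_cast this
    have heqN : g * pPart false cA cB cD a b = kA * (a * b * e) + g * nPart false cA cB cD a b := by
      simp only [pPart, nPart, cond_false, ← he]
      have : ((g * (a * b * e + cA * b * e + cB * a * e) : ℕ) : ℤ) =
          ((kA * (a * b * e) + g * (cD * a * b) : ℕ) : ℤ) := by
        push_cast; linear_combination (-1 : ℤ) * heq
      exact_mod_cast this
    have heq' : g * (a * b * e + cA * b * e + cB * a * e) = kA * (a * b * e) + g * (cD * a * b) := by
      simpa only [pPart, nPart, cond_false, ← he] using heqN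
    have hle : g * (a * b * e + cA * b * e) ≤ kA * (a * b * e) + g * (cD * a * b) := by
      rw [← heq']; exact Nat.mul_le_mul_left _ (Nat.le_add_right _ _)
    have hab3 : 3 * a * a < g := by
      have := Nat.mul_le_mul hab hab
      have := Nat.mul_le_mul (hab.trans hbe) (hab.trans hbe)
      have e1 : 3 * a * a = 3 * (a * a) := by ring
      omega
    have hbd : 3 * a * a ≤ 3 * (cA + cB + cD) * a + kA := deg_bound (e := e) ha hb (by omega) (by
      have h1 : g * (a * b * e) ≤ g * (a * b * e + cA * b * e) := Nat.mul_le_mul_left _ (Nat.le_add_right _ _)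
      have h2 : g * (cD * a * b) ≤ g * (cA + cB + cD) * (b * e) := by
        calc g * (cD * a * b) = g * (cD * b) * a := by ring
          _ ≤ g * ((cA + cB + cD) * b) * e := Nat.mul_le_mul
              (Nat.mul_le_mul_left _ (Nat.mul_le_mul_right _ (Nat.le_add_left _ _))) (hab.trans hbe)
          _ = _ := by ring
      exact (h1.trans hle).trans (Nat.add_le_add_left h2 _)) hab3
    have hrA : a = 128 * ((a + rV x) / 128) - rV x ∧ 1 ≤ (a + rV x) / 128 ∧ rV x < 128 := by
      unfold rV; omega
    obtain ⟨k, hk⟩ : ∃ k, (a + rV x) / 128 = k + 1 := ⟨(a + rV x) / 128 - 1, by omega⟩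
    have hk54 : k < 54 := by
      by_contra hc
      have h1 : 6912 ≤ a := by omega
      have : 3 * (cA + cB + cD) * a + kA < 3 * a * a := by nlinarith
      omega
    have hka : a = 128 * (k + 1) - rV x := by rw [← hk]; exact hrA.1
    have hn := hneg k hk54
    simp only [scanNeg, ← hka, Bool.or_eq_true, Nat.blt_eq] at hn
    rcases hn with hn | hn
    · omega
    obtain ⟨j, hj⟩ : ∃ j, b = 128 * (((a + rV y) / 128 - 1) + 1) - rV y + 128 * j := by
      refine ⟨(b + rV y) / 128 - (((a + rV y) / 128 - 1) + 1), ?_⟩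
      have : (-(b : ℤ)) % 128 = (rV y : ℤ) % 128 := by unfold rV; omega
      have : rV y < 128 := by unfold rV; omega
      omega
    have hnum : 0 < kA * (a * b * e) := Nat.mul_pos hkA (Nat.mul_pos (Nat.mul_pos ha hb) (by omega))
    rcases scanB_sound hn j with hbody | hstop
    · rw [← hj] at hbody
      rcases body_use (g := g) hbody (by rw [← he]; exact heqN) (by rw [← he]; exact hnum) (by rw [← he]; exact hg) h1920 with
        h' | h'
      · exact Or.inl h'
      · right
        rw [← he] at h'
        simpa [killS] using h'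
    · exfalso
      rw [← hj] at hstop
      refine stop_false (g := g) ?_ (by omega) ?_ hstop
      · have := Nat.mul_le_mul (show a + b - 1 ≤ e by simp only [eAbs, cond_false] at he; omega)
          (show a + b - 1 ≤ e by simp only [eAbs, cond_false] at he; omega)
        omega
      · refine Nat.le_of_mul_le_mul_right ?_ (show 0 < e by omega)
        calc g * b * (a + cA) * e = g * (a * b * e + cA * b * e) := by ring
          _ ≤ kA * (a * b * e) + g * (cD * a * b) := hle
          _ ≤ kA * (a * b * e) + g * (cD * a * e) :=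
              Nat.add_le_add_left (Nat.mul_le_mul_left _ (Nat.mul_le_mul_left _ hbe)) _
          _ = (kA * a * b + g * cD * a) * e := by ring
  · obtain ⟨a, rfl⟩ : ∃ a : ℕ, A = (a : ℤ) := ⟨A.natAbs, by omega⟩
    have hBp : 0 < B := by split_ifs at hAB hBD <;> omega
    obtain ⟨b, rfl⟩ : ∃ b : ℕ, B = (b : ℤ) := ⟨B.natAbs, by omega⟩
    obtain ⟨e, rfl⟩ : ∃ e : ℕ, D = -(e : ℤ) := ⟨D.natAbs, by omega⟩
    have hab : a ≤ b := by split_ifs at hAB <;> omega
    have he : e = eAbs true a b := by simp only [eAbs, cond_true]; omega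
    have ha : 0 < a := by omega
    have hb : 0 < b := by omega
    have hbe : b ≤ e := by simp only [eAbs, cond_true] at he; omega
    have hg : a * a + b * b + e * e < g := by
      have : ((a * a + b * b + e * e : ℕ) : ℤ) < g := by push_cast; linarith
      exact_mod_cast this
    have heqN : g * pPart true cA cB cD a b = kA * (a * b * e) + g * nPart true cA cB cD a b := by
      simp only [pPart, nPart, cond_true, ← he]
      have : ((g * (a * b * e + cD * a * b) : ℕ) : ℤ) =
          ((kA * (a * b * e) + g * (cA * b * e + cB * a * e) : ℕ) : ℤ) := by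
        push_cast; linear_combination heq
      exact_mod_cast this
    have heq' : g * (a * b * e + cD * a * b) = kA * (a * b * e) + g * (cA * b * e + cB * a * e) := by
      simpa only [pPart, nPart, cond_true, ← he] using heqN
    have hab3 : 3 * a * a < g := by
      have := Nat.mul_le_mul hab hab
      have := Nat.mul_le_mul (hab.trans hbe) (hab.trans hbe)
      have e1 : 3 * a * a = 3 * (a * a) := by ring
      omega
    have hbd : 3 * a * a ≤ 3 * (cA + cB + cD) * a + kA := deg_bound (e := e) ha hb (by omega) (by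
      have h1 : g * (a * b * e) ≤ g * (a * b * e + cD * a * b) := Nat.mul_le_mul_left _ (Nat.le_add_right _ _)
      have h2 : g * (cA * b * e + cB * a * e) ≤ g * (cA + cB + cD) * (b * e) := by
        calc g * (cA * b * e + cB * a * e) ≤ g * (cA * b * e + cB * b * e) := Nat.mul_le_mul_left _
              (Nat.add_le_add_left (Nat.mul_le_mul_right _ (Nat.mul_le_mul_left _ hab)) _)
          _ = g * (cA + cB) * (b * e) := by ring
          _ ≤ _ := Nat.mul_le_mul_right _ (Nat.mul_le_mul_left _ (Nat.le_add_right _ _))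
      exact h1.trans (heq'.le.trans (Nat.add_le_add_left h2 _))) hab3
    obtain ⟨k, hka⟩ : ∃ k, a = rV x + 128 * k := ⟨a / 128, by unfold rV; omega⟩
    have hk54 : k < 54 := by
      by_contra hc
      have h1 : 6912 ≤ a := by omega
      have : 3 * (cA + cB + cD) * a + kA < 3 * a * a := by nlinarith
      omega
    have hn := hpos k hk54
    simp only [scanPos, ← hka, Bool.or_eq_true, Nat.blt_eq] at hn
    rcases hn with (hn | hn) | hn
    · have := Nat.eq_of_beq_eq_true hn; omega
    · omega
    obtain ⟨j, hj⟩ : ∃ j, b = rV y + 128 * ((a - rV y) / 128) + 128 * j := by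
      refine ⟨b / 128 - (a - rV y) / 128, ?_⟩
      have : (b : ℤ) % 128 = (rV y : ℤ) := by unfold rV; omega
      omega
    have hnum : 0 < kA * (a * b * e) := Nat.mul_pos hkA (Nat.mul_pos (Nat.mul_pos ha hb) (by omega))
    have hbodyuse : bodyB true x y z cA cB cD a b = true → g = theOrder ∨ killT g (a : ℤ) b (-(e : ℤ)) x y z = true := by
      intro hbody
      rcases body_use (g := g) hbody (by rw [← he]; exact heqN) (by rw [← he]; exact hnum) (by rw [← he]; exact hg) h1920 with
        h' | h'
      · exact Or.inl h'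
      · right
        rw [← he] at h'
        simpa [killS] using h'
    have hQ : a * a + b * b + (a + b - 1) * (a + b - 1) ≤ g := by
      simp only [eAbs, cond_true] at he
      subst he
      omega
    by_cases hc : cA < a
    · rw [blt_of hc, cond_true] at hn
      rcases scanB_sound hn j with hbody | hstop
      · exact hbodyuse (by rw [hj]; exact hbody)
      · exfalso
        rw [← hj] at hstop
        refine stop_false (g := g) hQ (by omega) ?_ hstop
        obtain ⟨r, hr⟩ := Nat.exists_eq_add_of_le hc.le
        rw [hr, Nat.add_sub_cancel_left]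
        rw [hr] at heq'
        refine Nat.le_of_mul_le_mul_right ?_ (show 0 < e by omega)
        nlinarith [Nat.zero_le (g * (cD * (cA + r) * b))]
    · rw [show Nat.blt cA a = false from Bool.eq_false_iff.2 fun h => hc (by simpa [Nat.blt_eq] using h), cond_false,
        Bool.and_eq_true, Nat.blt_eq] at hn
      obtain ⟨hlt, hn⟩ := hn
      rcases scanB_sound hn j with hbody | hstop
      · exact hbodyuse (by rw [hj]; exact hbody)
      · exfalso
        rw [← hj] at hstop
        refine stop_false (g := g) hQ (by omega) ?_ hstop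
        obtain ⟨r, hr⟩ := Nat.exists_eq_add_of_le hlt.le
        rw [hr, Nat.add_sub_cancel_left]
        rw [hr] at heq'
        have h1 : g * r * b * e ≤ g * cD * a * b := by
          nlinarith [Nat.zero_le (kA * (a * b * e)), Nat.zero_le (g * (cB * a * e))]
        have h2 : g * r * e ≤ g * cD * a := Nat.le_of_mul_le_mul_right (by linarith) hb
        calc g * b * r = g * r * b := by ring
          _ ≤ g * r * e := Nat.mul_le_mul_left _ hbe
          _ ≤ 0 * a * b + g * cD * a := by simpa using h2

/-- no admissible integer root -/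
theorem noRoot_sound {g r c P b e F : ℤ} (h : noRoot g r c P b e = true) (heq : P * F * F + b * F + e = 0)
    (hF0 : F ≠ 0) (hG0 : c - F ≠ 0) (hF : F * F < g) (hG : (c - F) * (c - F) < g) (hr : (128 : ℤ) ∣ F - r) :
    False := by
  simp only [noRoot, Bool.and_eq_true, Bool.or_eq_true, Bool.not_eq_true', decide_eq_true_eq,
    decide_eq_false_iff_not] at h
  obtain ⟨hP, h⟩ := h
  generalize hm : isqA 100 0 (2 ^ 100) (b * b - 4 * P * e).toNat = m at h
  have hd : b * b - 4 * P * e = (2 * P * F + b) * (2 * P * F + b) := by linear_combination -4 * P * heq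
  have hbad : ∀ F', F' = F → badRoot g r c F' ≠ true := by
    rintro _ rfl hb
    simp only [badRoot, Bool.or_eq_true, Bool.not_eq_true', decide_eq_true_eq, decide_eq_false_iff_not] at hb
    rcases hb with (((hb | hb) | hb) | hb) | hb
    · exact hF0 hb
    · exact hG0 hb
    · omega
    · omega
    · exact hb (Int.emod_eq_zero_of_dvd hr)
  rcases h with h | ⟨⟨h1, h2⟩, h3⟩
  · exact absurd h (not_lt.2 (hd ▸ mul_self_nonneg _))
  rw [hd] at h1 h2 h3
  rcases h3 with h3 | ⟨hp, hn⟩
  · have hlt : (m : ℤ) * m < (2 * P * F + b) * (2 * P * F + b) := lt_of_le_of_ne h1 h3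
    have hy : |2 * P * F + b| * |2 * P * F + b| = (2 * P * F + b) * (2 * P * F + b) := abs_mul_abs_self _
    have hy0 : 0 ≤ |2 * P * F + b| := abs_nonneg _
    generalize |2 * P * F + b| = y at *
    have : (m : ℤ) < y := by nlinarith
    have : y < (m : ℤ) + 1 := by nlinarith
    omega
  · have hcases : 2 * P * F + b = m ∨ 2 * P * F + b = -(m : ℤ) := by
      rcases le_or_gt ((2 * P * F + b) * (2 * P * F + b)) ((m : ℤ) * m) with hle | hgt
      · exact mul_self_eq_mul_self_iff.1 (le_antisymm hle h1)
      · exfalso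
        have hy : |2 * P * F + b| * |2 * P * F + b| = (2 * P * F + b) * (2 * P * F + b) := abs_mul_abs_self _
        have hy0 : 0 ≤ |2 * P * F + b| := abs_nonneg _
        generalize |2 * P * F + b| = y at *
        have : (m : ℤ) < y := by nlinarith
        have : y < (m : ℤ) + 1 := by nlinarith
        omega
    rcases hcases with hc | hc
    · have he : -b + (m : ℤ) = 2 * P * F := by linarith
      rw [he, Int.mul_emod_right, Int.mul_ediv_cancel_left _ (mul_ne_zero two_ne_zero hP)] at hp
      rcases hp with hp | hp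
      · exact hp rfl
      · exact hbad F rfl hp
    · have he : -b - (m : ℤ) = 2 * P * F := by linarith
      rw [he, Int.mul_emod_right, Int.mul_ediv_cancel_left _ (mul_ne_zero two_ne_zero hP)] at hn
      rcases hn with hn | hn
      · exact hn rfl
      · exact hbad F rfl hn

/-- the second column -/
theorem killW_sound {g Es F G : ℤ} {ws w u : List ℤ} (h : killW g Es ws = true) (hw : w ∈ vecs1) (hu : u ∈ vecs1)
    (hH : u = mk7 fun q => hh 1 q - ws.getD 1 0 * ws.getD q 0 - w.getD q 0)
    (hsum : Es * ws.getD 1 0 + F + G = 0) (hF0 : F ≠ 0) (hG0 : G ≠ 0) (hF : F * F < g) (hG : G * G < g)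
    (hr : (128 : ℤ) ∣ F - resV w)
    (heq : g * (ws.getD 1 0 * cV ws * F * G + Es * cV w * G + Es * cV u * F) = kB * (Es * F * G)) : False := by
  have h' := List.all_eq_true.1 h w hw
  simp only [← hH, Bool.or_eq_true, Bool.not_eq_true', decide_eq_false_iff_not] at h'
  rcases h' with h' | h'
  · exact h' hu
  obtain rfl : G = -Es * ws.getD 1 0 - F := by linarith
  exact noRoot_sound h' (by linear_combination heq) hF0 hG0 hF hG hr

end Cfsg.Agent.Spor.JThree
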