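import Mathlib
import Cfsg.Agent.Lib.Spor.JThree.SearchOk
import Cfsg.Agent.Lib.Spor.JThree.Sound

/-!
# The order is determined by the system
-/

set_option autoImplicit false
set_option linter.unusedSimpArgs false
set_option linter.unusedSectionVars false
set_option maxRecDepth 20000
set_option maxHeartbeats 1000000

namespace Cfsg.Agent.Spor.JThree

open Finset

theorem mk7_get (f : ℕ → ℤ) {i : ℕ} (hi : i < 7) : (mk7 f).getD i 0 = f i := by
  interval_cases i <;> simp [mk7, List.range_succ]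

theorem mk7_congr {f f' : ℕ → ℤ} (h : ∀ i < 7, f i = f' i) : mk7 f = mk7 f' :=
  List.map_congr_left fun i hi => h i (List.mem_range.1 hi)

theorem qL_mk7 (f : ℕ → ℤ) :
    qL (mk7 f) = ∑ i ∈ range 7, (∑ j ∈ range 7, adj i j * f j) * f i := by
  simp [qL, mk7, adj, adjL, dotL, List.range_succ, Finset.sum_range_succ]
  ring

theorem xV_mk7 (f : ℕ → ℤ) : xV (mk7 f) = lin7 wX f := by
  simp [xV, lin7, mk7, dotL, wX, List.range_succ, Finset.sum_range_succ]
  ring

theorem resV_mk7 (f : ℕ → ℤ) : resV (mk7 f) = -resForm f := by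
  simp [resV, resForm, lin7, mk7, dotL, wX, wFour, wEight, List.range_succ, Finset.sum_range_succ]
  ring

theorem lin7_smul (w : List ℤ) (s : ℤ) (f : ℕ → ℤ) : lin7 w (fun i => s * f i) = s * lin7 w f := by
  simp only [lin7, Finset.mul_sum]
  exact Finset.sum_congr rfl fun i _ => by ring

theorem mem_rngB {b : ℕ} {a : ℤ} (h : a.natAbs ≤ b) : a ∈ rngB b := by
  simp only [rngB, List.mem_map, List.mem_range]
  exact ⟨(a + b).toNat, by omega, by simp only [Int.ofNat_eq_natCast]; omega⟩

theorem mem_boxTail {c : ℤ} {l : List ℤ} (f : ℕ → ℤ) (h0 : f 0 = c) (h1 : f 1 ∈ l)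
    (hb : ∀ i < 7, (f i).natAbs ≤ bndB i) : mk7 f ∈ boxTail c l := by
  simp only [boxTail, List.mem_flatMap, List.mem_map]
  refine ⟨f 1, h1, f 2, mem_rngB (hb 2 (by norm_num)), f 3, mem_rngB (hb 3 (by norm_num)),
    f 4, mem_rngB (hb 4 (by norm_num)), f 5, mem_rngB (hb 5 (by norm_num)), f 6, mem_rngB (hb 6 (by norm_num)), ?_⟩
  simp [mk7, List.range_succ, h0]

theorem sort_three {ι : Type*} [DecidableEq ι] (key : ι → ℕ) {s : Finset ι} (h : s.card = 3) :
    ∃ a b c, a ≠ b ∧ a ≠ c ∧ b ≠ c ∧ s = {a, b, c} ∧ key a ≤ key b ∧ key b ≤ key c := by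
  obtain ⟨a, b, c, hab, hac, hbc, rfl⟩ := Finset.card_eq_three.1 h
  rcases le_total (key a) (key b) with h1 | h1 <;> rcases le_total (key b) (key c) with h2 | h2 <;>
    rcases le_total (key a) (key c) with h3 | h3
  all_goals first
    | exact ⟨a, b, c, hab, hac, hbc, rfl, by omega, by omega⟩
    | exact ⟨a, c, b, hac, hab, hbc.symm, by ext v; simp; tauto, by omega, by omega⟩
    | exact ⟨b, a, c, hab.symm, hbc, hac, by ext v; simp; tauto, by omega, by omega⟩
    | exact ⟨b, c, a, hbc, hab.symm, hac.symm, by ext v; simp; tauto, by omega, by omega⟩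
    | exact ⟨c, a, b, hac.symm, hbc.symm, hab, by ext v; simp; tauto, by omega, by omega⟩
    | exact ⟨c, b, a, hbc.symm, hac.symm, hab.symm, by ext v; simp; tauto, by omega, by omega⟩

theorem index_of_mem {v : List ℤ} (h : v ∈ vecs0) : ∃ i < 46, vecs0.getD i [] = v := by
  obtain ⟨i, hi, rfl⟩ := List.getElem_of_mem h
  exact ⟨i, vecs0_length ▸ hi, by rw [List.getD_eq_getElem _ _ hi]⟩

section

variable {ι : Type*} [Fintype ι] [DecidableEq ι] {z : ℕ → ι → ℤ} {o : ι} {π : ι → ι} {d : ι → ℕ} {g : ℕ}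

theorem sum_erase (S : Sys ι z o π d g) {i j : ℕ} (hi : i < 7) (hj : j < 7) :
    ∑ χ ∈ univ.erase o, z i χ * z j χ = hh i j := by
  have h := S.inner i hi j hj
  rw [← Finset.add_sum_erase _ _ (mem_univ o), S.princ i hi, S.princ j hj] at h
  rw [hh]; linarith

theorem q_le (S : Sys ι z o π d g) {χ : ι} (hχ : χ ≠ o) : qL (mk7 fun i => z i χ) ≤ 552 := by
  set x : ℕ → ℤ := fun i => ∑ j ∈ range 7, adj i j * z j χ with hx
  have hHx : ∀ i < 7, ∑ k ∈ range 7, hh i k * x k = 552 * z i χ := by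
    intro i hi
    simp only [hx, Finset.mul_sum]
    rw [Finset.sum_comm]
    have hA := List.all_eq_true.1 hh_adj i (List.mem_range.2 hi)
    calc ∑ j ∈ range 7, ∑ k ∈ range 7, hh i k * (adj k j * z j χ)
        = ∑ j ∈ range 7, (if i = j then 552 else 0) * z j χ := Finset.sum_congr rfl fun j hj => by
          rw [← of_decide_eq_true (List.all_eq_true.1 hA j (List.mem_range.2 (Finset.mem_range.1 hj))), Finset.sum_mul]
          exact Finset.sum_congr rfl fun k _ => by ring
      _ = 552 * z i χ := by simp [ite_mul, hi]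
  have hsum : ∑ ψ ∈ univ.erase o, (∑ i ∈ range 7, x i * z i ψ) ^ 2 = 552 * ∑ i ∈ range 7, x i * z i χ := by
    calc ∑ ψ ∈ univ.erase o, (∑ i ∈ range 7, x i * z i ψ) ^ 2
        = ∑ ψ ∈ univ.erase o, ∑ i ∈ range 7, ∑ k ∈ range 7, x i * x k * (z i ψ * z k ψ) :=
          Finset.sum_congr rfl fun ψ _ => by
            rw [pow_two, Finset.sum_mul_sum]
            exact Finset.sum_congr rfl fun i _ => Finset.sum_congr rfl fun k _ => by ring
      _ = ∑ i ∈ range 7, ∑ k ∈ range 7, x i * x k * hh i k := by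
          rw [Finset.sum_comm]
          refine Finset.sum_congr rfl fun i hi => ?_
          rw [Finset.sum_comm]
          refine Finset.sum_congr rfl fun k hk => ?_
          rw [← Finset.mul_sum, sum_erase S (Finset.mem_range.1 hi) (Finset.mem_range.1 hk)]
      _ = ∑ i ∈ range 7, x i * (552 * z i χ) := Finset.sum_congr rfl fun i hi => by
          rw [← hHx i (Finset.mem_range.1 hi), Finset.mul_sum]
          exact Finset.sum_congr rfl fun k _ => by ring
      _ = _ := by rw [Finset.mul_sum]; exact Finset.sum_congr rfl fun i _ => by ring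
  have hterm := Finset.single_le_sum (f := fun ψ => (∑ i ∈ range 7, x i * z i ψ) ^ 2) (fun ψ _ => sq_nonneg _)
    (mem_erase.2 ⟨hχ, mem_univ χ⟩)
  rw [hsum] at hterm
  rw [qL_mk7]
  try simp only at hterm ⊢
  generalize ∑ i ∈ range 7, x i * z i χ = q at hterm ⊢
  nlinarith [sq_nonneg q]

theorem z_bound (S : Sys ι z o π d g) {χ : ι} (hχ : χ ≠ o) {i : ℕ} (hi : i < 7) : (z i χ).natAbs ≤ bndB i := by
  have h := Finset.single_le_sum (f := fun ψ => z i ψ * z i ψ) (fun ψ _ => mul_self_nonneg _)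
    (mem_erase.2 ⟨hχ, mem_univ χ⟩)
  rw [sum_erase S hi hi] at h
  have hb : hh i i < ((bndB i : ℤ) + 1) * ((bndB i : ℤ) + 1) := by interval_cases i <;> decide +kernel
  by_contra hc
  have h1 : (bndB i + 1) * (bndB i + 1) ≤ (z i χ).natAbs * (z i χ).natAbs := Nat.mul_le_mul (by omega) (by omega)
  have h2 : ((bndB i : ℤ) + 1) * ((bndB i : ℤ) + 1) ≤ ((z i χ).natAbs * (z i χ).natAbs : ℕ) := by exact_mod_cast h1
  rw [Int.natAbs_mul_self] at h2
  try simp only at h
  omega

theorem unit_coord (S : Sys ι z o π d g) {χ : ι} (hχ : χ ≠ o) {i : ℕ} (hi : i < 2) (h : z i χ ≠ 0) :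
    z i χ = 1 ∨ z i χ = -1 := by
  have := z_bound S hχ (show i < 7 by omega)
  simp only [bndB, show i < 4 by omega, if_true] at this
  omega

theorem col_card (S : Sys ι z o π d g) {i : ℕ} (hi : i < 2) :
    ((univ.erase o).filter fun χ => z i χ ≠ 0).card = 3 := by
  have h := sum_erase S (show i < 7 by omega) (show i < 7 by omega)
  rw [← Finset.sum_filter_add_sum_filter_not _ (fun χ => z i χ ≠ 0),
    Finset.sum_eq_zero (s := (univ.erase o).filter fun χ => ¬z i χ ≠ 0) (fun χ hχ => by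
      rw [not_not.1 (mem_filter.1 hχ).2, zero_mul]), add_zero,
    Finset.sum_congr rfl (fun χ hχ => show z i χ * z i χ = 1 by
      obtain ⟨h1, h2⟩ := mem_filter.1 hχ
      rcases unit_coord S (mem_erase.1 h1).1 hi h2 with h | h <;> simp [h]),
    Finset.sum_const, nsmul_eq_mul, mul_one] at h
  have h3 : hh i i = 3 := by interval_cases i <;> decide +kernel
  omega

/-- sums against a column, with three nonzero entries outside the principal index -/
theorem col_sum {R : Type*} [CommRing R] (i : ℕ) {a b c : ι} (hab : a ≠ b) (hac : a ≠ c) (hbc : b ≠ c)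
    (hs : ((univ.erase o).filter fun χ => z i χ ≠ 0) = {a, b, c}) (F : ι → R) :
    ∑ χ, (z i χ : R) * F χ = (z i o : R) * F o + ((z i a : R) * F a + ((z i b : R) * F b + (z i c : R) * F c)) := by
  rw [← Finset.add_sum_erase _ _ (mem_univ o), ← Finset.sum_filter_of_ne (p := fun χ => z i χ ≠ 0)
    (s := univ.erase o) (fun χ _ h => fun h0 => h (by simp [h0])), hs,
    Finset.sum_insert (by simp [hab, hac]), Finset.sum_insert (by simp [hbc]), Finset.sum_singleton]

theorem col_sumZ (i : ℕ) {a b c : ι} (hab : a ≠ b) (hac : a ≠ c) (hbc : b ≠ c)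
    (hs : ((univ.erase o).filter fun χ => z i χ ≠ 0) = {a, b, c}) (F : ι → ℤ) :
    ∑ χ, z i χ * F χ = z i o * F o + (z i a * F a + (z i b * F b + z i c * F c)) := by
  simpa using col_sum (R := ℤ) i hab hac hbc hs F

theorem mem_vecs0 (S : Sys ι z o π d g) {χ : ι} (hχ : χ ≠ o) (h : z 0 χ ≠ 0) :
    (mk7 fun i => z 0 χ * z i χ) ∈ vecs0 := by
  have hu := unit_coord S hχ (i := 0) (by norm_num) h
  have hbox : (mk7 fun i => z 0 χ * z i χ) ∈ boxTail 1 (rngB 1) := mem_boxTail _
    (by rcases hu with h | h <;> simp [h])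
    (mem_rngB (by have := z_bound S hχ (show 1 < 7 by norm_num); rcases hu with h | h <;> simpa [h, bndB] using this))
    (fun i hi => by have := z_bound S hχ hi; rcases hu with h | h <;> simpa [h] using this)
  have h' := List.all_eq_true.1 vecs0_ok _ hbox
  simp only [Bool.or_eq_true, decide_eq_true_eq] at h'
  rcases h' with h' | h'
  · exfalso
    have hq := q_le S hχ
    rw [qL_mk7] at h' hq
    rcases hu with h | h <;> simp [h] at h' <;> linarith
  · exact h'

theorem mem_vecs1 (S : Sys ι z o π d g) {χ : ι} (hχ : χ ≠ o) (h0 : z 0 χ = 0) (h : z 1 χ ≠ 0) :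
    (mk7 fun i => z 1 χ * z i χ) ∈ vecs1 := by
  have hu := unit_coord S hχ (i := 1) (by norm_num) h
  have hbox : (mk7 fun i => z 1 χ * z i χ) ∈ boxTail 0 [1] := mem_boxTail _
    (by simp [h0]) (by rcases hu with h | h <;> simp [h])
    (fun i hi => by have := z_bound S hχ hi; rcases hu with h | h <;> simpa [h] using this)
  have h' := List.all_eq_true.1 vecs1_ok _ hbox
  simp only [Bool.or_eq_true, decide_eq_true_eq] at h'
  rcases h' with h' | h'
  · exfalso
    have hq := q_le S hχ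
    rw [qL_mk7] at h' hq
    rcases hu with h | h <;> simp [h] at h' <;> linarith
  · exact h'

theorem deg_cong (S : Sys ι z o π d g) (χ : ι) (i : ℕ) :
    (128 : ℤ) ∣ z i χ * (d χ : ℤ) - resV (mk7 fun j => z i χ * z j χ) := by
  rw [resV_mk7]
  simp only [resForm, lin7_smul]
  obtain ⟨m, hm⟩ := S.cong χ
  simp only [resForm] at hm
  exact ⟨z i χ * m, by linear_combination (z i χ) * hm⟩

theorem cV_smul {s : ℤ} (hs : s = 1 ∨ s = -1) (f : ℕ → ℤ) :
    ((cV (mk7 fun j => s * f j) : ℕ) : ℤ) = lin7 wX f ^ 2 := by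
  rw [cV, Nat.cast_mul, Int.natCast_natAbs, abs_mul_abs_self, xV_mk7, lin7_smul]
  rcases hs with rfl | rfl <;> ring

theorem sq_bound (S : Sys ι z o π d g) (s : Finset ι) (hs : o ∉ s) : 1 + ∑ χ ∈ s, (d χ : ℤ) ^ 2 ≤ g := by
  rw [← S.sq]
  have h := Finset.sum_le_sum_of_subset_of_nonneg (f := fun χ => (d χ : ℤ) ^ 2) (Finset.subset_univ (insert o s))
    (fun χ _ _ => sq_nonneg _)
  rw [Finset.sum_insert hs, S.one] at h
  simpa using h

theorem g_pos (S : Sys ι z o π d g) : 0 < g := by
  have := sq_bound S ∅ (by simp)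
  simp at this
  omega

/-- the system forces the order -/
theorem order_eq (S : Sys ι z o π d g) : g = theOrder := by
  have hg0 : (g : ℚ) ≠ 0 := Nat.cast_ne_zero.2 (g_pos S).ne'
  obtain ⟨a, b, c, hab, hac, hbc, hs0, hk1, hk2⟩ :=
    sort_three (fun χ => keyZ (z 0 χ * (d χ : ℤ))) (col_card S (i := 0) (by norm_num))
  have hmem : ∀ χ, (χ = a ∨ χ = b ∨ χ = c) ↔ χ ≠ o ∧ z 0 χ ≠ 0 := fun χ => by
    have := Finset.ext_iff.1 hs0 χ
    simpa [mem_filter, mem_erase] using this.symm
  obtain ⟨hao, ha0⟩ := (hmem a).1 (Or.inl rfl)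
  obtain ⟨hbo, hb0⟩ := (hmem b).1 (Or.inr (Or.inl rfl))
  obtain ⟨hco, hc0⟩ := (hmem c).1 (Or.inr (Or.inr rfl))
  let vv : ι → List ℤ := fun χ => mk7 fun i => z 0 χ * z i χ
  let DD : ι → ℤ := fun χ => z 0 χ * (d χ : ℤ)
  have hva := mem_vecs0 S hao ha0
  have hvb := mem_vecs0 S hbo hb0
  have hvc := mem_vecs0 S hco hc0
  obtain ⟨i, hi, hix⟩ := index_of_mem hva
  obtain ⟨j, hj, hjy⟩ := index_of_mem hvb
  obtain ⟨k, hk, hkz⟩ := index_of_mem hvc
  have hthird : thirdV (vv a) (vv b) = vv c := mk7_congr fun q hq => by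
    simp only [vv, mk7_get _ hq]
    have h := S.inner 0 (by norm_num) q hq
    rw [col_sumZ 0 hab hac hbc hs0 (fun χ => z q χ), S.princ 0 (by norm_num), S.princ q hq] at h
    rw [hh]
    linarith
  have hclosed : closedV (vv a) (vv b) (vv c) = true := by
    have hsig : ∀ χ, χ = a ∨ χ = b ∨ χ = c → sigV (vv χ) ∈ [vv a, vv b, vv c] := by
      intro χ hχ
      obtain ⟨hχo, hχ0⟩ := (hmem χ).1 hχ
      have hsig' : sigV (vv χ) = mk7 fun q => z 0 χ * z q (π χ) := mk7_congr fun q hq => by
        have hs : sgi q < 7 := by simp only [sgi]; split_ifs <;> omega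
        simp only [vv, mk7_get _ hs, S.gal q hq]
        ring
      have hz0 : z 0 (π χ) = z 0 χ := by
        rw [S.gal 0 (by norm_num)]; simp [sgs, sgi]
      by_cases hπ : π χ = o
      · have hfix : ∀ q < 7, z q (π χ) = z q χ := by
          intro q hq
          have hs : sgi q < 7 := by simp only [sgi]; split_ifs <;> omega
          have hss : sgi (sgi q) = q := by simp only [sgi]; split_ifs <;> omega
          have h := S.gal (sgi q) hs χ
          rw [hss, hπ, S.princ _ hs] at h
          rw [hπ, S.princ q hq]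
          interval_cases q <;> simp [sgs, sgi, cOne] at h ⊢ <;> omega
        rw [hsig', show (mk7 fun q => z 0 χ * z q (π χ)) = vv χ from mk7_congr fun q hq => by rw [hfix q hq]]
        rcases hχ with rfl | rfl | rfl <;> simp
      · have hmemπ := (hmem (π χ)).2 ⟨hπ, by rw [hz0]; exact hχ0⟩
        rw [hsig', show (mk7 fun q => z 0 χ * z q (π χ)) = vv (π χ) from mk7_congr fun q hq => by rw [hz0]]
        rcases hmemπ with h | h | h <;> simp [h]
    simp only [closedV, List.all_cons, List.all_nil, Bool.and_true, Bool.and_eq_true, decide_eq_true_eq]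
    exact ⟨hsig a (Or.inl rfl), hsig b (Or.inr (Or.inl rfl)), hsig c (Or.inr (Or.inr rfl))⟩
  have htri : (i, j, k) ∈ triL := by
    have h := List.all_eq_true.1 (List.all_eq_true.1 triL_ok i (List.mem_range.2 hi)) j (List.mem_range.2 hj)
    simp only [hix, hjy] at h
    have h' := List.all_eq_true.1 h k (List.mem_range.2 hk)
    change (!(decide (vecs0.getD k [] = thirdV (vv a) (vv b))) || !(closedV (vv a) (vv b) (thirdV (vv a) (vv b))) ||
      decide ((i, j, k) ∈ triL)) = true at h'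
    rw [hkz, hthird, hclosed] at h'
    simpa [vv] using h'
  have hscan := scan_ok htri
  have hcount : ([vv a, vv b, vv c].countP fun v => !(decide (v.getD 1 0 = 0))) = 1 := by
    have h := hscan
    simp only [scanT, Bool.and_eq_true] at h
    simp only [hix, hjy, hkz] at h
    exact Nat.eq_of_beq_eq_true h.1.1.1
  have hDsum : DD a + DD b + DD c = 1 := by
    have h := S.deg 0 (by norm_num)
    rw [col_sumZ 0 hab hac hbc hs0 (fun χ => (d χ : ℤ)), S.princ 0 (by norm_num), S.one] at h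
    simp [cOne] at h
    linarith
  have hXo : lin7 wX (fun q => z q o) = 1 := by
    rw [show lin7 wX (fun q => z q o) = lin7 wX (fun q => cOne.getD q 0) from
      Finset.sum_congr rfl fun q hq => by show wX.getD q 0 * z q o = _; rw [S.princ q (Finset.mem_range.1 hq)]]
    decide +kernel
  have hterm : ∀ χ, χ = a ∨ χ = b ∨ χ = c →
      (z 0 χ : ℚ) * (((lin7 wX fun q => z q χ : ℤ) : ℚ) ^ 2 / (d χ : ℚ)) = ((cV (vv χ) : ℕ) : ℚ) / (DD χ : ℚ) := by
    intro χ hχ
    obtain ⟨hχo, hχ0⟩ := (hmem χ).1 hχ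
    have hu := unit_coord S hχo (i := 0) (by norm_num) hχ0
    have h := congrArg (Int.cast : ℤ → ℚ) (cV_smul hu fun q => z q χ)
    push_cast at h
    simp only [vv, DD]
    rw [h]
    push_cast
    rcases hu with h | h <;> simp [h] <;> ring
  have hD0 : ∀ χ, χ = a ∨ χ = b ∨ χ = c → DD χ ≠ 0 := fun χ hχ =>
    mul_ne_zero ((hmem χ).1 hχ).2 (by exact_mod_cast (S.dpos χ).ne')
  have heqA : (g : ℤ) * ((cV (vv a) : ℤ) * DD b * DD c + (cV (vv b) : ℤ) * DD a * DD c +
      (cV (vv c) : ℤ) * DD a * DD b - DD a * DD b * DD c) = -(kA : ℤ) * (DD a * DD b * DD c) := by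
    have h := S.pairs 0 (by norm_num)
    simp only [mul_div_assoc] at h
    rw [col_sum 0 hab hac hbc hs0 (fun χ => ((lin7 wX fun q => z q χ : ℤ) : ℚ) ^ 2 / (d χ : ℚ)),
      hterm a (Or.inl rfl), hterm b (Or.inr (Or.inl rfl)), hterm c (Or.inr (Or.inr rfl)), S.princ 0 (by norm_num),
      hXo, S.one] at h
    have na : (DD a : ℚ) ≠ 0 := Int.cast_ne_zero.2 (hD0 a (Or.inl rfl))
    have nb : (DD b : ℚ) ≠ 0 := Int.cast_ne_zero.2 (hD0 b (Or.inr (Or.inl rfl)))
    have nc : (DD c : ℚ) ≠ 0 := Int.cast_ne_zero.2 (hD0 c (Or.inr (Or.inr rfl)))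
    simp [cOne, kW] at h
    field_simp at h
    apply Int.cast_injective (α := ℚ)
    simp only [kA]
    push_cast
    linear_combination h
  have hsqA : DD a * DD a + DD b * DD b + DD c * DD c < g := by
    have h := sq_bound S {a, b, c} (by simp [Ne.symm hao, Ne.symm hbo, Ne.symm hco])
    rw [Finset.sum_insert (by simp [hab, hac]), Finset.sum_insert (by simp [hbc]), Finset.sum_singleton] at h
    have hDD : ∀ χ, χ = a ∨ χ = b ∨ χ = c → DD χ * DD χ = (d χ : ℤ) ^ 2 := fun χ hχ => by
      rcases unit_coord S ((hmem χ).1 hχ).1 (i := 0) (by norm_num) ((hmem χ).1 hχ).2 with h | h <;>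
        simp [DD, h, pow_two]
    rw [hDD a (Or.inl rfl), hDD b (Or.inr (Or.inl rfl)), hDD c (Or.inr (Or.inr rfl))]
    linarith
  rcases scanT_sound hscan (x := vv a) (y := vv b) (z := vv c) hix.symm hjy.symm hkz.symm
    (A := DD a) (B := DD b) (D := DD c) (deg_cong S a 0) (deg_cong S b 0) hDsum (hD0 a (Or.inl rfl)) hk1 hk2
    heqA hsqA S.dvd with h | h
  · exact h
  exfalso
  have hone : ∀ χ, (vv χ).getD 1 0 = z 0 χ * z 1 χ := fun χ => mk7_get _ (by norm_num)
  -- the second column
  have finish : ∀ e, e = a ∨ e = b ∨ e = c → z 1 e ≠ 0 → (∀ χ, χ = a ∨ χ = b ∨ χ = c → z 1 χ ≠ 0 → χ = e) →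
      killW g (DD e) (vv e) = true → False := by
    intro e he he1 huniq hkill
    obtain ⟨heo, he0⟩ := (hmem e).1 he
    have het : e ∈ (univ.erase o).filter fun χ => z 1 χ ≠ 0 := by simp [heo, he1]
    have hc2 : (((univ.erase o).filter fun χ => z 1 χ ≠ 0).erase e).card = 2 := by
      rw [Finset.card_erase_of_mem het, col_card S (i := 1) (by norm_num)]
    obtain ⟨w, u, hwu, hpair⟩ := Finset.card_eq_two.1 hc2
    have hw := Finset.ext_iff.1 hpair w
    have hu := Finset.ext_iff.1 hpair u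
    simp [mem_erase, mem_filter] at hw hu
    obtain ⟨hwe, hwo, hw1⟩ := hw
    obtain ⟨hue, huo, hu1⟩ := hu
    have hw0 : z 0 w = 0 := by
      by_contra h0; exact hwe (huniq w ((hmem w).2 ⟨hwo, h0⟩) hw1)
    have hu0 : z 0 u = 0 := by
      by_contra h0; exact hue (huniq u ((hmem u).2 ⟨huo, h0⟩) hu1)
    have ht : ((univ.erase o).filter fun χ => z 1 χ ≠ 0) = {e, w, u} := by
      rw [← Finset.insert_erase het, hpair]
    have hu0' := unit_coord S heo (i := 0) (by norm_num) he0
    have hsw := unit_coord S hwo (i := 1) (by norm_num) hw1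
    have hsu := unit_coord S huo (i := 1) (by norm_num) hu1
    have hp1 : z 1 o = 0 := by rw [S.princ 1 (by norm_num)]; rfl
    have hee : z 0 e * z 0 e = 1 := by rcases hu0' with h | h <;> simp [h]
    refine killW_sound hkill (mem_vecs1 S hwo hw0 hw1) (mem_vecs1 S huo hu0 hu1)
      (F := z 1 w * (d w : ℤ)) (G := z 1 u * (d u : ℤ)) (mk7_congr fun q hq => ?_) ?_
      (mul_ne_zero hw1 (by exact_mod_cast (S.dpos w).ne')) (mul_ne_zero hu1 (by exact_mod_cast (S.dpos u).ne'))
      ?_ ?_ (deg_cong S w 1) ?_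
    · have h := S.inner 1 (by norm_num) q hq
      rw [col_sumZ 1 (Ne.symm hwe) (Ne.symm hue) hwu ht (fun χ => z q χ), S.princ q hq, hp1] at h
      simp only [hone, vv, mk7_get _ hq, hh, S.princ 1 (by norm_num) ▸ hp1]
      linear_combination h + (z 1 e * z q e) * hee
    · have h := S.deg 1 (by norm_num)
      rw [col_sumZ 1 (Ne.symm hwe) (Ne.symm hue) hwu ht (fun χ => (d χ : ℤ)), hp1] at h
      simp only [DD, hone]
      linear_combination h + (z 1 e * (d e : ℤ)) * hee
    · have h := sq_bound S {w} (by simp [Ne.symm hwo])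
      rw [Finset.sum_singleton] at h
      rcases hsw with h' | h' <;> rw [h'] <;> linarith
    · have h := sq_bound S {u} (by simp [Ne.symm huo])
      rw [Finset.sum_singleton] at h
      rcases hsu with h' | h' <;> rw [h'] <;> linarith
    · have h := S.pairs 1 (by norm_num)
      simp only [mul_div_assoc] at h
      rw [col_sum 1 (Ne.symm hwe) (Ne.symm hue) hwu ht
        (fun χ => ((lin7 wX fun q => z q χ : ℤ) : ℚ) ^ 2 / (d χ : ℚ)), hp1] at h
      have cw := congrArg (Int.cast : ℤ → ℚ) (cV_smul hsw fun q => z q w)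
      have cu := congrArg (Int.cast : ℤ → ℚ) (cV_smul hsu fun q => z q u)
      have ce := congrArg (Int.cast : ℤ → ℚ) (cV_smul hu0' fun q => z q e)
      push_cast at cw cu ce
      apply Int.cast_injective (α := ℚ)
      simp only [DD, hone, vv, kB]
      push_cast
      rw [cw, cu, ce]
      have nw : (d w : ℚ) ≠ 0 := Nat.cast_ne_zero.2 (S.dpos w).ne'
      have nu : (d u : ℚ) ≠ 0 := Nat.cast_ne_zero.2 (S.dpos u).ne'
      have ne' : (d e : ℚ) ≠ 0 := Nat.cast_ne_zero.2 (S.dpos e).ne'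
      simp [kW] at h
      field_simp at h
      rcases hu0' with s0 | s0 <;> rcases hsw with sw | sw <;> rcases hsu with su | su <;>
        simp only [s0, sw, su, Int.cast_one, Int.cast_neg] at h ⊢ <;>
        first | linear_combination h | linear_combination -h
  simp only [List.countP_cons, List.countP_nil, hone, mul_eq_zero, ha0, hb0, hc0, false_or] at hcount
  by_cases hA1 : z 1 a = 0
  · by_cases hB1 : z 1 b = 0
    · rw [killT, if_neg (by rw [hone, hA1, mul_zero]; simp), if_neg (by rw [hone, hB1, mul_zero]; simp)] at h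
      simp [hA1, hB1] at hcount
      refine finish c (Or.inr (Or.inr rfl)) hcount (fun χ hχ h1 => ?_) h
      rcases hχ with rfl | rfl | rfl <;> tauto
    · rw [killT, if_neg (by rw [hone, hA1, mul_zero]; simp), if_pos (by rw [hone]; exact mul_ne_zero hb0 hB1)] at h
      simp [hA1, hB1] at hcount
      refine finish b (Or.inr (Or.inl rfl)) hB1 (fun χ hχ h1 => ?_) h
      rcases hχ with rfl | rfl | rfl <;> tauto
  · rw [killT, if_pos (by rw [hone]; exact mul_ne_zero ha0 hA1)] at h
    simp [hA1] at hcount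
    refine finish a (Or.inl rfl) hA1 (fun χ hχ h1 => ?_) h
    rcases hχ with rfl | rfl | rfl <;> tauto

end

end Cfsg.Agent.Spor.JThree
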