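import Mathlib
import Cfsg.Agent.Lib.Lie.J2Unique.Model

/-!
Groups with an involution centralizer of shape `2^{1+4}.A₅`: the core contains its centralizer.
-/

set_option autoImplicit false
set_option linter.style.haveILetI false
set_option linter.unusedSectionVars false

namespace Cfsg.Agent.Spor.JThree

universe u

local notation "A5" => alternatingGroup (Fin 5)

theorem a5_center : ∀ a : A5, (∀ b, a * b = b * a) → a = 1 := by decide +kernel

theorem a5_exp_two : ∀ a b : A5, a * a = 1 → b * b = 1 → a * b * (a * b) = 1 → a * b = b * a := by decide +kernel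

theorem a5_four' : ∀ g : A5, g * g * (g * g) = 1 → g * g = 1 := by decide +kernel

theorem a5_noncomm' : ∃ a b : A5, a * b ≠ b * a := by decide +kernel

variable {G : Type u} [Group G] [Finite G]

/-- an involution of a simple group with non-abelian centralizer has another conjugate commuting with it -/
theorem exists_commuting_conj [IsSimpleGroup G] {t : G} (ht : orderOf t = 2)
    {a b : G} (hab : a * b ≠ b * a) :
    ∃ g : G, Commute t (g * t * g⁻¹) ∧ g * t * g⁻¹ ≠ t := by
  by_contra! hiso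
  have h1 := Char.zStar_isolated (z := t) ⟨ht, hiso⟩
  haveI : (Cfsg.oddCore G).Normal := Solv.pPrimeCore_normal 2
  rcases (inferInstance : (Cfsg.oddCore G).Normal).eq_bot_or_eq_top with e | e
  · have hzc : t ∈ Subgroup.center G := Subgroup.mem_center_iff.2 fun x => by
      have := h1 x
      rw [e, Subgroup.mem_bot, mul_inv_eq_one, mul_inv_eq_iff_eq_mul] at this
      exact this.symm
    rcases (inferInstance : (Subgroup.center G).Normal).eq_bot_or_eq_top with e' | e'
    · rw [e', Subgroup.mem_bot] at hzc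
      rw [hzc, orderOf_one] at ht
      exact absurd ht (by norm_num)
    · exact hab (Subgroup.mem_center_iff.1 (e' ▸ Subgroup.mem_top b) a)
  · have hodd := Char.card_oddCore_odd G
    rw [e, Subgroup.card_top] at hodd
    exact (Nat.not_even_iff_odd.2 hodd) (even_iff_two_dvd.2 (ht ▸ orderOf_dvd_natCard t))

section Group32

variable {E : Type u} [Group E] [Finite E] {z : E}

/-- in a group of order `32` with centre `⟨z⟩` and commutators in it, all centralizers are non-abelian -/
theorem exists_noncommuting_at (hE : Nat.card E = 32) (hz2 : z * z = 1) (hzc : ∀ x, Commute z x)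
    (hcen : ∀ x : E, (∀ y, Commute x y) → x = 1 ∨ x = z) (hcom : ∀ x y : E, x * y = y * x ∨ x * y = y * x * z)
    (ε : E) : ∃ q r : E, Commute q ε ∧ Commute r ε ∧ ¬ Commute q r := by
  classical
  by_contra! hab
  haveI : Fintype E := Fintype.ofFinite E
  have hmul : ∀ {a b c : E}, ¬ Commute a c → ¬ Commute b c → Commute (a * b) c := fun {a b c} ha hb => by
    have h1 := (hcom a c).resolve_left ha
    have h2 := (hcom b c).resolve_left hb
    show a * b * c = c * (a * b)
    rw [mul_assoc, h2, ← mul_assoc, ← mul_assoc, h1]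
    calc c * a * z * b * z = c * a * (z * b) * z := by group
      _ = c * a * (b * z) * z := by rw [(hzc b).eq]
      _ = c * (a * b) * (z * z) := by group
      _ = c * (a * b) := by rw [hz2, mul_one]
  have hsmall : ∀ f : Fin 2 × Fin 2 × Fin 2 → E, ¬ Function.Surjective f := fun f hf => by
    have := Nat.card_le_card_of_surjective f hf
    rw [hE] at this
    simp at this
  by_cases hε : ∀ y, Commute ε y
  · have hcent : ∀ x, x = 1 ∨ x = z := fun x => hcen x fun y => hab x y (hε x).symm (hε y).symm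
    refine hsmall (fun i => if i.1 = 0 then 1 else z) fun x => ?_
    rcases hcent x with rfl | rfl
    · exact ⟨(0, 0, 0), by simp⟩
    · exact ⟨(1, 0, 0), by simp⟩
  obtain ⟨d, hd⟩ := not_forall.1 hε
  -- an element commuting with `ε` and `d` is central
  have hA : ∀ x, Commute x ε → Commute x d → x = 1 ∨ x = z := fun x hx hxd => hcen x fun b => by
    by_cases hb : Commute b ε
    · exact hab x b hx hb
    · have h2 : Commute x (b * d * d⁻¹) :=
        (hab x (b * d) hx (hmul hb fun h => hd h.symm)).mul_right hxd.inv_right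
      simpa using h2
  obtain ⟨x₀, hx₀, hall⟩ : ∃ x₀, Commute x₀ ε ∧ ∀ x, Commute x ε →
      x = 1 ∨ x = z ∨ x = x₀ ∨ x = x₀ * z := by
    by_cases h : ∃ x₀, Commute x₀ ε ∧ ¬ Commute x₀ d
    · obtain ⟨x₀, h0, h0d⟩ := h
      refine ⟨x₀⁻¹, h0.inv_left, fun x hx => ?_⟩
      by_cases hxd : Commute x d
      · exact (hA x hx hxd).elim Or.inl fun e => Or.inr (Or.inl e)
      rcases hA (x₀ * x) (h0.mul_left hx) (hmul h0d hxd) with e | e
      · exact Or.inr (Or.inr (Or.inl (eq_inv_of_mul_eq_one_right e)))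
      · exact Or.inr (Or.inr (Or.inr (by rw [← e, inv_mul_cancel_left])))
    · push Not at h
      exact ⟨1, Commute.one_left _, fun x hx => (hA x hx (h x hx)).elim Or.inl fun e => Or.inr (Or.inl e)⟩
  refine hsmall (fun i => (if i.1 = 0 then 1 else x₀) * (if i.2.1 = 0 then 1 else z) * (if i.2.2 = 0 then 1 else d⁻¹))
    fun x => ?_
  have key : ∀ y, Commute y ε → ∀ c : Fin 2, ∃ i : Fin 2 × Fin 2 × Fin 2,
      (if i.1 = 0 then 1 else x₀) * (if i.2.1 = 0 then 1 else z) * (if i.2.2 = 0 then 1 else d⁻¹) =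
        y * (if c = 0 then 1 else d⁻¹) := by
    intro y hy c
    rcases hall y hy with e | e | e | e <;> rw [e]
    · exact ⟨(0, 0, c), by simp⟩
    · exact ⟨(0, 1, c), by simp⟩
    · exact ⟨(1, 0, c), by simp⟩
    · exact ⟨(1, 1, c), by simp⟩
  by_cases hx : Commute x ε
  · simpa using key x hx 0
  · obtain ⟨i, hi⟩ := key (x * d) (hmul hx fun h => hd h.symm) 1
    exact ⟨i, hi.trans (by simp)⟩

end Group32

/-- the core contains its centralizer -/
theorem core_self_cent [IsSimpleGroup G] (t : G) (ht : orderOf t = 2)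
    (E : Subgroup (Subgroup.centralizer ({t} : Set G))) [E.Normal] (hE : Nat.card E = 32)
    (hX : Cfsg.IsExtraspecial 2 E) (e : (Subgroup.centralizer ({t} : Set G)) ⧸ E ≃* A5) :
    Subgroup.centralizer (E : Set (Subgroup.centralizer ({t} : Set G))) ≤ E := by
  classical
  haveI : Fact (Nat.Prime 2) := ⟨Nat.prime_two⟩
  let π : ↥(Subgroup.centralizer ({t} : Set G)) →* A5 := e.toMonoidHom.comp (QuotientGroup.mk' E)
  have hπ : Function.Surjective π := e.surjective.comp (QuotientGroup.mk'_surjective E)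
  have hker : ∀ c, π c = 1 ↔ c ∈ E := fun c =>
    (MulEquiv.map_eq_one_iff e).trans (QuotientGroup.eq_one_iff c)
  set K := Subgroup.centralizer (E : Set ↥(Subgroup.centralizer ({t} : Set G)))
  haveI hKn : K.Normal := Subgroup.normal_centralizer
  haveI : IsSimpleGroup A5 := alternatingGroup.isSimpleGroup (by rw [Nat.card_fin])
  rcases (Subgroup.Normal.map hKn π hπ).eq_bot_or_eq_top with hb | htop
  · intro x hx
    rw [← hker]
    exact Subgroup.mem_bot.1 (hb ▸ Subgroup.mem_map_of_mem π hx)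
  exfalso
  have hdec : ∀ c : ↥(Subgroup.centralizer ({t} : Set G)), ∃ ε ∈ E, ∃ k ∈ K, c = ε * k := fun c => by
    obtain ⟨k, hk, hkc⟩ := Subgroup.mem_map.1 (htop ▸ Subgroup.mem_top (π c))
    exact ⟨c * k⁻¹, (hker _).1 (by rw [map_mul, map_inv, hkc, mul_inv_cancel]), k, hk, by simp⟩
  let tC : ↥(Subgroup.centralizer ({t} : Set G)) := ⟨t, Subgroup.mem_centralizer_singleton_iff.2 rfl⟩
  have htc : ∀ c : ↥(Subgroup.centralizer ({t} : Set G)), tC * c = c * tC := fun c =>
    Subtype.ext (Subgroup.mem_centralizer_singleton_iff.1 c.2).symm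
  have htE : tC ∈ E := (hker _).1 (a5_center _ fun b => by
    obtain ⟨c, rfl⟩ := hπ b
    rw [← map_mul, ← map_mul, htc])
  let tE : E := ⟨tC, htE⟩
  have htt : t * t = 1 := by rw [← pow_two, ← ht, pow_orderOf_eq_one]
  have ht1 : t ≠ 1 := fun h => by rw [h, orderOf_one] at ht; exact absurd ht (by norm_num)
  have htE2 : tE * tE = 1 := Subtype.ext (Subtype.ext htt)
  have htEc : ∀ x : E, Commute tE x := fun x => Subtype.ext (htc x)
  have hcen' : ∀ x : E, x ∈ Subgroup.center E → x = 1 ∨ x = tE := by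
    intro x hx
    obtain ⟨y, -, hy⟩ := (Nat.card_eq_two_iff' (1 : Subgroup.center E)).1 hX.2
    by_cases h : x = 1
    · exact Or.inl h
    have e1 := hy ⟨x, hx⟩ fun e => h (congrArg Subtype.val e)
    have e2 := hy ⟨tE, Subgroup.mem_center_iff.2 fun a => (htEc a).symm⟩
      fun e => ht1 (congrArg (fun a : Subgroup.center E => ((a.1 : ↥(Subgroup.centralizer ({t} : Set G))) : G)) e)
    exact Or.inr (congrArg Subtype.val (e1.trans e2.symm))
  have hcen : ∀ x : E, (∀ y, Commute x y) → x = 1 ∨ x = tE := fun x h =>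
    hcen' x (Subgroup.mem_center_iff.2 fun a => (h a).symm)
  have hcom : ∀ x y : E, x * y = y * x ∨ x * y = y * x * tE := by
    intro x y
    have h := Subgroup.commutator_mem_commutator (Subgroup.mem_top x⁻¹) (Subgroup.mem_top y⁻¹)
    rw [← commutator_def, hX.1.2.2] at h
    simp only [commutatorElement_def, inv_inv] at h
    rcases hcen' _ h with e | e
    · refine Or.inl ?_
      calc x * y = y * x * (x⁻¹ * y⁻¹ * x * y) := by group
        _ = y * x := by rw [e, mul_one]
    · refine Or.inr ?_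
      calc x * y = y * x * (x⁻¹ * y⁻¹ * x * y) := by group
        _ = y * x * tE := by rw [e]
  have hsq : ∀ x : E, x * x = 1 ∨ x * x = tE := fun x => by
    have := hcen' _ (Solv.extraspecial_pow_mem_center hX x)
    rwa [pow_two] at this
  obtain ⟨a₀, b₀, hab₀⟩ := a5_noncomm'
  obtain ⟨a₁, rfl⟩ := hπ a₀
  obtain ⟨b₁, rfl⟩ := hπ b₀
  obtain ⟨g, hgc, hgne⟩ := exists_commuting_conj ht (a := (a₁ : G)) (b := b₁) fun h => hab₀ (by
    rw [← map_mul, ← map_mul, show a₁ * b₁ = b₁ * a₁ from Subtype.ext h])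
  let t' : ↥(Subgroup.centralizer ({t} : Set G)) := ⟨g * t * g⁻¹, Subgroup.mem_centralizer_singleton_iff.2 hgc.symm.eq⟩
  obtain ⟨ε, hε, k, hk, hεk⟩ := hdec t'
  obtain ⟨q, r, hq, hr, hqr⟩ := exists_noncommuting_at hE htE2 htEc hcen hcom ⟨ε, hε⟩
  have hkE : ∀ x : E, Commute (x : ↥(Subgroup.centralizer ({t} : Set G))) k := fun x => (Subgroup.mem_centralizer_iff.1 hk x x.2)
  -- conjugates back into the centralizer
  let H : Subgroup E := Subgroup.centralizer {(⟨ε, hε⟩ : E)}
  have hH : ∀ x : H, Commute (g⁻¹ * (((x : E) : ↥(Subgroup.centralizer ({t} : Set G))) : G) * g) t := by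
    intro x
    have h1 : Commute ((x : E) : ↥(Subgroup.centralizer ({t} : Set G))) ε := congrArg Subtype.val (Subgroup.mem_centralizer_singleton_iff.1 x.2)
    have h2 : Commute (((x : E) : ↥(Subgroup.centralizer ({t} : Set G))) : G) (g * t * g⁻¹) := congrArg Subtype.val (hεk ▸ h1.mul_right (hkE x) :
      Commute ((x : E) : ↥(Subgroup.centralizer ({t} : Set G))) t').eq
    have h3 := (Commute.conj_iff g⁻¹).2 h2
    rwa [inv_inv, show g⁻¹ * (g * t * g⁻¹) * g = t by group] at h3
  let ψ : H →* ↥(Subgroup.centralizer ({t} : Set G)) :=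
    { toFun := fun x => ⟨g⁻¹ * (((x : E) : ↥(Subgroup.centralizer ({t} : Set G))) : G) * g, Subgroup.mem_centralizer_singleton_iff.2 (hH x).eq⟩
      map_one' := Subtype.ext (by simp)
      map_mul' := fun x y => Subtype.ext (by simp [mul_assoc]) }
  have hfour : ∀ x : H, π (ψ x) * π (ψ x) = 1 := fun x => a5_four' _ (by
    have h4 : x * x * (x * x) = 1 := Subtype.ext (by
      rcases hsq (x : E) with e | e <;> simp [e, htE2])
    rw [← map_mul, ← map_mul, ← map_mul, ← map_mul, h4, map_one, map_one])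
  let qH : H := ⟨q, Subgroup.mem_centralizer_singleton_iff.2 hq.eq⟩
  let rH : H := ⟨r, Subgroup.mem_centralizer_singleton_iff.2 hr.eq⟩
  have hcomm := a5_exp_two _ _ (hfour qH) (hfour rH) (by
    have h := hfour (qH * rH)
    simp only [map_mul] at h ⊢
    exact h)
  obtain ⟨ε₁, hε₁, k₁, hk₁, e₁⟩ := hdec (ψ qH)
  obtain ⟨ε₂, hε₂, k₂, hk₂, e₂⟩ := hdec (ψ rH)
  have hc₁ : ∀ x : ↥(Subgroup.centralizer ({t} : Set G)), x ∈ E → Commute x k₁ := fun x hx => Subgroup.mem_centralizer_iff.1 hk₁ x hx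
  have hc₂ : ∀ x : ↥(Subgroup.centralizer ({t} : Set G)), x ∈ E → Commute x k₂ := fun x hx => Subgroup.mem_centralizer_iff.1 hk₂ x hx
  set κ := k₁⁻¹ * k₂⁻¹ * k₁ * k₂
  have hκK : κ ∈ K := K.mul_mem (K.mul_mem (K.mul_mem (K.inv_mem hk₁) (K.inv_mem hk₂)) hk₁) hk₂
  have hκE : κ ∈ E := (hker _).1 (by
    have p1 : π k₁ = π (ψ qH) := by rw [e₁, map_mul, (hker _).2 hε₁, one_mul]
    have p2 : π k₂ = π (ψ rH) := by rw [e₂, map_mul, (hker _).2 hε₂, one_mul]
    simp only [κ, map_mul, map_inv, p1, p2]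
    rw [mul_assoc, hcomm]
    group)
  have hκ : κ = 1 ∨ κ = tC := (hcen ⟨κ, hκE⟩ fun y =>
    Subtype.ext (Subgroup.mem_centralizer_iff.1 hκK y y.2).symm).imp (congrArg Subtype.val) (congrArg Subtype.val)
  have hkk : k₁ * k₂ = k₂ * k₁ ∨ k₁ * k₂ = k₂ * k₁ * tC := by
    rcases hκ with h | h
    · exact Or.inl (by calc k₁ * k₂ = k₂ * k₁ * κ := by simp only [κ]; group
                          _ = _ := by rw [h, mul_one])
    · exact Or.inr (by calc k₁ * k₂ = k₂ * k₁ * κ := by simp only [κ]; group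
                          _ = _ := by rw [h])
  have hee : ε₁ * ε₂ = ε₂ * ε₁ ∨ ε₁ * ε₂ = ε₂ * ε₁ * tC :=
    (hcom ⟨ε₁, hε₁⟩ ⟨ε₂, hε₂⟩).imp (congrArg Subtype.val) (congrArg Subtype.val)
  have hprod : ψ qH * ψ rH = ψ rH * ψ qH ∨ ψ qH * ψ rH = ψ rH * ψ qH * tC := by
    have l : ψ qH * ψ rH = ε₁ * ε₂ * (k₁ * k₂) := by rw [e₁, e₂, (hc₁ _ hε₂).symm.mul_mul_mul_comm]
    have l' : ψ rH * ψ qH = ε₂ * ε₁ * (k₂ * k₁) := by rw [e₁, e₂, (hc₂ _ hε₁).symm.mul_mul_mul_comm]
    have htc' : ∀ x : ↥(Subgroup.centralizer ({t} : Set G)), tC * x = x * tC := htc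
    have hT : tC * tC = 1 := Subtype.ext htt
    rw [l, l']
    rcases hee with h | h <;> rcases hkk with h' | h' <;> rw [h, h']
    · exact Or.inl rfl
    · exact Or.inr (by simp only [mul_assoc])
    · exact Or.inr (by simp only [mul_assoc]; rw [htc' (k₂ * k₁)]; simp only [mul_assoc])
    · refine Or.inl ?_
      calc ε₂ * ε₁ * tC * (k₂ * k₁ * tC) = ε₂ * ε₁ * (tC * (k₂ * k₁)) * tC := by simp only [mul_assoc]
        _ = ε₂ * ε₁ * ((k₂ * k₁) * tC) * tC := by rw [htc' (k₂ * k₁)]
        _ = ε₂ * ε₁ * (k₂ * k₁) * (tC * tC) := by simp only [mul_assoc]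
        _ = _ := by rw [hT, mul_one]
  have hqr' := (hcom q r).resolve_left hqr
  have hG := congrArg (fun x : E => g⁻¹ * ((x : ↥(Subgroup.centralizer ({t} : Set G))) : G) * g) hqr'
  simp only [Subgroup.coe_mul] at hG
  rcases hprod with h | h
  · refine hqr (Subtype.ext (Subtype.ext ?_))
    have h' := congrArg (fun x : ↥(Subgroup.centralizer ({t} : Set G)) => g * (x : G) * g⁻¹) h
    simpa [ψ, qH, rH, mul_assoc] using h'
  · refine hgne ?_
    have h' := congrArg (fun x : ↥(Subgroup.centralizer ({t} : Set G)) => (x : G)) h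
    simp only [ψ, qH, rH, Subgroup.coe_mul, MonoidHom.coe_mk, OneHom.coe_mk] at h'
    have h'' : g⁻¹ * t * g = t := by
      have hl : g⁻¹ * ((q : ↥(Subgroup.centralizer ({t} : Set G))) : G) * g * (g⁻¹ * ((r : ↥(Subgroup.centralizer ({t} : Set G))) : G) * g) =
          g⁻¹ * ((r : ↥(Subgroup.centralizer ({t} : Set G))) : G) * g * (g⁻¹ * ((q : ↥(Subgroup.centralizer ({t} : Set G))) : G) * g) * (g⁻¹ * t * g) := by
        calc _ = g⁻¹ * (((q : ↥(Subgroup.centralizer ({t} : Set G))) : G) * ((r : ↥(Subgroup.centralizer ({t} : Set G))) : G)) * g := by group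
          _ = g⁻¹ * (((r : ↥(Subgroup.centralizer ({t} : Set G))) : G) * ((q : ↥(Subgroup.centralizer ({t} : Set G))) : G) * t) * g := by
            have h3 := congrArg (fun x : E => ((x : ↥(Subgroup.centralizer ({t} : Set G))) : G)) hqr'
            simp only [Subgroup.coe_mul] at h3
            rw [h3]
          _ = _ := by group
      exact mul_left_cancel (hl.symm.trans h')
    calc g * t * g⁻¹ = g * (g⁻¹ * t * g) * g⁻¹ := by rw [h'']
      _ = t := by group

end Cfsg.Agent.Spor.JThree
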