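import Mathlib
import Cfsg.Agent.Lib.Spor.JThree.Setup
import Cfsg.Agent.Lib.Spor.JThree.Exclude
import Cfsg.Agent.Lib.Spor.JThree.Induced
import Cfsg.Agent.Lib.Spor.JThree.Order

/-!
# Janko's theorem on the order of his third group
-/

set_option autoImplicit false
set_option linter.style.haveILetI false

namespace Cfsg.Agent.Spor.JThree

open Cfsg.Agent.Lie Cfsg.Agent.Lie.HJType

universe u

variable {G : Type u} [Group G] [Finite G] [IsSimpleGroup G]

/-- one class of involutions and centralizer `2^{1+4}.A₅`: the order -/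
theorem card_of_one_class (hone : ∀ x y : G, orderOf x = 2 → orderOf y = 2 → IsConj x y) (t : G) (ht : orderOf t = 2)
    (E : Subgroup (Subgroup.centralizer ({t} : Set G))) [E.Normal] (hE : Nat.card E = 32) (hX : Cfsg.IsExtraspecial 2 E)
    (e : (Subgroup.centralizer ({t} : Set G)) ⧸ E ≃* alternatingGroup (Fin 5)) : Nat.card G = 50232960 := by
  classical
  obtain ⟨hS, hc, hq⟩ := J2Unique.setting_of_normal t ht E hX hE (core_self_cent t ht E hE hX e) e
  obtain ⟨F⟩ := exists_frame_of hS hc hq (exists_noncentral_invol hS hc)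
  have hout := exists_outer_invol F fun x hx => hone t x ht hx
  obtain ⟨K⟩ := exists_coord F hout (card_centralizer F)
  obtain ⟨ι, hι, z, o, π, d, S⟩ := exists_sys ht K fun x hx => hone t x ht hx
  exact order_eq S

/-- the dichotomy -/
theorem card_dichotomy (t : G) (ht : orderOf t = 2)
    (E : Subgroup (Subgroup.centralizer ({t} : Set G))) [E.Normal] (hE : Nat.card E = 32) (hX : Cfsg.IsExtraspecial 2 E)
    (e : (Subgroup.centralizer ({t} : Set G)) ⧸ E ≃* alternatingGroup (Fin 5)) :
    Nat.card G = 604800 ∨ Nat.card G = 50232960 := by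
  by_cases hone : ∀ x y : G, orderOf x = 2 → orderOf y = 2 → IsConj x y
  · exact Or.inr (card_of_one_class hone t ht E hE hX e)
  · push Not at hone
    obtain ⟨iso⟩ := J2Unique.isoJ2 (J2Unique.hyp_of_simple t ht E hX hE (core_self_cent t ht E hE hX e) e hone)
    exact Or.inl ((Nat.card_congr iso.toEquiv).trans J2Cert.card_J2)

end Cfsg.Agent.Spor.JThree
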