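import Mathlib
import Cfsg.Agent.Lib.Lead.CentDEight
import Cfsg.Agent.Lib.Char.AltStem
import Cfsg.Agent.Lib.Char.BSW.Norm
import Cfsg.Agent.Lib.Spor.TransvectionLarge

/-!
A group with a central subgroup of order three in which every involution has a centralizer of order 24
and one of them contains a dihedral group of order eight: it has order 1080 and elementary abelian
subgroups of order 27.
-/

set_option autoImplicit false
set_option linter.style.haveILetI false
set_option linter.unusedSectionVars false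

namespace Cfsg.Agent.Spor.JThree

open Cfsg DihedralGroup
open scoped commutatorElement

universe u

theorem a6_pow_three : ∀ g : alternatingGroup (Fin 6), g ^ 9 = 1 → g ^ 3 = 1 := by decide +kernel

theorem a6_no_centre : ∀ g : Equiv.Perm (Fin 4), g = Equiv.swap 0 1 → Fintype.card {x // x * g = g * x} = 4 := by
  decide +kernel

theorem a6_noncomm : ¬ ∀ u v : ↥(alternatingGroup (Fin 6)), u * v = v * u := fun h =>
  absurd (h ⟨Equiv.swap 0 1 * Equiv.swap 1 2, Equiv.Perm.mem_alternatingGroup.2 (by decide +kernel)⟩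
    ⟨Equiv.swap 1 2 * Equiv.swap 2 3, Equiv.Perm.mem_alternatingGroup.2 (by decide +kernel)⟩) (by decide +kernel)

theorem sl32_card : Nat.card (Matrix.SpecialLinearGroup (Fin 3) (ZMod 2)) = 168 := by
  rw [← Nat.card_congr (TransLarge.glEquivSL 3).toEquiv, Matrix.card_GL_field, ZMod.card,
    Fin.prod_univ_three]
  rfl

theorem s5_swap : Fintype.card {x : Equiv.Perm (Fin 5) // x * Equiv.swap 0 1 = Equiv.swap 0 1 * x} = 12 := by
  decide +kernel

variable {K : Type u} [Group K] [Finite K]

theorem card_centralizer_transport {M : Type*} [Group M] [Finite M] (φ : K ≃* M) (m : M) :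
    Nat.card (Subgroup.centralizer ({φ.symm m} : Set K)) = Nat.card {x : M // x * m = m * x} :=
  Nat.card_congr
    { toFun := fun x => ⟨φ x, by
        simpa using congrArg φ (Subgroup.mem_centralizer_singleton_iff.1 x.2)⟩
      invFun := fun x => ⟨φ.symm x, Subgroup.mem_centralizer_singleton_iff.2 (by
        rw [← map_mul, x.2, map_mul])⟩
      left_inv := fun x => Subtype.ext (φ.symm_apply_apply _)
      right_inv := fun x => Subtype.ext (φ.apply_symm_apply _) }

/-- all involution centralizers dihedral of order eight, and no seven: the alternating group of degree six -/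
theorem iso_a6 (z : K) (hz : orderOf z = 2) (e : Subgroup.centralizer ({z} : Set K) ≃* DihedralGroup 4)
    (hall : ∀ x : K, orderOf x = 2 → Nat.card (Subgroup.centralizer ({x} : Set K)) = 8)
    (h7 : ¬ 7 ∣ Nat.card K) : Nonempty (K ≃* ↥(alternatingGroup (Fin 6))) := by
  classical
  rcases Lead.CentDEight.classification hz e with h | h | h | h | h
  · exfalso
    -- the odd core is centralized by the Klein four-group
    obtain ⟨a, hae⟩ : ∃ a : Subgroup.centralizer ({z} : Set K), e a = sr 0 := ⟨e.symm (sr 0), e.apply_symm_apply _⟩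
    have ha2 : orderOf (a : K) = 2 := by
      rw [Subgroup.orderOf_coe, ← MulEquiv.orderOf_eq e, hae, orderOf_sr]
    have haa : (a : K) * a = 1 := by rw [← pow_two, ← ha2, pow_orderOf_eq_one]
    have hzz : z * z = 1 := by rw [← pow_two, ← hz, pow_orderOf_eq_one]
    have haz : (a : K) * z = z * a := Subgroup.mem_centralizer_singleton_iff.1 a.2
    letI : Fintype K := Fintype.ofFinite K
    haveI : (Cfsg.oddCore K).Normal := Solv.pPrimeCore_normal 2
    have hodd : Odd (Nat.card (Cfsg.oddCore K)) := Char.card_oddCore_odd K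
    have hfix : ∀ v : K, orderOf v = 2 → ∀ o ∈ Cfsg.oddCore K, v * o = o * v → o = 1 := by
      intro v hv o ho hc
      have h1 : orderOf o ∣ 8 := by
        rw [← hall v hv, ← Subgroup.orderOf_mk o (Subgroup.mem_centralizer_singleton_iff.2 hc.symm)]
        exact orderOf_dvd_natCard _
      have h2 : orderOf o ∣ Nat.card (Cfsg.oddCore K) := by
        rw [← Subgroup.orderOf_mk o ho]; exact orderOf_dvd_natCard _
      exact orderOf_eq_one_iff.1 (Nat.eq_one_of_dvd_coprimes (Nat.Coprime.pow_left 3
        (Nat.coprime_two_left.2 hodd)) (show orderOf o ∣ 2 ^ 3 from h1) h2)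
    have hinv : ∀ v : K, orderOf v = 2 → ∀ o ∈ Cfsg.oddCore K, v * o * v⁻¹ = o⁻¹ := by
      intro v hv
      exact Char.BSW.fpf_inverts (C := Cfsg.oddCore K) (by rw [← pow_two, ← hv, pow_orderOf_eq_one])
        (by rw [Subgroup.normalizer_eq_top]; exact Subgroup.mem_top v) fun c hc h => hfix v hv c hc (mul_inv_eq_iff_eq_mul.1 h)
    have haz2 : orderOf ((a : K) * z) = 2 := by
      refine orderOf_eq_prime (by rw [pow_two, mul_assoc, ← mul_assoc z, ← haz, mul_assoc (a : K) z z, hzz, mul_one, haa]) ?_
      intro e1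
      have e2 : (a : K) = z := mul_right_cancel (e1.trans hzz.symm)
      have e3 : e a = e ⟨z, Subgroup.mem_centralizer_singleton_iff.2 rfl⟩ := congrArg e (Subtype.ext e2)
      rw [hae, Lead.CentDEight.ez hz e] at e3
      exact absurd e3 (by decide)
    have hO : Cfsg.oddCore K = ⊥ := by
      refine (Subgroup.eq_bot_iff_forall _).2 fun o ho => hfix _ haz2 o ho ?_
      have h1 := hinv _ ha2 o ho
      have h2 := hinv _ hz o ho
      have h3 : (a : K) * z * o * ((a : K) * z)⁻¹ = o := by
        rw [show (a : K) * z * o * ((a : K) * z)⁻¹ = a * (z * o * z⁻¹) * (a : K)⁻¹ by group, h2,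
          ← conj_inv, h1, inv_inv]
      exact mul_inv_eq_iff_eq_mul.1 h3
    rw [hO, sup_bot_eq] at h
    have hsub : Subgroup.centralizer ({(a : K)} : Set K) ≃ {x : DihedralGroup 4 // x * sr 0 = sr 0 * x} :=
      { toFun := fun x => ⟨e ⟨x, h.ge (Subgroup.mem_top _)⟩, by
          rw [← hae, ← map_mul, ← map_mul]
          exact congrArg e (Subtype.ext (Subgroup.mem_centralizer_singleton_iff.1 x.2))⟩
        invFun := fun x => ⟨(e.symm x : K), Subgroup.mem_centralizer_singleton_iff.2 (by
          have := congrArg (fun u => (e.symm u : K)) x.2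
          simpa [← hae] using this)⟩
        left_inv := fun x => Subtype.ext (by simp)
        right_inv := fun x => Subtype.ext (by simp) }
    have h4 := hall _ ha2
    rw [Nat.card_congr hsub, Nat.card_eq_fintype_card] at h4
    exact absurd h4 (by decide)
  · exfalso
    obtain ⟨φ⟩ := h
    have h2 : orderOf (φ.symm (Equiv.swap (0 : Fin 4) 1)) = 2 := by
      rw [MulEquiv.orderOf_eq]; exact orderOf_eq_prime (by decide +kernel) (by decide)
    have h4 := hall _ h2
    rw [card_centralizer_transport, Nat.card_eq_fintype_card, a6_no_centre _ rfl] at h4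
    omega
  · exfalso
    obtain ⟨φ⟩ := h
    have h2 : orderOf (φ.symm (Equiv.swap (0 : Fin 5) 1)) = 2 := by
      rw [MulEquiv.orderOf_eq]; exact orderOf_eq_prime (by decide +kernel) (by decide)
    have h4 := hall _ h2
    rw [card_centralizer_transport, Nat.card_eq_fintype_card, s5_swap] at h4
    omega
  · exfalso
    obtain ⟨φ⟩ := h
    refine h7 ?_
    rw [Nat.card_congr φ.toEquiv, sl32_card]
    norm_num
  · exact h

/-- the central extension -/
theorem cover_structure (y t : K) (hy : orderOf y = 3) (hyc : ∀ k, k * y = y * k) (ht : orderOf t = 2)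
    (f : DihedralGroup 4 →* K) (hf : Function.Injective f) (hft : ∀ d, f d * t = t * f d)
    (hall : ∀ x : K, orderOf x = 2 → Nat.card (Subgroup.centralizer ({x} : Set K)) = 24)
    (h7 : ¬ 7 ∣ Nat.card K) : Nat.card K = 1080 ∧ ∀ P : Subgroup K, Nat.card P = 27 →
      (∀ a ∈ P, ∀ b ∈ P, a * b = b * a) → ∀ a ∈ P, a ^ 3 = 1 := by
  classical
  haveI : Fact (Nat.Prime 2) := ⟨Nat.prime_two⟩
  haveI : Fact (Nat.Prime 3) := ⟨Nat.prime_three⟩
  set Y := Subgroup.zpowers y with hY
  have hYc : ∀ k : K, ∀ w ∈ Y, k * w = w * k := by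
    intro k w hw
    obtain ⟨j, rfl⟩ := Subgroup.mem_zpowers_iff.1 hw
    exact (Commute.zpow_right (hyc k) j).eq
  haveI : Y.Normal := ⟨fun w hw g => by rw [hYc g w hw, mul_inv_cancel_right]; exact hw⟩
  have hY3 : Nat.card Y = 3 := by rw [Nat.card_zpowers, hy]
  have hcube : ∀ w ∈ Y, w ^ 3 = 1 := fun w hw => by
    have h := pow_card_eq_one' (G := Y) (x := ⟨w, hw⟩)
    rw [hY3] at h
    exact congrArg Subtype.val h
  have htwo : ∀ w ∈ Y, w * w = 1 → w = 1 := fun w hw h => by
    have := hcube w hw
    rwa [pow_succ, pow_two, h, one_mul] at this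
  let π := QuotientGroup.mk' Y
  -- centralizers of involutions in the quotient
  have hcen : ∀ x : K, orderOf x = 2 → ∀ k : K, Commute (π k) (π x) ↔ Commute k x := by
    intro x hx k
    refine ⟨fun h => ?_, fun h => h.map π⟩
    have hm : x⁻¹ * (k * x * k⁻¹) ∈ Y := by
      rw [← QuotientGroup.eq_one_iff]
      show π (x⁻¹ * (k * x * k⁻¹)) = 1
      rw [map_mul, map_mul, map_mul, map_inv, map_inv, h.eq, mul_inv_cancel_right, inv_mul_cancel]
    have hxx : x * x = 1 := by rw [← pow_two, ← hx, pow_orderOf_eq_one]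
    obtain ⟨w, hw⟩ : ∃ w, w = x⁻¹ * (k * x * k⁻¹) := ⟨_, rfl⟩
    have e : k * x * k⁻¹ = x * w := by rw [hw, mul_inv_cancel_left]
    have h1 : x * w * (x * w) = 1 := by rw [← e, show k * x * k⁻¹ * (k * x * k⁻¹) = k * (x * x) * k⁻¹ by group, hxx, mul_one, mul_inv_cancel]
    have hw1 : w = 1 := htwo w (hw ▸ hm) (by
      rw [mul_assoc x w, ← mul_assoc w x, ← hYc x w (hw ▸ hm), ← mul_assoc, ← mul_assoc, hxx, one_mul] at h1
      exact h1)
    rw [hw1, mul_one] at e
    exact mul_inv_eq_iff_eq_mul.1 e
  have hlift : ∀ q : K ⧸ Y, orderOf q = 2 → ∃ x : K, orderOf x = 2 ∧ π x = q := by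
    intro q hq
    obtain ⟨x, rfl⟩ := QuotientGroup.mk'_surjective Y q
    have hqq : π x * π x = 1 := by rw [← pow_two, ← hq, pow_orderOf_eq_one]
    have hmem : x * x ∈ Y := (QuotientGroup.eq_one_iff _).1 (by rw [← QuotientGroup.mk'_apply, map_mul]; exact hqq)
    refine ⟨x * (x * x), orderOf_eq_prime ?_ ?_, by rw [map_mul, map_mul, hqq, mul_one]⟩
    · rw [pow_two, show x * (x * x) * (x * (x * x)) = (x * x) ^ 3 by simp only [pow_succ, pow_zero, one_mul, mul_assoc]]
      exact hcube _ hmem
    · intro e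
      have : π x = 1 := by
        have := congrArg π e
        rwa [map_mul, map_mul, hqq, mul_one, map_one] at this
      rw [this, orderOf_one] at hq
      omega
  have hcard8 : ∀ x : K, orderOf x = 2 → Nat.card (Subgroup.centralizer ({π x} : Set (K ⧸ Y))) = 8 := by
    intro x hx
    have hmap : (Subgroup.centralizer ({x} : Set K)).map π = Subgroup.centralizer ({π x} : Set (K ⧸ Y)) := by
      ext q
      obtain ⟨k, rfl⟩ := QuotientGroup.mk'_surjective Y q
      rw [Subgroup.mem_centralizer_singleton_iff]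
      constructor
      · rintro ⟨c, hc, e⟩
        rw [← e]
        exact ((show Commute c x from Subgroup.mem_centralizer_singleton_iff.1 hc).map π).eq
      · exact fun h => ⟨k, Subgroup.mem_centralizer_singleton_iff.2 ((hcen x hx k).1 h).eq, rfl⟩
    have hYle : π.ker ≤ Subgroup.centralizer ({x} : Set K) := by
      rw [QuotientGroup.ker_mk']
      exact fun w hw => Subgroup.mem_centralizer_singleton_iff.2 (hYc x w hw).symm
    have h1 := Subgroup.card_mul_index ((π.ker).subgroupOf (Subgroup.centralizer ({x} : Set K)))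
    rw [Nat.card_congr (Subgroup.subgroupOfEquivOfLe hYle).toEquiv, QuotientGroup.ker_mk', hY3, hall x hx] at h1
    have h2 : ((π.subgroupMap (Subgroup.centralizer ({x} : Set K))).ker).index = Nat.card ((Subgroup.centralizer ({x} : Set K)).map π) := by
      rw [Subgroup.index_ker, MonoidHom.range_eq_top.2 (π.subgroupMap_surjective _), Subgroup.card_top]
    rw [Subgroup.ker_subgroupMap, QuotientGroup.ker_mk'] at h2
    rw [← hmap, ← h2]
    rw [QuotientGroup.ker_mk'] at *
    omega
  have h2t : orderOf (π t) = 2 := by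
    refine orderOf_eq_prime (by rw [← map_pow, ← ht, pow_orderOf_eq_one, map_one]) fun e => ?_
    have h1 := htwo t ((QuotientGroup.eq_one_iff t).1 e) (by rw [← pow_two, ← ht, pow_orderOf_eq_one])
    rw [h1, orderOf_one] at ht
    omega
  let g : DihedralGroup 4 →* Subgroup.centralizer ({π t} : Set (K ⧸ Y)) :=
    (π.comp f).codRestrict _ fun d => Subgroup.mem_centralizer_singleton_iff.2 (by
      show π (f d) * π t = π t * π (f d)
      rw [← map_mul, hft, map_mul])
  have hg : Function.Injective g := by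
    refine (injective_iff_map_eq_one g).2 fun d hd => hf ?_
    have hmem : f d ∈ Y := (QuotientGroup.eq_one_iff _).1 (congrArg Subtype.val hd)
    have h1 := hcube _ hmem
    have h4 : ∀ x : DihedralGroup 4, x ^ 4 = 1 := by decide
    rw [map_one]
    calc f d = f d ^ 4 * ((f d ^ 3)⁻¹) := by group
      _ = 1 := by rw [← map_pow f d 4, h4, map_one, h1, inv_one, one_mul]
  let e : Subgroup.centralizer ({π t} : Set (K ⧸ Y)) ≃* DihedralGroup 4 :=
    (MulEquiv.ofBijective g ((Nat.bijective_iff_injective_and_card g).2 ⟨hg, by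
      rw [DihedralGroup.nat_card, hcard8 t ht]⟩)).symm
  obtain ⟨φ⟩ := iso_a6 (π t) h2t e (fun q hq => by
    obtain ⟨x, hx, rfl⟩ := hlift q hq; exact hcard8 x hx)
    (fun h => h7 (h.trans (Subgroup.card_quotient_dvd_card Y)))
  have hK : Nat.card K = 1080 := by
    rw [Subgroup.card_eq_card_quotient_mul_card_subgroup Y, hY3, Nat.card_congr φ.toEquiv,
      nat_card_alternatingGroup, Nat.card_fin]
    rfl
  refine ⟨hK, fun P hP hPc a ha => ?_⟩
  -- transfer into the subgroup
  haveI : IsMulCommutative P := ⟨⟨fun u v => Subtype.ext (hPc u u.2 v v.2)⟩⟩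
  have hPi : P.index = 40 := by
    have := P.card_mul_index
    rw [hP, hK] at this
    omega
  have hYP : Y ≤ P := by
    have hp : IsPGroup 3 ↥(P ⊔ Y) := (IsPGroup.of_card (n := 3) (by rw [hP]; norm_num)).to_sup_of_normal_right
      (IsPGroup.of_card (n := 1) (by rw [hY3, pow_one]))
    obtain ⟨k, hk⟩ := hp.exists_card_eq
    have hd : 3 ^ k ∣ 3 ^ 3 * 40 := by
      have := Subgroup.card_subgroup_dvd_card (P ⊔ Y)
      rwa [hk, hK] at this
    have hk3 : 3 ^ k ∣ 3 ^ 3 := (Nat.Coprime.pow_left k (by norm_num)).dvd_of_dvd_mul_right hd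
    rw [Subgroup.eq_of_le_of_card_ge (le_sup_left : P ≤ P ⊔ Y) (by rw [hk, hP]; exact Nat.le_of_dvd (by norm_num) hk3)]
    exact le_sup_right
  have hyD : ∀ w ∈ Y, w ∈ commutator K → w = 1 := fun w hw hwc => by
    have h1 := Char.transfer_central_pow P inferInstance
      (Subgroup.mem_center_iff.2 fun k => hYc k w hw) hwc (hYP hw)
    rw [hPi, show 40 = 3 * 13 + 1 from rfl, pow_succ, pow_mul, hcube w hw, one_pow, one_mul] at h1
    exact h1
  have hperf : ∀ q : K ⧸ Y, q ∈ (commutator K).map π := by
    intro q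
    haveI : IsSimpleGroup ↥(alternatingGroup (Fin 6)) := alternatingGroup.isSimpleGroup (by rw [Nat.card_fin]; norm_num)
    have h1 : commutator ↥(alternatingGroup (Fin 6)) = ⊤ := by
      rcases (inferInstance : (commutator ↥(alternatingGroup (Fin 6))).Normal).eq_bot_or_eq_top with h | h
      · exfalso
        have hc : ∀ u v : ↥(alternatingGroup (Fin 6)), u * v = v * u := fun u v => by
          have hm : ⁅u, v⁆ ∈ commutator ↥(alternatingGroup (Fin 6)) :=
            Subgroup.commutator_mem_commutator (Subgroup.mem_top _) (Subgroup.mem_top _)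
          rw [h, Subgroup.mem_bot] at hm
          exact commutatorElement_eq_one_iff_mul_comm.1 hm
        exact a6_noncomm hc
      · exact h
    have h2 : (commutator K).map (φ.toMonoidHom.comp π) = ⊤ := by
      rw [commutator_def, Subgroup.map_commutator,
        Subgroup.map_top_of_surjective (φ.toMonoidHom.comp π) (φ.surjective.comp (QuotientGroup.mk'_surjective Y))]
      exact h1
    obtain ⟨c, hc, e⟩ := (h2.symm ▸ Subgroup.mem_top (φ q) : φ q ∈ (commutator K).map (φ.toMonoidHom.comp π))
    exact ⟨c, hc, φ.injective e⟩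
  obtain ⟨c, hc, hca⟩ := hperf (π a)
  have hw : c⁻¹ * a ∈ Y := QuotientGroup.eq.1 hca
  obtain ⟨w, hwdef⟩ : ∃ w, w = c⁻¹ * a := ⟨_, rfl⟩
  have haw : a = c * w := by rw [hwdef, mul_inv_cancel_left]
  have ha3 : a ^ 3 = c ^ 3 := by
    rw [haw, (show Commute c w from hYc c w (hwdef ▸ hw)).mul_pow, hcube w (hwdef ▸ hw), mul_one]
  have hq : π a ^ 3 = 1 := by
    have h27 : a ^ 27 = 1 := by
      have h := pow_card_eq_one' (G := P) (x := ⟨a, ha⟩)
      rw [hP] at h
      exact congrArg Subtype.val h
    apply φ.injective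
    rw [map_pow, map_one]
    refine a6_pow_three _ ?_
    have h9 : φ (π a) ^ 27 = 1 := by rw [← map_pow, ← map_pow, h27, map_one, map_one]
    have h5 : φ (π a) ^ Nat.card ↥(alternatingGroup (Fin 6)) = 1 := pow_card_eq_one'
    rw [nat_card_alternatingGroup, Nat.card_fin] at h5
    rw [show (9 : ℕ) = Nat.gcd 27 (Nat.factorial 6 / 2) from rfl]
    exact pow_gcd_eq_one.2 ⟨h9, h5⟩
  rw [ha3]
  refine hyD _ ?_ ((commutator K).pow_mem hc 3)
  rw [← ha3, ← QuotientGroup.eq_one_iff]
  exact (map_pow π a 3).trans hq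

end Cfsg.Agent.Spor.JThree
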