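import Mathlib
import Cfsg.Agent.Lib.Solv.PGroupPhi
import Cfsg.Agent.Lib.Fusion.PGroupAux

/-!
A group of order 243 does not have both an element of order three with centralizer of order nine and an
elementary abelian subgroup of order 27.
-/

set_option autoImplicit false
set_option linter.style.haveILetI false
set_option linter.unusedSectionVars false

namespace Cfsg.Agent.Spor.JThree

open Cfsg.Agent.Solv
open scoped commutatorElement

universe u

variable {S : Type u} [Group S] [Finite S]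

theorem eq_top_of_sup_derived (hp : IsPGroup 3 S) {K : Subgroup S} (h : K ⊔ commutator S = ⊤) : K = ⊤ := by
  haveI : Fact (Nat.Prime 3) := ⟨Nat.prime_three⟩
  exact frattini_nongenerating (eq_top_iff.2 (h ▸ sup_le_sup_left (commutator_le_frattini_pgroup hp) K))

theorem card_le_of_lt_three_pow (hp : IsPGroup 3 S) (H : Subgroup S) {n : ℕ} (h : Nat.card H < 3 ^ (n + 1)) :
    Nat.card H ≤ 3 ^ n := by
  haveI : Fact (Nat.Prime 3) := ⟨Nat.prime_three⟩
  obtain ⟨k, hk⟩ := (hp.to_subgroup H).exists_card_eq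
  rw [hk] at h ⊢
  exact Nat.pow_le_pow_right (by norm_num) (Nat.lt_succ_iff.1 ((Nat.pow_lt_pow_iff_right (by norm_num)).1 h))

/-- the derived subgroup of order 27 is commutative -/
theorem derived_comm (hp : IsPGroup 3 S) (hD : Nat.card (commutator S) = 27) :
    ∀ a ∈ commutator S, ∀ b ∈ commutator S, a * b = b * a := by
  haveI : Fact (Nat.Prime 3) := ⟨Nat.prime_three⟩
  set D := commutator S with hDdef
  haveI : Nontrivial D := Finite.one_lt_card_iff_nontrivial.1 (by omega)
  -- a central element in it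
  obtain ⟨c, hcD, hc1, hcZ⟩ := Fusion.exists_central_of_normal hp D ((Subgroup.ne_bot_iff_exists_ne_one).2 (by
    obtain ⟨x, hx⟩ := exists_ne (1 : D)
    exact ⟨x, hx⟩))
  set C := Subgroup.zpowers c with hC
  have hCz : C ≤ Subgroup.center S := Subgroup.zpowers_le.2 hcZ
  haveI : C.Normal := ⟨fun n hn g => by
    have := Subgroup.mem_center_iff.1 (hCz hn) g
    rwa [this, mul_inv_cancel_right]⟩
  have hCD : C ≤ D := Subgroup.zpowers_le.2 hcD
  by_cases hlt : D ≤ Subgroup.center S
  · exact fun a ha b _ => (Subgroup.mem_center_iff.1 (hlt ha) b).symm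
  by_cases hDC : D ≤ C
  · exact absurd (hDC.trans hCz) hlt
  -- an element of the second centre in it
  obtain ⟨l, hlD, hlC, hl⟩ : ∃ l, l ∈ D ∧ l ∉ C ∧ ∀ s, ⁅l, s⁆ ∈ C := by
    have hp' := hp.to_quotient C
    have hne : D.map (QuotientGroup.mk' C) ≠ ⊥ := fun e => hDC (by
      rwa [Subgroup.map_eq_bot_iff, QuotientGroup.ker_mk'] at e)
    haveI : (D.map (QuotientGroup.mk' C)).Normal :=
      Subgroup.Normal.map inferInstance _ (QuotientGroup.mk'_surjective C)
    obtain ⟨x, hxD, hx1, hx⟩ := Fusion.exists_central_of_normal hp' _ hne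
    obtain ⟨l, hl, rfl⟩ := Subgroup.mem_map.1 hxD
    refine ⟨l, hl, fun e => hx1 ((QuotientGroup.eq_one_iff l).2 e), fun s => ?_⟩
    rw [← QuotientGroup.eq_one_iff, ← QuotientGroup.mk'_apply, map_commutatorElement]
    exact commutatorElement_eq_one_iff_mul_comm.2 (Subgroup.mem_center_iff.1 hx _).symm
  -- it commutes with the derived subgroup
  have hlc : ∀ d ∈ D, Commute d l := by
    intro d hd
    have h1 : ⁅⁅(⊤ : Subgroup S), Subgroup.zpowers l⁆, (⊤ : Subgroup S)⁆ = ⊥ := by
      refine eq_bot_iff.2 ?_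
      rw [Subgroup.commutator_le]
      intro a ha b _
      have haC : a ∈ C := by
        refine (show ⁅(⊤ : Subgroup S), Subgroup.zpowers l⁆ ≤ C from ?_) ha
        rw [Subgroup.commutator_le]
        intro u _ v hv
        obtain ⟨j, rfl⟩ := Subgroup.mem_zpowers_iff.1 hv
        rw [← QuotientGroup.eq_one_iff, ← QuotientGroup.mk'_apply, map_commutatorElement, map_zpow,
          commutatorElement_eq_one_iff_commute]
        refine Commute.zpow_right ?_ j
        rw [← commutatorElement_eq_one_iff_commute, ← map_commutatorElement, QuotientGroup.mk'_apply,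
          QuotientGroup.eq_one_iff, ← commutatorElement_inv]
        exact C.inv_mem (hl u)
      rw [Subgroup.mem_bot, commutatorElement_eq_one_iff_mul_comm]
      exact (Subgroup.mem_center_iff.1 (hCz haC) b).symm
    have h2 : ⁅⁅Subgroup.zpowers l, (⊤ : Subgroup S)⁆, (⊤ : Subgroup S)⁆ = ⊥ := by
      rw [Subgroup.commutator_comm (Subgroup.zpowers l)]; exact h1
    have h := Subgroup.commutator_commutator_eq_bot_of_rotate h1 h2
    have : ⁅d, l⁆ ∈ (⊥ : Subgroup S) := h ▸ Subgroup.commutator_mem_commutator (by rwa [← commutator_def]) (Subgroup.mem_zpowers l)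
    exact commutatorElement_eq_one_iff_commute.1 (Subgroup.mem_bot.1 this)
  set Z := Subgroup.center D with hZ
  have hbig : 9 ≤ Nat.card Z := by
    have hcZ' : (⟨c, hcD⟩ : D) ∈ Z := Subgroup.mem_center_iff.2 fun d =>
      Subtype.ext (Subgroup.mem_center_iff.1 hcZ d)
    have hlZ : (⟨l, hlD⟩ : D) ∈ Z := Subgroup.mem_center_iff.2 fun d => Subtype.ext (hlc d d.2).eq
    by_contra h9
    obtain ⟨k, hk⟩ := ((hp.to_subgroup D).to_subgroup Z).exists_card_eq
    have hk1 : Nat.card Z ∣ 3 := by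
      rcases Nat.lt_or_ge k 2 with h | h
      · exact hk ▸ (Nat.pow_dvd_pow 3 (Nat.le_of_lt_succ h)).trans (by norm_num)
      · have : 3 ^ 2 ≤ 3 ^ k := Nat.pow_le_pow_right (by norm_num) h
        omega
    have hcard3 : Nat.card Z = 3 := ((Nat.dvd_prime Nat.prime_three).1 hk1).resolve_left fun e => by
      haveI := (Nat.card_eq_one_iff_unique.1 e).1
      exact hc1 (congrArg (fun x : Z => ((x : D) : S)) (Subsingleton.elim ⟨_, hcZ'⟩ (1 : Z)))
    have htop := zpowers_eq_top_of_prime_card hcard3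
      (g := (⟨_, hcZ'⟩ : Z)) (fun e => hc1 (congrArg (fun x : Z => ((x : D) : S)) e))
    obtain ⟨j, hj⟩ := Subgroup.mem_zpowers_iff.1 (htop.symm ▸ Subgroup.mem_top (⟨_, hlZ⟩ : Z))
    exact hlC (Subgroup.mem_zpowers_iff.2 ⟨j, by simpa using congrArg (fun x : Z => ((x : D) : S)) hj⟩)
  haveI : IsCyclic (D ⧸ Z) := by
    have h := Z.card_mul_index
    rw [hD] at h
    rcases Nat.lt_or_ge 1 Z.index with h1 | h1
    · have h3 : Z.index ∣ 27 := Dvd.intro_left _ h
      have : Z.index ≤ 3 := by nlinarith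
      exact isCyclic_of_prime_card (p := 3) (by
        rw [← Subgroup.index_eq_card]
        interval_cases hi : Z.index <;> simp_all)
    · haveI : Subsingleton (D ⧸ Z) := Finite.card_le_one_iff_subsingleton.1 (by rw [← Subgroup.index_eq_card]; omega)
      exact isCyclic_of_subsingleton
  intro a ha b hb
  exact congrArg Subtype.val (commutative_of_cyclic_center_quotient (QuotientGroup.mk' Z)
    (by rw [QuotientGroup.ker_mk']) (⟨a, ha⟩ : D) ⟨b, hb⟩)

/-- a group of order 243 cannot have both an element with centralizer of order nine and an elementary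
abelian subgroup of order 27 -/
theorem no_nine_and_elem (hS : Nat.card S = 243) (y : S) (hy : y ^ 3 = 1)
    (hy9 : Nat.card (Subgroup.centralizer ({y} : Set S)) = 9) (A : Subgroup S) (hA : Nat.card A = 27)
    (hAc : ∀ a ∈ A, ∀ b ∈ A, a * b = b * a) (hA3 : ∀ a ∈ A, a ^ 3 = 1) : False := by
  classical
  haveI : Fact (Nat.Prime 3) := ⟨Nat.prime_three⟩
  have hp : IsPGroup 3 S := IsPGroup.of_card (n := 5) (by rw [hS]; norm_num)
  set D := commutator S with hD
  have hyC : y ∈ Subgroup.centralizer ({y} : Set S) := Subgroup.mem_centralizer_singleton_iff.2 rfl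
  -- the derived subgroup has order at most 27
  have hDle : Nat.card D ≤ 27 := by
    by_contra hgt
    have h1 := D.card_mul_index
    rw [hS] at h1
    obtain ⟨k, hk⟩ := (hp.to_quotient D).exists_card_eq
    rw [← Subgroup.index_eq_card] at hk
    have hk1 : k ≤ 1 := by
      by_contra hk2
      have : 3 ^ 2 ≤ 3 ^ k := Nat.pow_le_pow_right (by norm_num) (by omega)
      nlinarith
    have hq : ∃ q : S, ∀ a : S, ∃ j : ℤ, (q ^ j)⁻¹ * a ∈ D := by
      haveI : IsCyclic (S ⧸ D) := by
        interval_cases k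
        · haveI : Subsingleton (S ⧸ D) := Finite.card_le_one_iff_subsingleton.1 (by rw [← Subgroup.index_eq_card, hk]; rfl)
          exact isCyclic_of_subsingleton
        · exact isCyclic_of_prime_card (p := 3) (by rw [← Subgroup.index_eq_card, hk]; rfl)
      obtain ⟨g, hg⟩ := IsCyclic.exists_generator (α := S ⧸ D)
      obtain ⟨q, rfl⟩ := QuotientGroup.mk_surjective g
      refine ⟨q, fun a => ?_⟩
      obtain ⟨j, hj⟩ := Subgroup.mem_zpowers_iff.1 (hg a)
      exact ⟨j, QuotientGroup.eq.1 (by rw [QuotientGroup.mk_zpow]; exact hj)⟩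
    obtain ⟨q, hq⟩ := hq
    have htop : Subgroup.zpowers q = ⊤ := eq_top_of_sup_derived hp (eq_top_iff.2 fun a _ => by
      obtain ⟨j, hj⟩ := hq a
      have := Subgroup.mul_mem_sup (Subgroup.zpow_mem _ (Subgroup.mem_zpowers q) j) hj
      rwa [mul_inv_cancel_left] at this)
    have : Subgroup.centralizer ({y} : Set S) = ⊤ := eq_top_iff.2 fun a _ => by
      obtain ⟨i, rfl⟩ := Subgroup.mem_zpowers_iff.1 (htop.symm ▸ Subgroup.mem_top a)
      obtain ⟨j, rfl⟩ := Subgroup.mem_zpowers_iff.1 (htop.symm ▸ Subgroup.mem_top y)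
      exact Subgroup.mem_centralizer_singleton_iff.2 (Commute.zpow_zpow (Commute.refl q) i j).eq
    rw [this, Subgroup.card_top, hS] at hy9
    omega
  -- every element of the derived subgroup is a commutator with `y`
  set f : S → S := fun s => y⁻¹ * (s * y * s⁻¹) with hf
  have hfD : ∀ s, f s ∈ D := fun s => by
    have h : ⁅y⁻¹, s⁆ ∈ D := Subgroup.commutator_mem_commutator (Subgroup.mem_top _) (Subgroup.mem_top _)
    have e : ⁅y⁻¹, s⁆ = f s := by simp only [hf, commutatorElement_def]; group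
    exact e ▸ h
  have hrange : (Set.range f).ncard = 27 := by
    have h1 : Set.range f = (fun c => y⁻¹ * c) '' (MulAction.orbit (ConjAct S) y) := by
      ext d
      simp only [Set.mem_range, Set.mem_image, MulAction.mem_orbit_iff, hf]
      constructor
      · rintro ⟨s, rfl⟩
        exact ⟨_, ⟨ConjAct.toConjAct s, ConjAct.toConjAct_smul s y⟩, rfl⟩
      · rintro ⟨c, ⟨s, rfl⟩, rfl⟩
        exact ⟨ConjAct.ofConjAct s, by rw [ConjAct.smul_def]⟩
    rw [h1, Set.ncard_image_of_injective _ (mul_right_injective _), ← MulAction.index_stabilizer,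
      ConjAct.stabilizer_eq_centralizer]
    have h := (Subgroup.centralizer ({y} : Set S)).card_mul_index
    rw [hy9, hS] at h
    exact Nat.eq_of_mul_eq_mul_left (by norm_num : 0 < 9) (h.trans (by norm_num))
  have hDall : Set.range f = (D : Set S) := by
    refine Set.eq_of_subset_of_ncard_le (fun d ⟨s, e⟩ => e ▸ hfD s) ?_ (Set.toFinite _)
    rw [hrange, ← Nat.card_coe_set_eq]
    exact hDle
  have hD27 : Nat.card D = 27 := by
    rw [← hrange, hDall, ← Nat.card_coe_set_eq]
    rfl
  have hDc := derived_comm hp hD27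
  have hyD : y ∉ D := fun hmem => by
    have h1 : D ≤ Subgroup.centralizer ({y} : Set S) := fun d hd =>
      Subgroup.mem_centralizer_singleton_iff.2 (hDc d hd y hmem)
    have := Subgroup.card_le_of_le h1
    omega
  have hDn : ∀ (s : S) {d : S}, d ∈ D → s * d * s⁻¹ ∈ D := fun s {d} hd =>
    (inferInstance : (commutator S).Normal).conj_mem d hd s
  have hnorm : ∀ d ∈ D, d * (y * d * y⁻¹) * (y * y * d * (y * y)⁻¹) = 1 := by
    intro d hd
    obtain ⟨s, rfl⟩ := hDall.symm.subset hd
    have h3 : (s * y * s⁻¹) ^ 3 = 1 := by rw [conj_pow, hy, mul_one, mul_inv_cancel]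
    have hy3 : y * y * y = 1 := by rw [← pow_two, ← pow_succ, hy]
    obtain ⟨u, hu⟩ : ∃ u, u = s * y * s⁻¹ := ⟨_, rfl⟩
    simp only [hf, ← hu]
    rw [← hu, pow_succ, pow_two] at h3
    calc y⁻¹ * u * (y * (y⁻¹ * u) * y⁻¹) * (y * y * (y⁻¹ * u) * (y * y)⁻¹)
        = y⁻¹ * (u * u * u) * (y * y)⁻¹ := by group
      _ = (y * y * y)⁻¹ := by rw [h3]; group
      _ = 1 := by rw [hy3, inv_one]
  -- the derived subgroup does not have exponent three
  have hexp : ¬ ∀ d ∈ D, d ^ 3 = 1 := by
    intro h3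
    let ψ : D →* D :=
      { toFun := fun d => ⟨(d : S)⁻¹ * (y * d * y⁻¹), D.mul_mem (D.inv_mem d.2) (hDn y d.2)⟩
        map_one' := Subtype.ext (by simp)
        map_mul' := fun a b => Subtype.ext (by
          show ((a : S) * b)⁻¹ * (y * (a * b) * y⁻¹) = (a : S)⁻¹ * (y * a * y⁻¹) * ((b : S)⁻¹ * (y * b * y⁻¹))
          rw [mul_inv_rev, show (b : S)⁻¹ * (a : S)⁻¹ * (y * (a * b) * y⁻¹) =
            (b : S)⁻¹ * ((a : S)⁻¹ * (y * a * y⁻¹)) * (y * b * y⁻¹) by group,
            hDc _ (D.inv_mem b.2) _ (D.mul_mem (D.inv_mem a.2) (hDn y a.2))]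
          group) }
    have hker : Nat.card ψ.ker ≤ 3 := by
      let C := Subgroup.centralizer ({y} : Set S) ⊓ D
      have hle : Nat.card C ≤ 3 := by
        refine card_le_of_lt_three_pow hp C (n := 1) ?_
        have hne : C ≠ Subgroup.centralizer ({y} : Set S) := fun e => hyD ((e.symm ▸ hyC : y ∈ C)).2
        have hlt : C < Subgroup.centralizer ({y} : Set S) := lt_of_le_of_ne inf_le_left hne
        have := Set.ncard_lt_ncard (SetLike.coe_ssubset_coe.2 hlt) (Set.toFinite _)
        rw [← Nat.card_coe_set_eq, ← Nat.card_coe_set_eq] at this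
        simpa [hy9] using this
      refine le_trans (Nat.card_le_card_of_injective (fun d : ψ.ker => (⟨((d : D) : S),
        Subgroup.mem_centralizer_singleton_iff.2 ?_, (d : D).2⟩ : C)) fun a b e => ?_) hle
      · have h : ((d : D) : S)⁻¹ * (y * (d : D) * y⁻¹) = 1 := congrArg Subtype.val (MonoidHom.mem_ker.1 d.2)
        rw [inv_mul_eq_one, eq_mul_inv_iff_mul_eq] at h
        exact h
      · exact Subtype.ext (Subtype.ext (congrArg (fun x : C => (x : S)) e))
    have hsq : ψ.range ≤ ψ.ker := by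
      rintro _ ⟨d, rfl⟩
      rw [MonoidHom.mem_ker]
      apply Subtype.ext
      show ((d : S)⁻¹ * (y * d * y⁻¹))⁻¹ * (y * ((d : S)⁻¹ * (y * d * y⁻¹)) * y⁻¹) = 1
      have hi : ∀ {a : S}, a ∈ D → a⁻¹ = a * a := fun {a} ha =>
        inv_eq_of_mul_eq_one_right (by rw [← mul_assoc, ← pow_two, ← pow_succ, h3 a ha])
      obtain ⟨b, hb⟩ : ∃ b, b = y * (d : S) * y⁻¹ := ⟨_, rfl⟩
      have hbD : b ∈ D := hb ▸ hDn y d.2
      have e1 : y * ((d : S)⁻¹ * (y * d * y⁻¹)) * y⁻¹ = b⁻¹ * (y * y * d * (y * y)⁻¹) := by rw [hb]; group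
      rw [e1, ← hb, mul_inv_rev, inv_inv, show b⁻¹ * (d : S) * (b⁻¹ * (y * y * d * (y * y)⁻¹)) =
        b⁻¹ * ((d : S) * b⁻¹) * (y * y * d * (y * y)⁻¹) by group,
        hDc _ d.2 _ (D.inv_mem hbD), ← mul_assoc b⁻¹, hi hbD]
      rw [show b * b * (b * b) = b * (b * b * b) by group, show b * b * b = b ^ 3 by rw [pow_succ, pow_two],
        h3 b hbD, mul_one, ← hDc _ d.2 _ hbD, hb]
      exact hnorm d d.2
    have h1 := ψ.ker.card_mul_index
    rw [Subgroup.index_ker, hD27] at h1
    have h2 : Nat.card ψ.range ≤ 3 := (Subgroup.card_le_of_le hsq).trans hker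
    nlinarith
  -- the elements of order at most three
  set W : Subgroup S := D ⊓ A with hW
  have hW9 : Nat.card W ≤ 9 := by
    refine card_le_of_lt_three_pow hp W (n := 2) (lt_of_le_of_ne ?_ fun e => hexp fun d hd => hA3 d ?_)
    · exact (Subgroup.card_le_of_le inf_le_left).trans (le_of_eq hD27)
    · have := Subgroup.eq_of_le_of_card_ge (inf_le_left : W ≤ D) (by rw [hD27]; exact e.ge)
      exact ((this.ge : D ≤ W) hd).2
  set N : Subgroup S := A ⊔ D with hN
  have hNne : N ≠ ⊤ := fun e => by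
    have := eq_top_of_sup_derived hp e
    rw [this, Subgroup.card_top, hS] at hA
    omega
  have hWge : 9 ≤ Nat.card W := by
    have hNle : Nat.card N ≤ 81 := by
      have hlt : N < ⊤ := lt_top_iff_ne_top.2 hNne
      have := Set.ncard_lt_ncard (SetLike.coe_ssubset_coe.2 hlt) (Set.toFinite _)
      rw [← Nat.card_coe_set_eq, ← Nat.card_coe_set_eq] at this
      refine card_le_of_lt_three_pow hp N (n := 4) (lt_of_lt_of_le this (le_of_eq ?_))
      show Nat.card (⊤ : Subgroup S) = _
      rw [Subgroup.card_top, hS]; norm_num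
    have hmul : Nat.card A * Nat.card D ≤ Nat.card W * Nat.card N := by
      have h1 : (W.subgroupOf D).index * Nat.card W = Nat.card D := by
        rw [← Nat.card_congr (Subgroup.subgroupOfEquivOfLe (inf_le_left : W ≤ D)).toEquiv,
          mul_comm, Subgroup.card_mul_index]
      have h2 : W.relIndex D = A.relIndex D := by rw [hW, inf_comm, Subgroup.inf_relIndex_right]
      have h3 : A.relIndex D ≤ A.relIndex N := Subgroup.relIndex_le_of_le_right (le_sup_right) (Subgroup.index_ne_zero_of_finite)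
      have h4 : A.relIndex N * Nat.card A = Nat.card N := by
        rw [← Nat.card_congr (Subgroup.subgroupOfEquivOfLe (le_sup_left : A ≤ N)).toEquiv, mul_comm]
        exact Subgroup.card_mul_index _
      change W.relIndex D * _ = _ at h1
      rw [← h1, ← h4, h2]
      calc Nat.card A * (A.relIndex D * Nat.card W) = Nat.card W * (A.relIndex D * Nat.card A) := by ring
        _ ≤ _ := Nat.mul_le_mul_left _ (Nat.mul_le_mul_right _ h3)
    rw [hA, hD27] at hmul
    nlinarith
  have hWtor : ∀ x ∈ D, x ^ 3 = 1 → x ∈ W := by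
    intro x hx hx3
    by_contra hxW
    apply hexp
    let T : Subgroup S :=
      { carrier := {a | a ∈ D ∧ a ^ 3 = 1}
        mul_mem' := fun {a b} ha hb => ⟨D.mul_mem ha.1 hb.1, by
          rw [(show Commute a b from hDc a ha.1 b hb.1).mul_pow, ha.2, hb.2, one_mul]⟩
        one_mem' := ⟨D.one_mem, one_pow 3⟩
        inv_mem' := fun {a} ha => ⟨D.inv_mem ha.1, by rw [inv_pow, ha.2, inv_one]⟩ }
    have hWT : W ≤ T := fun a ha => ⟨ha.1, hA3 a ha.2⟩
    have hlt : W < T := lt_of_le_of_ne hWT fun e => hxW (e.symm ▸ (⟨hx, hx3⟩ : x ∈ T))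
    have h27 : 27 ≤ Nat.card T := by
      have := Set.ncard_lt_ncard (SetLike.coe_ssubset_coe.2 hlt) (Set.toFinite _)
      rw [← Nat.card_coe_set_eq, ← Nat.card_coe_set_eq] at this
      change Nat.card W < Nat.card T at this
      by_contra hh
      have := card_le_of_lt_three_pow hp T (n := 2) (by norm_num; omega)
      omega
    have hTD : T = D := Subgroup.eq_of_le_of_card_ge (fun a ha => ha.1) (by rw [hD27]; exact h27)
    exact fun d hd => (hTD.symm ▸ hd : d ∈ T).2
  have hWn : ∀ (s : S) {w : S}, w ∈ W → s * w * s⁻¹ ∈ W := fun s {w} hw =>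
    hWtor _ (hDn s hw.1) (by rw [conj_pow, hA3 w hw.2, mul_one, mul_inv_cancel])
  haveI : W.Normal := ⟨fun w hw s => hWn s hw⟩
  have hWcen : ∀ n ∈ N, ∀ w ∈ W, n * w = w * n := by
    intro n hn w hw
    have h1 : N ≤ Subgroup.centralizer ({w} : Set S) := sup_le
      (fun a ha => Subgroup.mem_centralizer_singleton_iff.2 (hAc a ha w hw.2))
      (fun a ha => Subgroup.mem_centralizer_singleton_iff.2 (hDc a ha w hw.1))
    exact Subgroup.mem_centralizer_singleton_iff.1 (h1 hn)
  have hyN : y ∉ N := fun hmem => by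
    have h1 : W ≤ Subgroup.centralizer ({y} : Set S) := fun w hw =>
      Subgroup.mem_centralizer_singleton_iff.2 (hWcen y hmem w hw).symm
    exact hyD ((Subgroup.eq_of_le_of_card_ge h1 (by rw [hy9]; exact hWge)).symm ▸ hyC : y ∈ W).1
  haveI hNn : N.Normal := Subgroup.Normal.of_conjugate_fixed fun s => by
    refine le_antisymm ?_ ?_ <;> intro a ha
    · obtain ⟨b, hb, rfl⟩ := ha
      have hb' : b ∈ N := hb
      have : ⁅s, b⁆ * b ∈ N := N.mul_mem (Subgroup.mem_sup_right (Subgroup.commutator_mem_commutator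
        (Subgroup.mem_top _) (Subgroup.mem_top _))) hb'
      simpa [commutatorElement_def] using this
    · refine ⟨⁅s⁻¹, a⁆ * a, N.mul_mem (Subgroup.mem_sup_right (Subgroup.commutator_mem_commutator
        (Subgroup.mem_top _) (Subgroup.mem_top _))) ha, ?_⟩
      simp [commutatorElement_def, mul_assoc]
  -- commutators of `A` with `y` lie in `W`
  have hAy : ∀ h ∈ A, y⁻¹ * (h * y * h⁻¹) ∈ W := by
    intro h hh
    obtain ⟨a, ha⟩ : ∃ a, a = y⁻¹ * (h * y * h⁻¹) := ⟨_, rfl⟩
    have haD : a ∈ D := ha ▸ hfD h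
    refine ha ▸ hWtor a haD ?_
    -- the commutator of `h` and `a`
    have hcW : a⁻¹ * (h * a * h⁻¹) ∈ W := by
      have hh' : h ∈ N := Subgroup.mem_sup_left hh
      have hquot : Nat.card (N ⧸ W.subgroupOf N) = 9 := by
        have h1 := (W.subgroupOf N).card_mul_index
        rw [Nat.card_congr (Subgroup.subgroupOfEquivOfLe ((inf_le_right : W ≤ A).trans le_sup_left)).toEquiv] at h1
        rw [← Subgroup.index_eq_card]
        have h81 : Nat.card N = 81 := by
          refine le_antisymm ?_ ?_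
          · refine card_le_of_lt_three_pow hp N (n := 4) ?_
            have := Set.ncard_lt_ncard (SetLike.coe_ssubset_coe.2 (lt_top_iff_ne_top.2 hNne)) (Set.toFinite _)
            rw [← Nat.card_coe_set_eq, ← Nat.card_coe_set_eq] at this
            exact lt_of_lt_of_le this (le_of_eq (by
              show Nat.card (⊤ : Subgroup S) = _
              rw [Subgroup.card_top, hS]; norm_num))
          · by_contra hlt
            have h2 := card_le_of_lt_three_pow hp N (n := 3) (by norm_num; omega)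
            have e1 := Subgroup.eq_of_le_of_card_ge (le_sup_left : A ≤ N) (by rw [hA]; exact h2)
            have e2 := Subgroup.eq_of_le_of_card_ge (le_sup_right : D ≤ N) (by rw [hD27]; exact h2)
            have e3 : W = D := by rw [hW, e1.trans e2.symm, inf_idem]
            rw [e3, hD27] at hW9
            omega
        nlinarith
      haveI : Fact (Nat.Prime 3) := ⟨Nat.prime_three⟩
      have hab := IsPGroup.commutative_of_card_eq_prime_sq (p := 3) (G := N ⧸ W.subgroupOf N) (by rw [hquot]; norm_num)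
      have e := hab (QuotientGroup.mk ⟨h, hh'⟩) (QuotientGroup.mk ⟨a, Subgroup.mem_sup_right haD⟩)
      rw [← QuotientGroup.mk_mul, ← QuotientGroup.mk_mul, QuotientGroup.eq] at e
      have e' : (h * a)⁻¹ * (a * h) ∈ W := e
      have e'' := W.inv_mem e'
      rw [mul_inv_rev, inv_inv] at e''
      have e3 := hWn h e''
      rwa [show h * ((a * h)⁻¹ * (h * a)) * h⁻¹ = a⁻¹ * (h * a * h⁻¹) by group] at e3
    obtain ⟨c, hc⟩ : ∃ c, c = a⁻¹ * (h * a * h⁻¹) := ⟨_, rfl⟩
    rw [← hc] at hcW
    have hcc : Commute h c := (hWcen h (Subgroup.mem_sup_left hh) c hcW)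
    have hac : Commute a c := hDc a haD c hcW.1
    have e1 : h * a * h⁻¹ = a * c := by rw [hc, mul_inv_cancel_left]
    have e2 : h * y * h⁻¹ = y * a := by rw [ha, mul_inv_cancel_left]
    have e3 : h * c * h⁻¹ = c := by rw [hcc.eq, mul_inv_cancel_right]
    have key : y = y * (a ^ 3 * c ^ 3) := by
      obtain ⟨φ, hφ⟩ : ∃ φ : S ≃* S, φ = MulAut.conj h := ⟨_, rfl⟩
      have hy' : φ y = y * a := by rw [hφ, MulAut.conj_apply, e2]
      have ha' : φ a = a * c := by rw [hφ, MulAut.conj_apply, e1]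
      have hc' : φ c = c := by rw [hφ, MulAut.conj_apply, e3]
      calc y = h * (h * (h * y * h⁻¹) * h⁻¹) * h⁻¹ := by
            rw [show h * (h * (h * y * h⁻¹) * h⁻¹) * h⁻¹ = (h * h * h) * y * (h * h * h)⁻¹ by group,
              show h * h * h = h ^ 3 by rw [pow_succ, pow_two], hA3 h hh, one_mul, inv_one, mul_one]
        _ = φ (φ (φ y)) := by simp only [hφ, MulAut.conj_apply]
        _ = y * a * (a * c) * (a * c * c) := by simp only [hy', map_mul, ha', hc']
        _ = y * (a ^ 3 * c ^ 3) := by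
          simp only [pow_succ, pow_zero, one_mul, mul_assoc]
          rw [← mul_assoc c a, ← hac.eq, mul_assoc a c]
    rw [hA3 c hcW.2, mul_one] at key
    exact mul_eq_left.1 key.symm
  -- hence all commutators with `y` lie in `W`
  let M : Subgroup S := (Subgroup.centralizer ({(QuotientGroup.mk y : S ⧸ W)} : Set (S ⧸ W))).comap (QuotientGroup.mk' W)
  have hM : ∀ {s}, s ∈ M ↔ f s ∈ W := fun {s} => by
    simp only [M, hf, Subgroup.mem_comap, QuotientGroup.mk'_apply, Subgroup.mem_centralizer_singleton_iff]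
    rw [← QuotientGroup.eq_one_iff, QuotientGroup.mk_mul, QuotientGroup.mk_mul, QuotientGroup.mk_mul,
      QuotientGroup.mk_inv, QuotientGroup.mk_inv, inv_mul_eq_one, eq_mul_inv_iff_mul_eq, eq_comm]
  have hDM : D ≤ M := by
    intro d hd
    rw [hM]
    -- the derived subgroup modulo `W` has order three
    have hidx : (W.subgroupOf D).index = 3 := by
      have h1 := (W.subgroupOf D).card_mul_index
      rw [Nat.card_congr (Subgroup.subgroupOfEquivOfLe (inf_le_left : W ≤ D)).toEquiv, hD27,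
        le_antisymm hW9 hWge] at h1
      omega
    have hgen : ∀ {x : S}, x ∈ D → x ∉ W → ∀ {z : S}, z ∈ D → ∃ k : Fin 3, (x ^ (k : ℕ))⁻¹ * z ∈ W := by
      intro x hx hxW z hz
      have hc3 : Nat.card (D ⧸ W.subgroupOf D) = 3 := by rw [← Subgroup.index_eq_card, hidx]
      have hne : (QuotientGroup.mk ⟨x, hx⟩ : D ⧸ W.subgroupOf D) ≠ 1 := fun e =>
        hxW ((QuotientGroup.eq_one_iff (N := W.subgroupOf D) _).1 e)
      obtain ⟨j, hj⟩ := (Submonoid.mem_powers_iff (QuotientGroup.mk ⟨z, hz⟩ : D ⧸ W.subgroupOf D) _).1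
        (mem_powers_of_prime_card hc3 hne)
      refine ⟨⟨j % 3, Nat.mod_lt _ (by norm_num)⟩, ?_⟩
      have hj' : (QuotientGroup.mk ⟨x, hx⟩ : D ⧸ W.subgroupOf D) ^ (j % 3) = QuotientGroup.mk ⟨z, hz⟩ := by
        rw [← hj, ← pow_mod_orderOf _ j, ← hc3, orderOf_eq_prime (p := 3) ?_ hne, hc3]
        rw [← hc3]; exact pow_card_eq_one'
      rw [← QuotientGroup.mk_pow, QuotientGroup.eq] at hj'
      exact hj'
    by_cases hdW : d ∈ W
    · show y⁻¹ * (d * y * d⁻¹) ∈ W
      rw [show y⁻¹ * (d * y * d⁻¹) = (y⁻¹ * d * (y⁻¹)⁻¹) * d⁻¹ by group]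
      exact W.mul_mem (hWn _ hdW) (W.inv_mem hdW)
    obtain ⟨k, hk⟩ := hgen hd hdW (hDn y hd)
    -- in the quotient, conjugation by `y` is a power map
    obtain ⟨q, hq⟩ : ∃ q : S ⧸ W, q = QuotientGroup.mk d := ⟨_, rfl⟩
    obtain ⟨r, hr⟩ : ∃ r : S ⧸ W, r = QuotientGroup.mk y := ⟨_, rfl⟩
    have hk' : r * q * r⁻¹ = q ^ (k : ℕ) := by
      rw [hq, hr, ← QuotientGroup.mk_inv, ← QuotientGroup.mk_mul, ← QuotientGroup.mk_mul, ← QuotientGroup.mk_pow]
      exact (QuotientGroup.eq.2 hk).symm
    have hn : q * (r * q * r⁻¹) * (r * (r * q * r⁻¹) * r⁻¹) = 1 := by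
      have h := congrArg (QuotientGroup.mk : S → S ⧸ W) (hnorm d hd)
      simp only [QuotientGroup.mk_mul, QuotientGroup.mk_inv, QuotientGroup.mk_one, ← hq, ← hr] at h
      rw [← h]; group
    rw [hk', ← conj_pow, hk', ← pow_mul] at hn
    have hq3 : orderOf q = 3 := by
      haveI : Fact (Nat.Prime 3) := ⟨Nat.prime_three⟩
      refine orderOf_eq_prime ?_ fun e => hdW ((QuotientGroup.eq_one_iff d).1 (hq ▸ e))
      rw [hq, ← QuotientGroup.mk_pow, QuotientGroup.eq_one_iff]
      have h1 : ((⟨d, hd⟩ : D) ^ (W.subgroupOf D).index : D) ∈ W.subgroupOf D := Subgroup.pow_index_mem _ _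
      rw [hidx] at h1
      exact h1
    nth_rewrite 1 [← pow_one q] at hn
    rw [← pow_add, ← pow_add, ← orderOf_dvd_iff_pow_eq_one, hq3] at hn
    have hk1 : (k : ℕ) = 1 := by
      have := k.2
      interval_cases hkk : (k : ℕ) <;> omega
    rw [hk1, pow_one] at hk
    show y⁻¹ * (d * y * d⁻¹) ∈ W
    have h2 := hWn y⁻¹ (hWn d hk)
    have e : y⁻¹ * (d * (d⁻¹ * (y * d * y⁻¹)) * d⁻¹) * (y⁻¹)⁻¹ = d * (y⁻¹ * d⁻¹ * y) := by group
    rw [e] at h2
    have h3 := hWn y⁻¹ (hWn d⁻¹ (W.inv_mem h2))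
    have h4 := W.inv_mem (hWn y⁻¹ (W.inv_mem hk))
    rw [show (y⁻¹ * (d⁻¹ * (y * d * y⁻¹))⁻¹ * (y⁻¹)⁻¹)⁻¹ = (y⁻¹ * d⁻¹ * y) * d by group] at h4
    have h5 := W.inv_mem (hWn d h4)
    rwa [show (d * (y⁻¹ * d⁻¹ * y * d) * d⁻¹)⁻¹ = y⁻¹ * (d * y * d⁻¹) by group] at h5
  have hAM : A ≤ M := fun h hh => hM.2 (hAy h hh)
  have hyM : y ∈ M := hM.2 (by simp [hf])
  have hMtop : M = ⊤ := by
    have hlt : N < M := lt_of_le_of_ne (sup_le hAM hDM) fun e => hyN (e.symm ▸ hyM)
    have h81 : 81 ≤ Nat.card N := by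
      by_contra hlt'
      have h2 := card_le_of_lt_three_pow hp N (n := 3) (by norm_num; omega)
      have e1 := Subgroup.eq_of_le_of_card_ge (le_sup_left : A ≤ N) (by rw [hA]; exact h2)
      have e2 := Subgroup.eq_of_le_of_card_ge (le_sup_right : D ≤ N) (by rw [hD27]; exact h2)
      have e3 : W = D := by rw [hW, e1.trans e2.symm, inf_idem]
      rw [e3, hD27] at hW9
      omega
    refine Subgroup.eq_top_of_card_eq M (le_antisymm (Subgroup.card_le_card_group M) ?_)
    rw [hS]
    by_contra hh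
    have h2 := card_le_of_lt_three_pow hp M (n := 4) (by norm_num; omega)
    exact absurd (Subgroup.eq_of_le_of_card_ge hlt.le (le_trans h2 (by norm_num; exact h81))) hlt.ne
  have hall : D ≤ W := fun d hd => by
    obtain ⟨s, rfl⟩ := hDall.symm.subset hd
    exact hM.1 (hMtop.symm ▸ Subgroup.mem_top s)
  have := Subgroup.card_le_of_le hall
  omega

end Cfsg.Agent.Spor.JThree
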