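import Mathlib
import Cfsg.Agent.Lib.Spor.JThree.Exclude
import Cfsg.Agent.Lib.Spor.JThree.ThreeCover
import Cfsg.Agent.Lib.Spor.JThree.ThreeGroup

/-!
Groups of J₃-type: an element of order three commuting with an involution has a centralizer of order 1080,
and so no element of order three has a centralizer with a Sylow 3-subgroup of order nine.
-/

set_option autoImplicit false
set_option linter.style.haveILetI false
set_option linter.unusedSectionVars false
set_option maxHeartbeats 1000000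

namespace Cfsg.Agent.Spor.JThree

open Equiv Cfsg.Agent.Lie Cfsg.Agent.Lie.HJType
open DihedralGroup (r sr)

universe u

local notation "A5" => alternatingGroup (Fin 5)

theorem three_cycle_data : ∃ σ : A5, σ ^ 3 = 1 ∧ σ ≠ 1 ∧ (σ : Perm (Fin 5)) 0 = 0 ∧ (σ : Perm (Fin 5)) 1 = 1 ∧
    (∀ τ : A5, τ * σ = σ * τ → ∃ k : Fin 3, τ = σ ^ (k : ℕ)) ∧
    (Finset.univ.filter fun v : Fin 5 → ZMod 2 => Even5 v ∧ actv σ v = v).card = 4 := by decide +kernel

theorem a5_sixteen : ∀ g : A5, g ^ 16 = 1 → g ^ 2 = 1 := by decide +kernel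

/-- a dihedral subgroup of order eight -/
theorem exists_dihedral {G : Type u} [Group G] {a b : G} (ha : a ^ 4 = 1) (ha2 : a ^ 2 ≠ 1) (hb : b * b = 1)
    (hba : b * a * b⁻¹ = a⁻¹) (hn : ¬ Commute b a) :
    ∃ f : DihedralGroup 4 →* G, Function.Injective f ∧
      ∀ x : G, Commute x a → Commute x b → ∀ d, Commute x (f d) := by
  let P : ZMod 4 → G := fun k => a ^ k.val
  have hP : ∀ i j, P (i + j) = P i * P j := fun i j => by
    show a ^ (i + j).val = a ^ i.val * a ^ j.val
    rw [← pow_add, ZMod.val_add, pow_eq_pow_mod (i.val + j.val) ha]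
  have hP0 : P 0 = 1 := by simp [P]
  have hneg : ∀ i, P (-i) = (P i)⁻¹ := fun i => by
    rw [eq_inv_iff_mul_eq_one, ← hP, neg_add_cancel, hP0]
  have hswap : ∀ i, P i * b = b * P (-i) := fun i => by
    have h1 : b * a ^ i.val * b⁻¹ = (a ^ i.val)⁻¹ := by rw [← conj_pow, hba, inv_pow]
    rw [hneg]
    show a ^ i.val * b = b * (a ^ i.val)⁻¹
    rw [← h1, show b * (b * a ^ i.val * b⁻¹) = (b * b) * a ^ i.val * b⁻¹ by group, hb, one_mul,
      inv_eq_of_mul_eq_one_right hb]
  let F : DihedralGroup 4 → G := fun d => match d with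
    | r k => P k
    | sr k => b * P k
  let f : DihedralGroup 4 →* G :=
    { toFun := F
      map_one' := hP0
      map_mul' := by
        rintro (i | i) (j | j)
        · show P (i + j) = P i * P j
          exact hP i j
        · show b * P (j - i) = P i * (b * P j)
          rw [← mul_assoc, hswap, mul_assoc, ← hP, sub_eq_add_neg, add_comm]
        · show b * P (i + j) = b * P i * P j
          rw [hP, mul_assoc]
        · show P (j - i) = b * P i * (b * P j)
          rw [show b * P i * (b * P j) = b * (P i * b) * P j by group, hswap, ← mul_assoc b b, hb, one_mul,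
            ← hP, sub_eq_add_neg, add_comm] }
  have hord : orderOf a = 4 := by
    haveI : Fact (Nat.Prime 2) := ⟨Nat.prime_two⟩
    exact orderOf_eq_prime_pow (p := 2) (n := 1) (by simpa using ha2) (by simpa using ha)
  refine ⟨f, (injective_iff_map_eq_one f).2 ?_, ?_⟩
  · rintro (k | k) hk
    · have hk' : a ^ k.val = 1 := hk
      have h1 : k.val = 0 := by
        have := orderOf_dvd_of_pow_eq_one hk'
        rw [hord] at this
        exact Nat.eq_zero_of_dvd_of_lt this (ZMod.val_lt k)
      rw [(ZMod.val_eq_zero k).1 h1]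
      rfl
    · exfalso
      have hk' : b * a ^ k.val = 1 := hk
      refine hn ?_
      rw [eq_inv_of_mul_eq_one_left hk']
      exact ((Commute.refl a).pow_left _).inv_left
  · intro x hxa hxb
    rintro (k | k)
    · exact hxa.pow_right _
    · exact hxb.mul_right (hxa.pow_right _)

variable {G : Type u} [Group G] [Finite G] {t : G} {Q : Subgroup G}

/-- an element of order three in the centralizer of the involution -/
theorem exists_three (F : Frame t Q) : ∃ y : G, orderOf y = 3 ∧ Commute y t ∧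
    Nat.card {x : G // Commute x t ∧ Commute x y} = 24 ∧
    ∃ f : DihedralGroup 4 →* G, Function.Injective f ∧ ∀ d, Commute (f d) t ∧ Commute (f d) y := by
  classical
  haveI : Fact (Nat.Prime 3) := ⟨Nat.prime_three⟩
  obtain ⟨σ, hσ3, hσ1, hσ0, hσ1', hσc, hσv⟩ := three_cycle_data
  obtain ⟨c, hcσ, hcu⟩ := F.lift 0 hσ0
  have hc3 : (c : G) ^ 3 ∈ Q := by
    have := (F.ker (c ^ 3)).1 (by rw [map_pow, hcσ, hσ3])
    simpa using this
  obtain ⟨d, hd⟩ : ∃ d, d = c ^ 4 := ⟨_, rfl⟩
  obtain ⟨y, hy⟩ : ∃ y : G, y = (d : G) := ⟨_, rfl⟩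
  have hdσ : F.π d = σ := by rw [hd, map_pow, hcσ, pow_succ, hσ3, one_mul]
  have hy3 : y ^ 3 = 1 := by
    rw [hy, hd, SubmonoidClass.coe_pow, ← pow_mul, show 4 * 3 = 3 * 4 from rfl, pow_mul, q_pow_four F hc3]
  have hy1 : y ≠ 1 := fun e => hσ1 (by
    rw [← hdσ, show d = 1 from Subtype.ext (hy.symm.trans e), map_one])
  have hord : orderOf y = 3 := orderOf_eq_prime hy3 hy1
  have hyt : Commute y t := hy ▸ F.comm_z d
  have hy0 : Commute y (F.u 0) := by rw [hy, hd, SubmonoidClass.coe_pow]; exact hcu.pow_left 4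
  have hy1c : Commute y (F.u 1) := by
    rcases F.act d 1 with e | e <;> rw [hdσ, hσ1', ← hy] at e
    · exact mul_inv_eq_iff_eq_mul.1 e
    · exfalso
      have h2 : y * (y * F.u 1 * y⁻¹) * y⁻¹ = F.u 1 := by
        rw [e, show y * (F.u 1 * t) * y⁻¹ = y * F.u 1 * y⁻¹ * (y * t * y⁻¹) by group, e, hyt.eq,
          mul_inv_cancel_right, mul_assoc, F.S.xt.sq, mul_one]
      have h3 : y * (y * (y * F.u 1 * y⁻¹) * y⁻¹) * y⁻¹ = F.u 1 := by
        rw [show y * (y * (y * F.u 1 * y⁻¹) * y⁻¹) * y⁻¹ = (y * y * y) * F.u 1 * (y * y * y)⁻¹ by group,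
          show y * y * y = y ^ 3 by rw [pow_succ, pow_two], hy3, one_mul, inv_one, mul_one]
      rw [h2, e] at h3
      exact F.S.xt.ne (by
        calc t = (F.u 1)⁻¹ * (F.u 1 * t) := by group
          _ = 1 := by rw [h3, inv_mul_cancel])
  have hn01 : ¬ Commute (F.u 0) (F.u 1) := fun h => absurd (F.nc 0 1 h) (by decide)
  obtain ⟨a, ha⟩ : ∃ a, a = F.u 0 * F.u 1 := ⟨_, rfl⟩
  have haQ : a ∈ Q := ha ▸ Q.mul_mem (F.mem 0) (F.mem 1)
  have ha2 : a ^ 2 ≠ 1 := fun e => hn01 (by
    rw [pow_two, ha] at e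
    have := eq_inv_of_mul_eq_one_left e
    rw [mul_inv_rev, inv_eq_of_mul_eq_one_right (F.sq 0), inv_eq_of_mul_eq_one_right (F.sq 1)] at this
    exact this)
  have hba : F.u 0 * a * (F.u 0)⁻¹ = a⁻¹ := by
    rw [ha, mul_inv_rev, inv_eq_of_mul_eq_one_right (F.sq 1), ← mul_assoc, F.sq 0, one_mul]
  have hnba : ¬ Commute (F.u 0) a := fun h => hn01 (by
    rw [ha] at h
    show F.u 0 * F.u 1 = F.u 1 * F.u 0
    have h' : F.u 0 * (F.u 0 * F.u 1) = F.u 0 * F.u 1 * F.u 0 := h.eq
    rw [mul_assoc (F.u 0)] at h'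
    exact mul_left_cancel h')
  obtain ⟨f, hf, hfc⟩ := exists_dihedral (q_pow_four F haQ) ha2 (F.sq 0) hba hnba
  have hfy : ∀ e, Commute (f e) t ∧ Commute (f e) y := fun e =>
    ⟨(hfc t (F.cen_Q haQ).symm (F.cen_Q (F.mem 0)).symm e).symm,
      (hfc y (ha ▸ hy0.mul_right hy1c) hy0 e).symm⟩
  refine ⟨y, hord, hyt, le_antisymm ?_ ?_, f, hf, hfy⟩
  · -- at most 24
    let Fix := {v : Fin 5 → ZMod 2 // Even5 v ∧ actv σ v = v}
    have hex : ∀ x : {x : G // Commute x t ∧ Commute x y}, ∃ k : Fin 3, ∃ q ∈ Q, Commute q y ∧ (x : G) = q * y ^ (k : ℕ) := by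
      rintro ⟨x, hxt, hxy⟩
      have hcomm : F.π (cen t hxt) * σ = σ * F.π (cen t hxt) := by
        rw [← hdσ, ← map_mul, ← map_mul]
        exact congrArg F.π (Subtype.ext (show x * (d : G) = d * x from hy ▸ hxy.eq))
      obtain ⟨k, hk⟩ := hσc _ hcomm
      refine ⟨k, x * (y ^ (k : ℕ))⁻¹, ?_, hxy.mul_left ((Commute.refl y).pow_left _).inv_left,
        (inv_mul_cancel_right x _).symm⟩
      have := (F.ker (cen t hxt * (d ^ (k : ℕ))⁻¹)).1 (by rw [map_mul, map_inv, map_pow, hdσ, hk, mul_inv_cancel])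
      simpa [hy, cen] using this
    choose kx qx hqQ hqy hx using hex
    have hfix : ∀ x, Even5 (F.vec (qx x)) ∧ actv σ (F.vec (qx x)) = F.vec (qx x) := fun x =>
      ⟨F.vec_facts.1 _ (hqQ x), by
        rw [← hdσ, ← F.vconj d (hqQ x), ← hy, ← (hqy x).eq, mul_inv_cancel_right]⟩
    let rep : (Fin 5 → ZMod 2) → G := fun v => if h : ∃ q ∈ Q, F.vec q = v then h.choose else 1
    let Φ : {x : G // Commute x t ∧ Commute x y} → Fin 3 × Fix × Bool := fun x =>
      (kx x, ⟨F.vec (qx x), hfix x⟩, decide (qx x = rep (F.vec (qx x))))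
    have hΦ : Function.Injective Φ := by
      intro x x' e
      simp only [Φ, Prod.mk.injEq, Subtype.mk.injEq] at e
      obtain ⟨e1, e2', e3⟩ := e
      have e2 : F.vec (qx x) = F.vec (qx x') := by
        first
          | exact e2'
          | exact congrArg Subtype.val e2'
      have hh : ∃ q ∈ Q, F.vec q = F.vec (qx x) := ⟨_, hqQ x, rfl⟩
      have hr : rep (F.vec (qx x)) ∈ Q ∧ F.vec (rep (F.vec (qx x))) = F.vec (qx x) := by
        simp only [rep, dif_pos hh]; exact hh.choose_spec
      have hq : qx x = qx x' := by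
        rw [← e2] at e3
        rcases F.vec_eq (hqQ x) hr.1 hr.2.symm with h | h
        · rw [decide_eq_true h] at e3
          exact h.trans (of_decide_eq_true e3.symm).symm
        · rcases F.vec_eq (hqQ x') hr.1 (e2.symm.trans hr.2.symm) with h' | h'
          · rw [decide_eq_true h', decide_eq_true_iff] at e3
            exact e3.trans h'.symm
          · exact h.trans h'.symm
      exact Subtype.ext (by rw [hx x, hx x', e1, hq])
    have := Nat.card_le_card_of_injective Φ hΦ
    have hFix : Nat.card Fix = 4 := by rw [Nat.card_eq_fintype_card, Fintype.card_subtype, hσv]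
    rw [Nat.card_prod, Nat.card_prod, hFix, Nat.card_fin, Nat.card_eq_fintype_card (α := Bool), Fintype.card_bool] at this
    exact this
  · let H : Subgroup G := Subgroup.centralizer ({t} : Set G) ⊓ Subgroup.centralizer ({y} : Set G)
    have e : {x : G // Commute x t ∧ Commute x y} ≃ H := Equiv.subtypeEquivRight fun x => by
      simp only [H, Subgroup.mem_inf, Subgroup.mem_centralizer_singleton_iff]
      rfl
    rw [Nat.card_congr e]
    have h8 : 8 ∣ Nat.card H := by
      have hle : f.range ≤ H := by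
        rintro _ ⟨e, rfl⟩
        exact ⟨Subgroup.mem_centralizer_singleton_iff.2 (hfy e).1.eq,
          Subgroup.mem_centralizer_singleton_iff.2 (hfy e).2.eq⟩
      have := Subgroup.card_dvd_of_le hle
      rwa [← Nat.card_congr (MonoidHom.ofInjective hf).toEquiv, DihedralGroup.nat_card] at this
    have h3 : 3 ∣ Nat.card H := by
      have hle : Subgroup.zpowers y ≤ H := Subgroup.zpowers_le.2
        ⟨Subgroup.mem_centralizer_singleton_iff.2 hyt.eq, Subgroup.mem_centralizer_singleton_iff.2 rfl⟩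
      have := Subgroup.card_dvd_of_le hle
      rwa [Nat.card_zpowers, hord] at this
    exact Nat.le_of_dvd Nat.card_pos (Nat.Coprime.mul_dvd_of_dvd_of_dvd (by norm_num : Nat.Coprime 3 8) h3 h8)

theorem commute_conj_iff' (g : G) {x y : G} : Commute (g * x * g⁻¹) (g * y * g⁻¹) ↔ Commute x y :=
  Commute.conj_iff g

/-- centralizers of an element of order three and of an involution commuting with it -/
theorem pair_card (F : Frame t Q) (hone : ∀ x : G, orderOf x = 2 → IsConj t x) {y0 : G} (hy0 : orderOf y0 = 3)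
    (hy0t : Commute y0 t) {u y : G} (hu : orderOf u = 2) (hy : orderOf y = 3) (hyu : Commute y u) :
    ∃ g : G, (∀ x, Commute x u ↔ Commute (g * x * g⁻¹) t) ∧ ∀ x, Commute x y ↔ Commute (g * x * g⁻¹) y0 := by
  classical
  haveI : Fact (Nat.Prime 3) := ⟨Nat.prime_three⟩
  obtain ⟨g, hg⟩ := isConj_iff.1 (hone u hu).symm
  set C := Subgroup.centralizer ({t} : Set G)
  have h1 : g * y * g⁻¹ ∈ C := Subgroup.mem_centralizer_singleton_iff.2 (hg ▸ (Commute.conj_iff g).2 hyu).eq
  have h2 : y0 ∈ C := Subgroup.mem_centralizer_singleton_iff.2 hy0t.eq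
  let a : C := ⟨g * y * g⁻¹, h1⟩
  let b : C := ⟨y0, h2⟩
  have ha : orderOf a = 3 := by
    rw [← Subgroup.orderOf_coe]
    show orderOf (MulAut.conj g y) = 3
    rw [MulEquiv.orderOf_eq, hy]
  have hb : orderOf b = 3 := by rw [← Subgroup.orderOf_coe]; exact hy0
  have hfac : 3 ^ (Nat.card C).factorization 3 = 3 := by
    have := card_centralizer F
    show 3 ^ (Nat.card C).factorization 3 = 3
    rw [this]
    have : (1920 : ℕ).factorization 3 = 1 := by
      rw [show (1920 : ℕ) = 3 * 640 from rfl, Nat.factorization_mul (by norm_num) (by norm_num)]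
      simp [Nat.prime_three.factorization_self, Nat.factorization_eq_zero_of_not_dvd (show ¬ 3 ∣ 640 by norm_num)]
    rw [this, pow_one]
  let Pa : Sylow 3 C := Sylow.ofCard (Subgroup.zpowers a) (by rw [Nat.card_zpowers, ha, hfac])
  let Pb : Sylow 3 C := Sylow.ofCard (Subgroup.zpowers b) (by rw [Nat.card_zpowers, hb, hfac])
  obtain ⟨c, hc⟩ := MulAction.exists_smul_eq C Pa Pb
  have hcm : Subgroup.zpowers (c * a * c⁻¹) = Subgroup.zpowers b := by
    have h := congrArg (fun P : Sylow 3 C => (P : Subgroup C)) hc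
    simp only [Sylow.coe_subgroup_smul, Pa, Pb, Sylow.coe_ofCard] at h
    rw [← h]
    exact (MonoidHom.map_zpowers (MulAut.conj c).toMonoidHom a).symm
  refine ⟨(c : G) * g, fun x => ?_, fun x => ?_⟩
  · rw [show (c : G) * g * x * ((c : G) * g)⁻¹ = c * (g * x * g⁻¹) * (c : G)⁻¹ by group]
    have hct : (c : G) * t * (c : G)⁻¹ = t := by
      rw [Subgroup.mem_centralizer_singleton_iff.1 c.2, mul_inv_cancel_right]
    conv_rhs => rw [← hct]
    rw [Commute.conj_iff, ← hg, Commute.conj_iff]
  · obtain ⟨w, hw⟩ : ∃ w, w = (c : G) * (g * y * g⁻¹) * (c : G)⁻¹ := ⟨_, rfl⟩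
    have hzp : Subgroup.zpowers w = Subgroup.zpowers y0 := by
      have := congrArg (Subgroup.map C.subtype) hcm
      simpa [MonoidHom.map_zpowers, a, b, hw] using this
    have key : ∀ z, Commute z w ↔ Commute z y0 := fun z => by
      constructor <;> intro h
      · obtain ⟨j, hj⟩ := Subgroup.mem_zpowers_iff.1 (hzp.ge (Subgroup.mem_zpowers y0))
        exact hj ▸ h.zpow_right j
      · obtain ⟨j, hj⟩ := Subgroup.mem_zpowers_iff.1 (hzp.le (Subgroup.mem_zpowers w))
        exact hj ▸ h.zpow_right j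
    rw [show (c : G) * g * x * ((c : G) * g)⁻¹ = c * (g * x * g⁻¹) * (c : G)⁻¹ by group, ← key, hw,
      Commute.conj_iff, Commute.conj_iff]

/-- the centralizer of an element of order three which commutes with an involution -/
theorem three_centralizer (F : Frame t Q) (ht : orderOf t = 2) (hone : ∀ x : G, orderOf x = 2 → IsConj t x)
    (h7 : ¬ 7 ∣ Nat.card G) {y0 : G} (hy0 : orderOf y0 = 3) (hy0t : Commute y0 t)
    (h24 : Nat.card {x : G // Commute x t ∧ Commute x y0} = 24) (f : DihedralGroup 4 →* G)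
    (hf : Function.Injective f) (hfc : ∀ d, Commute (f d) t ∧ Commute (f d) y0) :
    Nat.card (Subgroup.centralizer ({y0} : Set G)) = 1080 ∧
      ∀ P : Subgroup (Subgroup.centralizer ({y0} : Set G)), Nat.card P = 27 →
        (∀ a ∈ P, ∀ b ∈ P, a * b = b * a) → ∀ a ∈ P, a ^ 3 = 1 := by
  set K := Subgroup.centralizer ({y0} : Set G)
  have hy0K : y0 ∈ K := Subgroup.mem_centralizer_singleton_iff.2 rfl
  let fK : DihedralGroup 4 →* K := f.codRestrict K fun d => Subgroup.mem_centralizer_singleton_iff.2 (hfc d).2.eq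
  refine cover_structure (⟨y0, hy0K⟩ : K) ⟨t, Subgroup.mem_centralizer_singleton_iff.2 hy0t.symm.eq⟩
    (by rw [← Subgroup.orderOf_coe]; exact hy0) (fun k => Subtype.ext (Subgroup.mem_centralizer_singleton_iff.1 k.2))
    (by rw [← Subgroup.orderOf_coe]; exact ht) fK (fun a b e => hf (congrArg Subtype.val e))
    (fun d => Subtype.ext (hfc d).1.eq) (fun x hx => ?_) (fun h => h7 (h.trans (Subgroup.card_subgroup_dvd_card K)))
  rw [← Subgroup.orderOf_coe] at hx
  obtain ⟨g, h1, h2⟩ := pair_card F hone hy0 hy0t hx hy0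
    (show Commute y0 (x : G) from (Subgroup.mem_centralizer_singleton_iff.1 x.2).symm)
  rw [← h24]
  exact Nat.card_congr
    { toFun := fun k => ⟨g * ((k : K) : G) * g⁻¹,
        (h1 _).1 (congrArg Subtype.val (Subgroup.mem_centralizer_singleton_iff.1 k.2)),
        (h2 _).1 (Subgroup.mem_centralizer_singleton_iff.1 (k : K).2)⟩
      invFun := fun z => ⟨⟨g⁻¹ * z * g, Subgroup.mem_centralizer_singleton_iff.2 ((h2 _).2 (by
          rw [show g * (g⁻¹ * (z : G) * g) * g⁻¹ = z by group]; exact z.2.2)).eq⟩,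
        Subgroup.mem_centralizer_singleton_iff.2 (Subtype.ext ((h1 _).2 (by
          rw [show g * (g⁻¹ * (z : G) * g) * g⁻¹ = z by group]; exact z.2.1)).eq)⟩
      left_inv := fun k => Subtype.ext (Subtype.ext (show g⁻¹ * (g * ((k : K) : G) * g⁻¹) * g = _ by group))
      right_inv := fun z => Subtype.ext (show g * (g⁻¹ * (z : G) * g) * g⁻¹ = _ by group) }

/-- an elementary abelian subgroup of order 27 centralizing it -/
theorem exists_elementary (hg : Nat.card G = 50232960) {y0 : G} (hy0 : orderOf y0 = 3)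
    (hK : Nat.card (Subgroup.centralizer ({y0} : Set G)) = 1080 ∧
      ∀ P : Subgroup (Subgroup.centralizer ({y0} : Set G)), Nat.card P = 27 →
        (∀ a ∈ P, ∀ b ∈ P, a * b = b * a) → ∀ a ∈ P, a ^ 3 = 1) :
    ∃ A : Subgroup G, Nat.card A = 27 ∧ (∀ a ∈ A, ∀ b ∈ A, a * b = b * a) ∧ ∀ a ∈ A, a ^ 3 = 1 := by
  classical
  haveI : Fact (Nat.Prime 3) := ⟨Nat.prime_three⟩
  set K := Subgroup.centralizer ({y0} : Set G)
  obtain ⟨P, hP⟩ := Sylow.exists_subgroup_card_pow_prime (G := K) 3 (n := 3) (by rw [hK.1]; norm_num)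
  norm_num at hP
  have hPp : IsPGroup 3 P := IsPGroup.of_card (n := 3) (by rw [hP]; norm_num)
  have hab : ∀ a ∈ P, ∀ b ∈ P, a * b = b * a := by
    by_contra hnc
    have hmax : ∀ R : Subgroup K, P ≤ R → IsPGroup 3 R → R = P := fun R hle hR => by
      obtain ⟨k, hk⟩ := hR.exists_card_eq
      have hd : 3 ^ k ∣ 3 ^ 3 * 40 := by
        have := Subgroup.card_subgroup_dvd_card R
        rwa [hk, hK.1] at this
      have hk3 : 3 ^ k ∣ 3 ^ 3 := (Nat.Coprime.pow_left k (by norm_num)).dvd_of_dvd_mul_right hd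
      exact (Subgroup.eq_of_le_of_card_ge hle (by rw [hk, hP]; exact Nat.le_of_dvd (by norm_num) hk3)).symm
    -- the element of order three is in the subgroup
    let y : K := ⟨y0, Subgroup.mem_centralizer_singleton_iff.2 rfl⟩
    have hyc : ∀ k : K, Commute k y := fun k => Subtype.ext (Subgroup.mem_centralizer_singleton_iff.1 k.2)
    have hmem : ∀ z : K, (∀ a ∈ P, Commute a z) → (∃ j, orderOf z = 3 ^ j) → z ∈ P := by
      intro z hz ⟨j, hj⟩
      have hn : P ≤ Subgroup.normalizer ((Subgroup.zpowers z : Subgroup K) : Set K) := fun a ha =>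
        Subgroup.mem_normalizer_fintype fun w hw => by
          obtain ⟨i, rfl⟩ := Subgroup.mem_zpowers_iff.1 hw
          rw [((hz a ha).zpow_right i).eq, mul_inv_cancel_right]
          exact Subgroup.zpow_mem _ (Subgroup.mem_zpowers z) i
      have := hmax _ le_sup_left (hPp.to_sup_of_normal_right'
        (IsPGroup.of_card (n := j) (by rw [Nat.card_zpowers, hj])) hn)
      rw [← this]
      exact Subgroup.mem_sup_right (Subgroup.mem_zpowers z)
    have hyP : y ∈ P := hmem y (fun a _ => hyc a) ⟨1, by rw [← Subgroup.orderOf_coe]; exact hy0⟩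
    -- a Sylow subgroup of the group
    obtain ⟨S, hS⟩ := (hPp.map K.subtype).exists_le_sylow
    haveI : Nontrivial (S : Subgroup G) := ⟨⟨⟨y0, hS ⟨y, hyP, rfl⟩⟩, 1, fun e => by
      have : y0 = 1 := congrArg Subtype.val e
      rw [this, orderOf_one] at hy0; omega⟩⟩
    haveI := S.isPGroup'.center_nontrivial
    obtain ⟨⟨z, hzc⟩, hz1⟩ := exists_ne (1 : Subgroup.center (S : Subgroup G))
    have hzS : ∀ s ∈ (S : Subgroup G), Commute s (z : G) := fun s hs =>
      congrArg Subtype.val (Subgroup.mem_center_iff.1 hzc ⟨s, hs⟩)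
    have hzK : (z : G) ∈ K := Subgroup.mem_centralizer_singleton_iff.2 (hzS y0 (hS ⟨y, hyP, rfl⟩)).symm.eq
    obtain ⟨j, hj⟩ := IsPGroup.iff_orderOf.1 S.isPGroup' z
    have hzP : (⟨z, hzK⟩ : K) ∈ P := hmem _ (fun a ha => Subtype.ext (hzS _ (hS ⟨a, ha, rfl⟩)).eq)
      ⟨j, by rw [← Subgroup.orderOf_coe]; rw [← Subgroup.orderOf_coe] at hj; exact hj⟩
    -- the centre of the subgroup has order three
    set Z := Subgroup.center P
    have hZ3 : Nat.card Z = 3 := by
      haveI : Nontrivial P := Finite.one_lt_card_iff_nontrivial.1 (by omega)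
      obtain ⟨k, hk0, hk⟩ := IsPGroup.card_center_eq_prime_pow (p := 3) (G := P) (n := 3) (by rw [hP]; norm_num) (by norm_num)
      have h1 := Z.card_mul_index
      rw [hP, hk] at h1
      by_contra hne
      have hk2 : 2 ≤ k := by
        rcases Nat.lt_or_ge k 2 with h | h
        · have : k = 1 := by omega
          rw [this] at hk; exact absurd hk hne
        · exact h
      have : 3 ^ 2 ≤ 3 ^ k := Nat.pow_le_pow_right (by norm_num) hk2
      have hidx : Z.index ≤ 3 := by nlinarith
      haveI : IsCyclic (P ⧸ Z) := by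
        have hd : Z.index ∣ 27 := Dvd.intro_left _ h1
        have h0 : Z.index ≠ 0 := Subgroup.index_ne_zero_of_finite
        rcases Nat.lt_or_ge 1 Z.index with h | h
        · exact isCyclic_of_prime_card (p := 3) (by
            rw [← Subgroup.index_eq_card]
            interval_cases hi : Z.index <;> simp_all)
        · haveI : Subsingleton (P ⧸ Z) := Finite.card_le_one_iff_subsingleton.1 (by rw [← Subgroup.index_eq_card]; omega)
          exact isCyclic_of_subsingleton
      exact hnc fun a ha b hb => congrArg Subtype.val (commutative_of_cyclic_center_quotient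
        (QuotientGroup.mk' Z) (by rw [QuotientGroup.ker_mk']) (⟨a, ha⟩ : P) ⟨b, hb⟩)
    have hyZ : (⟨y, hyP⟩ : P) ∈ Z := Subgroup.mem_center_iff.2 fun a => Subtype.ext (hyc a).eq
    have hzZ : (⟨⟨z, hzK⟩, hzP⟩ : P) ∈ Z := Subgroup.mem_center_iff.2 fun a =>
      Subtype.ext (Subtype.ext (hzS _ (hS ⟨a, a.2, rfl⟩)).eq)
    have hne : (⟨_, hzZ⟩ : Z) ≠ 1 := fun e => hz1 (Subtype.ext (Subtype.ext
      (congrArg (fun w : Z => (((w : P) : K) : G)) e)))
    obtain ⟨i, hi⟩ := Subgroup.mem_zpowers_iff.1 ((zpowers_eq_top_of_prime_card hZ3 hne).ge (Subgroup.mem_top (⟨_, hyZ⟩ : Z)))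
    have hi' : (z : G) ^ i = y0 := by
      simpa using congrArg (fun w : Z => (((w : P) : K) : G)) hi
    -- hence the Sylow subgroup centralizes the element
    have hle : (S : Subgroup G) ≤ K := fun s hs =>
      Subgroup.mem_centralizer_singleton_iff.2 (hi' ▸ (hzS s hs).zpow_right i).eq
    have h := Subgroup.card_dvd_of_le hle
    rw [hK.1] at h
    have h243 : 243 ∣ Nat.card (S : Subgroup G) := by
      have := S.pow_dvd_card_of_pow_dvd_card (n := 5) (by rw [hg]; norm_num)
      simpa using this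
    exact absurd (h243.trans h) (by norm_num)
  refine ⟨P.map K.subtype, ?_, ?_, ?_⟩
  · rw [Subgroup.card_map_of_injective K.subtype_injective, hP]
  · rintro _ ⟨a, ha, rfl⟩ _ ⟨b, hb, rfl⟩
    exact congrArg Subtype.val (hab a ha b hb)
  · rintro _ ⟨a, ha, rfl⟩
    rw [← map_pow, hK.2 P hP hab a ha, map_one]

/-- no element of order three has a centralizer with Sylow 3-subgroups of order nine -/
theorem no_nine (hg : Nat.card G = 50232960)
    (hA : ∃ A : Subgroup G, Nat.card A = 27 ∧ (∀ a ∈ A, ∀ b ∈ A, a * b = b * a) ∧ ∀ a ∈ A, a ^ 3 = 1)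
    {y : G} (hy : orderOf y = 3) (h27 : ¬ 27 ∣ Nat.card (Subgroup.centralizer ({y} : Set G))) : False := by
  classical
  haveI : Fact (Nat.Prime 3) := ⟨Nat.prime_three⟩
  obtain ⟨A, hA27, hAc, hA3⟩ := hA
  obtain ⟨S, hS⟩ := (IsPGroup.of_card (p := 3) (n := 3) (G := A) (by rw [hA27]; norm_num)).exists_le_sylow
  obtain ⟨T, hT⟩ := (IsPGroup.of_card (p := 3) (n := 1) (G := Subgroup.zpowers y)
    (by rw [Nat.card_zpowers, hy, pow_one])).exists_le_sylow
  obtain ⟨g, hgT⟩ := MulAction.exists_smul_eq G T S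
  obtain ⟨y', hy'⟩ : ∃ y', y' = g * y * g⁻¹ := ⟨_, rfl⟩
  have hyS : y' ∈ (S : Subgroup G) := by
    rw [← hgT, Sylow.coe_subgroup_smul, hy']
    exact Subgroup.smul_mem_pointwise_smul y (MulAut.conj g) _ (hT (Subgroup.mem_zpowers y))
  have hS243 : Nat.card (S : Subgroup G) = 243 := by
    rw [S.card_eq_multiplicity, hg]
    have : (50232960 : ℕ).factorization 3 = 5 := by
      rw [show (50232960 : ℕ) = 3 ^ 5 * 206720 from rfl, Nat.factorization_mul (by norm_num) (by norm_num),
        Nat.prime_three.factorization_pow]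
      simp [Nat.factorization_eq_zero_of_not_dvd (show ¬ 3 ∣ 206720 by norm_num)]
    rw [this]; norm_num
  set ys : (S : Subgroup G) := ⟨y', hyS⟩
  have hys : orderOf ys = 3 := by
    rw [← Subgroup.orderOf_coe]
    show orderOf y' = 3
    rw [hy', show g * y * g⁻¹ = MulAut.conj g y from rfl, MulEquiv.orderOf_eq, hy]
  set C := Subgroup.centralizer ({ys} : Set (S : Subgroup G))
  have hCp : IsPGroup 3 C := S.isPGroup'.to_subgroup C
  -- it is at most nine
  have hle : Nat.card C ≤ 9 := by
    obtain ⟨k, hk⟩ := hCp.exists_card_eq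
    rcases Nat.lt_or_ge k 3 with h | h
    · rw [hk]; exact (Nat.pow_le_pow_right (by norm_num) (Nat.le_of_lt_succ h)).trans (by norm_num)
    · exfalso
      let ψ : C →* Subgroup.centralizer ({y} : Set G) :=
        ((MulAut.conj g⁻¹).toMonoidHom.comp ((S : Subgroup G).subtype.comp C.subtype)).codRestrict _ fun c => by
          refine Subgroup.mem_centralizer_singleton_iff.2 ?_
          have h := congrArg Subtype.val (Subgroup.mem_centralizer_singleton_iff.1 c.2)
          have h' : ((c : (S : Subgroup G)) : G) * y' = y' * ((c : (S : Subgroup G)) : G) := h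
          show g⁻¹ * ((c : (S : Subgroup G)) : G) * g⁻¹⁻¹ * y = y * (g⁻¹ * ((c : (S : Subgroup G)) : G) * g⁻¹⁻¹)
          rw [hy'] at h'
          calc g⁻¹ * ((c : (S : Subgroup G)) : G) * g⁻¹⁻¹ * y
              = g⁻¹ * (((c : (S : Subgroup G)) : G) * (g * y * g⁻¹)) * g := by group
            _ = _ := by rw [h']; group
      have hinj : Function.Injective ψ := fun a b e => by
        have := congrArg Subtype.val e
        exact Subtype.ext (Subtype.ext ((MulAut.conj g⁻¹).injective this))
      have := Subgroup.card_dvd_of_injective ψ hinj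
      rw [hk] at this
      exact h27 ((pow_dvd_pow 3 h).trans this)
  -- and at least nine
  have hge : 9 ≤ Nat.card C := by
    by_contra hlt
    haveI : Nontrivial (S : Subgroup G) := Finite.one_lt_card_iff_nontrivial.1 (by omega)
    haveI := S.isPGroup'.center_nontrivial
    obtain ⟨⟨z, hzc⟩, hz1⟩ := exists_ne (1 : Subgroup.center (S : Subgroup G))
    have hC3 : Nat.card C = 3 := by
      have hyC : ys ∈ C := Subgroup.mem_centralizer_singleton_iff.2 rfl
      have h1 : 3 ∣ Nat.card C := by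
        have := orderOf_dvd_natCard (⟨ys, hyC⟩ : C)
        rwa [Subgroup.orderOf_mk, hys] at this
      obtain ⟨k, hk⟩ := hCp.exists_card_eq
      have hk0 : k ≠ 0 := fun e => by rw [hk, e] at h1; norm_num at h1
      have : k ≤ 1 := by
        by_contra hk2
        have : 3 ^ 2 ≤ 3 ^ k := Nat.pow_le_pow_right (by norm_num) (by omega)
        omega
      rw [hk, show k = 1 by omega, pow_one]
    have hzC : z ∈ C := Subgroup.mem_centralizer_singleton_iff.2 (Subgroup.mem_center_iff.1 hzc ys).symm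
    have hne : (⟨z, hzC⟩ : C) ≠ 1 := fun e => hz1 (Subtype.ext (congrArg (fun w : C => (w : (S : Subgroup G))) e :))
    obtain ⟨i, hi⟩ := Subgroup.mem_zpowers_iff.1 ((zpowers_eq_top_of_prime_card hC3 hne).ge
      (Subgroup.mem_top (⟨ys, Subgroup.mem_centralizer_singleton_iff.2 rfl⟩ : C)))
    have hi' : z ^ i = ys := by simpa using congrArg Subtype.val hi
    have : C = ⊤ := eq_top_iff.2 fun s _ => Subgroup.mem_centralizer_singleton_iff.2
      (hi' ▸ Commute.zpow_right (show Commute s z from Subgroup.mem_center_iff.1 hzc s) i).eq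
    rw [this, Subgroup.card_top, hS243] at hC3
    omega
  refine no_nine_and_elem hS243 ys (by have := pow_orderOf_eq_one ys; rwa [hys] at this) (le_antisymm hle hge)
    (A.subgroupOf S) ?_ ?_ ?_
  · rw [Nat.card_congr (Subgroup.subgroupOfEquivOfLe hS).toEquiv, hA27]
  · exact fun a ha b hb => Subtype.ext (hAc _ ha _ hb)
  · exact fun a ha => Subtype.ext (by simpa using hA3 _ ha)

end Cfsg.Agent.Spor.JThree
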