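import Mathlib
import Cfsg.Agent.Lib.Spor.JThree.ThreeLocal

/-!
Groups of J₃-type: the normalizers of the Sylow subgroups for the primes 17 and 19.
-/

set_option autoImplicit false
set_option linter.style.haveILetI false
set_option linter.unusedSectionVars false
set_option maxHeartbeats 1000000

namespace Cfsg.Agent.Spor.JThree

universe u

/-- the numerical possibilities -/
def okPair (p : ℕ) (me : ℕ × ℕ) : Bool :=
  Nat.beq (50232960 % (p * me.1 * me.2)) 0 && Nat.beq (50232960 / (p * me.1 * me.2) % p) 1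

/-- odd numbers dividing `3^5·5·17` or `3^5·5·19` -/
def oddPart (q : ℕ) : List ℕ :=
  [1, 3, 9, 27, 81, 243].flatMap fun a => [a, a * 5, a * q, a * 5 * q]

theorem mem_oddPart {q m : ℕ} (hq : q.Prime) (h : m ∣ 3 ^ 5 * 5 * q) : m ∈ oddPart q := by
  obtain ⟨ab, c, hab, hc, rfl⟩ := (Nat.dvd_mul.1 h)
  obtain ⟨a, b, ha, hb, rfl⟩ := (Nat.dvd_mul.1 hab)
  obtain ⟨i, hi, rfl⟩ := (Nat.dvd_prime_pow Nat.prime_three).1 ha
  simp only [oddPart, List.mem_flatMap]
  refine ⟨3 ^ i, by interval_cases i <;> norm_num, ?_⟩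
  rcases (Nat.dvd_prime (by norm_num)).1 hb with rfl | rfl <;>
    rcases (Nat.dvd_prime hq).1 hc with rfl | rfl <;> simp

theorem scan19 : ∀ m ∈ oddPart 17, ∀ e ∈ [1, 2, 3, 6, 9, 18], okPair 19 (m, e) = true →
    e = 1 ∨ (m, e) ∈ [(1, 9), (3, 3), (153, 9), (459, 3)] := by decide +kernel

theorem scan17 : ∀ m ∈ oddPart 19, ∀ e ∈ [1, 2, 4, 8, 16], okPair 17 (m, e) = true →
    e = 1 ∨ e = 16 ∨ (m, e) ∈ [(1, 8), (19, 4), (171, 8)] := by decide +kernel

theorem n19 : ∀ n ∈ Nat.divisors 405, n % 19 = 1 → n = 1 := by decide +kernel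

variable {G : Type u} [Group G] [Finite G]

/-- the facts about the group which are used -/
structure Facts (G : Type u) [Group G] [Finite G] : Prop where
  card : Nat.card G = 50232960
  simple : IsSimpleGroup G
  no_invol : ∀ x u : G, orderOf u = 2 → Commute x u → ¬ 19 ∣ orderOf x ∧ ¬ 17 ∣ orderOf x
  no_sixteen : ∀ x : G, orderOf x ≠ 16
  three : ∀ y : G, orderOf y = 3 → (∃ u : G, orderOf u = 2 ∧ Commute y u) →
    Nat.card (Subgroup.centralizer ({y} : Set G)) = 1080
  no_nine : ∀ y : G, orderOf y = 3 → 27 ∣ Nat.card (Subgroup.centralizer ({y} : Set G))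

variable {p : ℕ} [Fact p.Prime]

theorem card_sylow_eq (F : Facts G) (hp : p = 17 ∨ p = 19) (X : Sylow p G) : Nat.card (X : Subgroup G) = p := by
  rw [X.card_eq_multiplicity, F.card]
  rcases hp with rfl | rfl
  · have h : (50232960 : ℕ).factorization 17 = 1 := by
      rw [show (50232960 : ℕ) = 17 * 2954880 from rfl, Nat.factorization_mul (by norm_num) (by norm_num)]
      simp [(Fact.out : Nat.Prime 17).factorization_self, Nat.factorization_eq_zero_of_not_dvd (show ¬ 17 ∣ 2954880 by norm_num)]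
    rw [h, pow_one]
  · have h : (50232960 : ℕ).factorization 19 = 1 := by
      rw [show (50232960 : ℕ) = 19 * 2643840 from rfl, Nat.factorization_mul (by norm_num) (by norm_num)]
      simp [(Fact.out : Nat.Prime 19).factorization_self, Nat.factorization_eq_zero_of_not_dvd (show ¬ 19 ∣ 2643840 by norm_num)]
    rw [h, pow_one]

theorem orderOf_gen {X : Subgroup G} (hX : Nat.card X = p) {x : G} (hx : x ∈ X) (hx1 : x ≠ 1) : orderOf x = p := by
  have h1 := orderOf_dvd_natCard (⟨x, hx⟩ : X)
  rw [Subgroup.orderOf_mk, hX] at h1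
  exact ((Nat.dvd_prime (Fact.out : p.Prime)).1 h1).resolve_left (mt orderOf_eq_one_iff.1 hx1)

/-- the centralizer of the Sylow subgroup is odd -/
theorem cent_odd (F : Facts G) (hp : p = 17 ∨ p = 19) (X : Sylow p G) :
    Odd (Nat.card (Subgroup.centralizer ((X : Subgroup G) : Set G))) := by
  rw [← Nat.not_even_iff_odd]
  intro he
  haveI : Fact (Nat.Prime 2) := ⟨Nat.prime_two⟩
  obtain ⟨u, hu⟩ := exists_prime_orderOf_dvd_card' 2 (even_iff_two_dvd.1 he)
  have hX := card_sylow_eq F hp X
  haveI : Nontrivial (X : Subgroup G) := Finite.one_lt_card_iff_nontrivial.1 (by rw [hX]; exact (Fact.out : p.Prime).one_lt)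
  obtain ⟨x, hx⟩ := exists_ne (1 : (X : Subgroup G))
  have hox := orderOf_gen hX x.2 (fun e => hx (Subtype.ext e))
  obtain ⟨h19, h17⟩ := F.no_invol x u (by rw [Subgroup.orderOf_coe]; exact hu)
    (Subgroup.mem_centralizer_iff.1 u.2 x x.2)
  rcases hp with rfl | rfl
  · exact h17 (dvd_of_eq hox.symm)
  · exact h19 (dvd_of_eq hox.symm)

/-- the automizer -/
theorem auto_data (F : Facts G) (hp : p = 17 ∨ p = 19) (X : Sylow p G) :
    ∃ m e : ℕ, Nat.card (Subgroup.centralizer ((X : Subgroup G) : Set G)) = p * m ∧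
      Nat.card (Subgroup.normalizer ((X : Subgroup G) : Set G)) = p * m * e ∧ e ∣ p - 1 ∧ e ≠ 1 ∧
      Odd m ∧ okPair p (m, e) = true ∧
      ((Subgroup.centralizer ((X : Subgroup G) : Set G)).subgroupOf
        (Subgroup.normalizer ((X : Subgroup G) : Set G))).index = e ∧
      IsCyclic ((X : Subgroup G).normalizerMonoidHom.range) := by
  classical
  haveI := F.simple
  have hX := card_sylow_eq F hp X
  set C := Subgroup.centralizer ((X : Subgroup G) : Set G)
  set N := Subgroup.normalizer ((X : Subgroup G) : Set G)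
  haveI : IsCyclic (X : Subgroup G) := isCyclic_of_prime_card hX
  have hXC : (X : Subgroup G) ≤ C := fun a ha => Subgroup.mem_centralizer_iff.2 fun b hb => by
    exact congrArg Subtype.val ((IsMulCommutative.is_comm (M := (X : Subgroup G))).comm ⟨b, hb⟩ ⟨a, ha⟩)
  have hCN : C ≤ N := Subgroup.centralizer_le_normalizer _
  obtain ⟨m, hm⟩ : p ∣ Nat.card C := hX ▸ Subgroup.card_dvd_of_le hXC
  set ψ := (X : Subgroup G).normalizerMonoidHom
  have hker : ψ.ker = C.subgroupOf N := (X : Subgroup G).normalizerMonoidHom_ker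
  have hNC : Nat.card N = p * m * Nat.card ψ.range := by
    have h := ψ.ker.card_mul_index
    rw [Subgroup.index_ker, hker, Nat.card_congr (Subgroup.subgroupOfEquivOfLe hCN).toEquiv, hm] at h
    exact h.symm
  have hp1 : (Fact.out : p.Prime).one_lt = (Fact.out : p.Prime).one_lt := rfl
  have hecyc : IsCyclic ψ.range := by
    haveI : Fact (Nat.card (X : Subgroup G)).Prime := ⟨by rw [hX]; exact Fact.out⟩
    haveI : IsCyclic (ZMod (Nat.card (X : Subgroup G)))ˣ := inferInstance
    exact isCyclic_of_injective ((IsCyclic.mulAutMulEquiv (X : Subgroup G)).toMonoidHom.comp ψ.range.subtype)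
      ((IsCyclic.mulAutMulEquiv (X : Subgroup G)).injective.comp ψ.range.subtype_injective)
  have he : Nat.card ψ.range ∣ p - 1 := by
    have := Subgroup.card_subgroup_dvd_card ψ.range
    rwa [IsCyclic.card_mulAut, hX, Nat.totient_prime Fact.out] at this
  have he1 : Nat.card ψ.range ≠ 1 := by
    intro h1
    have hle : N ≤ C := by
      intro g hg
      have hbot : ψ.range = ⊥ := Subgroup.card_eq_one.1 h1
      have : (⟨g, hg⟩ : N) ∈ ψ.ker := by
        rw [MonoidHom.mem_ker, ← Subgroup.mem_bot, ← hbot]; exact ⟨_, rfl⟩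
      rw [hker] at this
      exact this
    have hc := MonoidHom.ker_transferSylow_isComplement' X hle
    rcases (inferInstance : (MonoidHom.transferSylow X hle).ker.Normal).eq_bot_or_eq_top with h | h
    · have := hc.card_mul
      rw [h, Subgroup.card_bot, one_mul, hX, F.card] at this
      rcases hp with rfl | rfl <;> norm_num at this
    · have := hc.disjoint
      rw [h, top_disjoint] at this
      rw [this, Subgroup.card_bot] at hX
      exact absurd hX.symm (Fact.out : p.Prime).one_lt.ne'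
  refine ⟨m, Nat.card ψ.range, hm, hNC, he, he1, ?_, ?_, ?_, hecyc⟩
  · have := cent_odd F hp X
    rw [show Nat.card C = p * m from hm] at this
    exact (Nat.odd_mul.1 this).2
  · have h1 : Nat.card (Sylow p G) % p = 1 % p := card_sylow_modEq_one p G
    rw [X.card_eq_index_normalizer, Nat.one_mod_eq_one.2 (Fact.out : p.Prime).one_lt.ne'] at h1
    have h2 : Nat.card N * N.index = 50232960 := by rw [Subgroup.card_mul_index, F.card]
    have h3 : (50232960 : ℕ) % (p * m * Nat.card ψ.range) = 0 := by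
      rw [← hNC, ← h2]; exact Nat.mul_mod_right _ _
    have h4 : 50232960 / (p * m * Nat.card ψ.range) = N.index := by
      rw [← hNC, ← h2, Nat.mul_div_cancel_left _ Nat.card_pos]
    simp only [okPair, h3, h4, Bool.and_eq_true]
    exact ⟨rfl, Nat.beq_eq ▸ h1⟩
  · rw [← hker, Subgroup.index_ker]

theorem sixteen_ne (F : Facts G) {N : Type*} [Group N] [Finite N] (f : N →* G) (hf : Function.Injective f)
    {M : Type*} [Group M] [Finite M] (ψ : N →* M) [IsCyclic ψ.range] : ¬ 16 ∣ Nat.card ψ.range := by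
  intro h
  obtain ⟨g, hg⟩ := IsCyclic.exists_ofOrder_eq_natCard (α := ψ.range)
  obtain ⟨x, hx⟩ := g.2
  have h1 : 16 ∣ orderOf (f x) := by
    rw [orderOf_injective f hf]
    refine h.trans ?_
    rw [← hg, ← Subgroup.orderOf_coe, ← hx]
    exact orderOf_map_dvd ψ x
  exact F.no_sixteen (f x ^ (orderOf (f x) / 16)) (orderOf_pow_orderOf_div (orderOf_pos (f x)).ne' h1)

/-- a subgroup of odd order containing the Sylow subgroup and an element of order `q` commuting with it -/
theorem normalizes_of_count {q : ℕ} {H : Subgroup G} (X : Sylow p G) (hXH : (X : Subgroup G) ≤ H)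
    (hq : q ∣ Nat.card ↥(H ⊓ Subgroup.normalizer ((X : Subgroup G) : Set G))) (r : ℕ) (hr : Nat.card H ∣ q * r)
    (hn : ∀ n ∈ Nat.divisors r, n % p = 1 → n = 1) (hr0 : r ≠ 0) :
    H ≤ Subgroup.normalizer ((X : Subgroup G) : Set G) := by
  classical
  set N := Subgroup.normalizer ((X : Subgroup G) : Set G)
  let XH : Sylow p H := X.subtype hXH
  have h1 : Nat.card (Sylow p H) % p = 1 % p := card_sylow_modEq_one p H
  rw [XH.card_eq_index_normalizer, Nat.one_mod_eq_one.2 (Fact.out : p.Prime).one_lt.ne'] at h1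
  have hN : Subgroup.normalizer (XH : Set H) = N.subgroupOf H := by
    ext a
    show a ∈ Subgroup.normalizer ((XH : Subgroup H) : Set H) ↔ _
    rw [Subgroup.mem_subgroupOf, Subgroup.mem_normalizer_iff, Subgroup.mem_normalizer_iff]
    refine ⟨fun h b => ?_, fun h b => ?_⟩
    · constructor <;> intro hb
      · exact (h ⟨b, hXH hb⟩).1 hb
      · have hb' : b ∈ H := by
          have := H.mul_mem (H.mul_mem (H.inv_mem a.2) (hXH hb)) a.2
          simpa [mul_assoc] using this
        exact (h ⟨b, hb'⟩).2 hb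
    · exact h (b : G)
  rw [hN] at h1
  have h2 : Nat.card ↥(N.subgroupOf H) * (N.subgroupOf H).index = Nat.card H := Subgroup.card_mul_index _
  have h3 : Nat.card ↥(N.subgroupOf H) = Nat.card ↥(H ⊓ N) := by
    rw [← Nat.card_congr (Subgroup.subgroupOfEquivOfLe (inf_le_left : H ⊓ N ≤ H)).toEquiv, Subgroup.inf_subgroupOf_left]
  obtain ⟨c, hc⟩ := hq
  rw [h3, hc] at h2
  have hq0 : q ≠ 0 := by
    rintro rfl
    rw [zero_mul] at hc
    exact Nat.card_pos.ne' hc
  have hdiv : (N.subgroupOf H).index ∣ r := by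
    have : q * (c * (N.subgroupOf H).index) ∣ q * r := by rw [← mul_assoc, h2]; exact hr
    exact (dvd_mul_left _ c).trans ((Nat.mul_dvd_mul_iff_left (Nat.pos_of_ne_zero hq0)).1 this)
  have := hn _ (Nat.mem_divisors.2 ⟨hdiv, hr0⟩) h1
  exact fun a ha => Subgroup.subgroupOf_eq_top.1 (Subgroup.index_eq_one.1 this) ha

theorem odd_le_centralizer {X : Sylow p G} {H : Subgroup G} (hn : H ≤ Subgroup.normalizer ((X : Subgroup G) : Set G))
    (hX : Nat.card (X : Subgroup G) = p) (hc : (Nat.card H).Coprime (p - 1)) :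
    H ≤ Subgroup.centralizer ((X : Subgroup G) : Set G) := by
  haveI : IsCyclic (X : Subgroup G) := isCyclic_of_prime_card hX
  let φ := (X : Subgroup G).normalizerMonoidHom.comp (Subgroup.inclusion hn)
  intro a ha
  have h1 : orderOf (φ ⟨a, ha⟩) ∣ Nat.card H := (orderOf_map_dvd φ _).trans (orderOf_dvd_natCard _)
  have h2 : orderOf (φ ⟨a, ha⟩) ∣ p - 1 := by
    have := orderOf_dvd_natCard (φ ⟨a, ha⟩)
    rwa [IsCyclic.card_mulAut, hX, Nat.totient_prime Fact.out] at this
  have h3 : (X : Subgroup G).normalizerMonoidHom ⟨a, hn ha⟩ = 1 := orderOf_eq_one_iff.1 (Nat.eq_one_of_dvd_coprimes hc h1 h2)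
  have h4 : (⟨a, hn ha⟩ : Subgroup.normalizer ((X : Subgroup G) : Set G)) ∈ (X : Subgroup G).normalizerMonoidHom.ker :=
    MonoidHom.mem_ker.2 h3
  rw [Subgroup.normalizerMonoidHom_ker] at h4
  exact h4

theorem m_mem {m q : ℕ} (hq : q.Prime) (hm : Odd m) (p : ℕ) (e : ℕ) (hn : p * m * e ∣ 50232960)
    (hpq : 50232960 = p * 2 ^ 7 * (3 ^ 5 * 5 * q)) (hp : 0 < p) : m ∈ oddPart q := by
  refine mem_oddPart hq ((Nat.Coprime.pow_right 7 (Nat.coprime_two_right.2 hm)).dvd_of_dvd_mul_left
    ((Nat.mul_dvd_mul_iff_left hp).1 ?_))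
  have h := (dvd_mul_right (p * m) e).trans hn
  rw [hpq, mul_assoc] at h
  exact h

/-- the possibilities for nineteen -/
theorem nineteen_cases (F : Facts G) [Fact (Nat.Prime 19)] (X : Sylow 19 G) :
    ∃ m e, Nat.card (Subgroup.centralizer ((X : Subgroup G) : Set G)) = 19 * m ∧
      Nat.card (Subgroup.normalizer ((X : Subgroup G) : Set G)) = 19 * m * e ∧
      (m, e) ∈ [(1, 9), (3, 3), (153, 9), (459, 3)] := by
  obtain ⟨m, e, hC, hN, he, he1, hm, hok, -, -⟩ := auto_data F (Or.inr rfl) X
  have hdvd : 19 * m * e ∣ 50232960 := by rw [← hN, ← F.card]; exact Subgroup.card_subgroup_dvd_card _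
  have h1 := m_mem (q := 17) (by norm_num) hm 19 e hdvd (by norm_num) (by norm_num)
  have h2 : e ∈ [1, 2, 3, 6, 9, 18] := by
    have := Nat.mem_divisors.2 ⟨he, by norm_num⟩
    rw [show Nat.divisors (19 - 1) = {1, 2, 3, 6, 9, 18} from by decide +kernel] at this
    simpa using this
  exact ⟨m, e, hC, hN, ((scan19 m h1 e h2 hok).resolve_left he1)⟩

/-- the possibilities for seventeen -/
theorem seventeen_cases (F : Facts G) [Fact (Nat.Prime 17)] (Y : Sylow 17 G) :
    ∃ m e, Nat.card (Subgroup.centralizer ((Y : Subgroup G) : Set G)) = 17 * m ∧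
      Nat.card (Subgroup.normalizer ((Y : Subgroup G) : Set G)) = 17 * m * e ∧
      (m, e) ∈ [(1, 8), (19, 4), (171, 8)] := by
  obtain ⟨m, e, hC, hN, he, he1, hm, hok, hidx, hcyc⟩ := auto_data F (Or.inl rfl) Y
  have hdvd : 17 * m * e ∣ 50232960 := by rw [← hN, ← F.card]; exact Subgroup.card_subgroup_dvd_card _
  have h1 := m_mem (q := 19) (by norm_num) hm 17 e hdvd (by norm_num) (by norm_num)
  have h2 : e ∈ [1, 2, 4, 8, 16] := by
    have := Nat.mem_divisors.2 ⟨he, by norm_num⟩
    rw [show Nat.divisors (17 - 1) = {1, 2, 4, 8, 16} from by decide +kernel] at this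
    simpa using this
  rcases (scan17 m h1 e h2 hok).resolve_left he1 with h16 | h
  · exfalso
    haveI := hcyc
    refine sixteen_ne F (Subgroup.normalizer ((Y : Subgroup G) : Set G)).subtype (Subgroup.subtype_injective _)
      (Y : Subgroup G).normalizerMonoidHom ?_
    rw [← Subgroup.index_ker, Subgroup.normalizerMonoidHom_ker, hidx, h16]
  · exact ⟨m, e, hC, hN, h⟩

/-- seventeen and nineteen do not commute -/
theorem no_seventeen_nineteen (F : Facts G) [Fact (Nat.Prime 17)] [Fact (Nat.Prime 19)] (X : Sylow 19 G) (Y : Sylow 17 G)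
    (h : (Y : Subgroup G) ≤ Subgroup.centralizer ((X : Subgroup G) : Set G)) : False := by
  obtain ⟨m, e, hC, hN, hme⟩ := nineteen_cases F X
  obtain ⟨m', e', hC', hN', hme'⟩ := seventeen_cases F Y
  set H := Subgroup.centralizer ((X : Subgroup G) : Set G)
  have hX := card_sylow_eq F (Or.inr rfl) X
  have hY := card_sylow_eq F (Or.inl rfl) Y
  have hXY : (X : Subgroup G) ≤ Subgroup.centralizer ((Y : Subgroup G) : Set G) :=
    Subgroup.le_centralizer_iff.1 h
  have h17 : 17 ∣ m := by
    have := Subgroup.card_dvd_of_le h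
    rw [hY, hC] at this
    exact (Nat.Coprime.dvd_mul_left (by norm_num)).1 this
  have hXH : (X : Subgroup G) ≤ H := fun a ha => Subgroup.mem_centralizer_iff.2 fun b hb => by
    haveI : IsCyclic (X : Subgroup G) := isCyclic_of_prime_card hX
    exact congrArg Subtype.val ((IsMulCommutative.is_comm (M := (X : Subgroup G))).comm ⟨b, hb⟩ ⟨a, ha⟩)
  have hm : m = 153 ∨ m = 459 := by
    simp only [List.mem_cons, Prod.mk.injEq, List.not_mem_nil, or_false] at hme
    rcases hme with ⟨rfl, -⟩ | ⟨rfl, -⟩ | ⟨rfl, -⟩ | ⟨rfl, -⟩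
    · norm_num at h17
    · norm_num at h17
    · exact Or.inl rfl
    · exact Or.inr rfl
  have hnorm : H ≤ Subgroup.normalizer ((Y : Subgroup G) : Set G) := by
    refine normalizes_of_count (q := 17 * 19) Y h ?_ 27 ?_ (by decide +kernel) (by norm_num)
    · refine Nat.Coprime.mul_dvd_of_dvd_of_dvd (by norm_num) ?_ ?_
      · exact (dvd_of_eq hY.symm).trans (Subgroup.card_dvd_of_le (le_inf h Subgroup.le_normalizer))
      · exact (dvd_of_eq hX.symm).trans (Subgroup.card_dvd_of_le
          (le_inf hXH (hXY.trans (Subgroup.centralizer_le_normalizer _))))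
    · rw [hC]
      rcases hm with rfl | rfl <;> norm_num
  have hle : H ≤ Subgroup.centralizer ((Y : Subgroup G) : Set G) := by
    refine odd_le_centralizer hnorm hY ?_
    rw [hC]
    rcases hm with rfl | rfl <;> norm_num
  have hd := Subgroup.card_dvd_of_le hle
  rw [hC, hC'] at hd
  have hm153 : m = 153 ∧ m' = 171 ∧ e' = 8 := by
    simp only [List.mem_cons, Prod.mk.injEq, List.not_mem_nil, or_false] at hme'
    rcases hm with rfl | rfl <;> rcases hme' with ⟨rfl, rfl⟩ | ⟨rfl, rfl⟩ | ⟨rfl, rfl⟩ <;> first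
      | exact ⟨rfl, rfl, rfl⟩
      | norm_num at hd
  obtain ⟨rfl, rfl, rfl⟩ := hm153
  have heq : H = Subgroup.centralizer ((Y : Subgroup G) : Set G) :=
    Subgroup.eq_of_le_of_card_ge hle (by rw [hC, hC'])
  -- the normalizer of the seventeen normalizes the nineteen
  have hsub : Subgroup.normalizer ((Y : Subgroup G) : Set G) ≤ Subgroup.normalizer ((X : Subgroup G) : Set G) := by
    intro g hg
    have hgH : g ∈ Subgroup.normalizer (H : Set G) := by
      rw [heq]
      refine Subgroup.mem_normalizer_fintype fun a ha => Subgroup.mem_centralizer_iff.2 fun b hb => ?_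
      have hb' : g⁻¹ * b * g ∈ (Y : Subgroup G) := (Subgroup.mem_normalizer_iff.1 hg _).2 (by
        rw [show g * (g⁻¹ * b * g) * g⁻¹ = b by group]; exact hb)
      have hab := Subgroup.mem_centralizer_iff.1 ha _ hb'
      calc b * (g * a * g⁻¹) = g * (g⁻¹ * b * g * a) * g⁻¹ := by group
        _ = _ := by rw [hab]; group
    haveI hn : ((X : Subgroup G).subgroupOf H).Normal := ⟨fun a ha b => by
      have hc : (b : G) * a = a * b := (Subgroup.mem_centralizer_iff.1 b.2 a ha).symm
      show (b : G) * a * (b : G)⁻¹ ∈ (X : Subgroup G)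
      rw [hc, mul_inv_cancel_right]; exact ha⟩
    haveI : Unique (Sylow 19 H) := Sylow.unique_of_normal (X.subtype hXH) hn
    refine Subgroup.mem_normalizer_fintype fun a ha => ?_
    have haH : g * a * g⁻¹ ∈ H := (Subgroup.mem_normalizer_iff.1 hgH a).1 (hXH ha)
    let a' : H := ⟨g * a * g⁻¹, haH⟩
    have hord : orderOf a' ∣ 19 := by
      rw [← Subgroup.orderOf_coe, show (a' : G) = MulAut.conj g a from rfl, MulEquiv.orderOf_eq, ← hX,
        ← Subgroup.orderOf_mk a ha]
      exact orderOf_dvd_natCard _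
    have hp : IsPGroup 19 (Subgroup.zpowers a') := by
      obtain ⟨k, -, hk⟩ := (Nat.dvd_prime_pow (by norm_num : Nat.Prime 19)).1 (by rw [pow_one]; exact hord : orderOf a' ∣ 19 ^ 1)
      exact IsPGroup.of_card (n := k) (by rw [Nat.card_zpowers, hk])
    obtain ⟨P, hP⟩ := hp.exists_le_sylow
    have := hP (Subgroup.mem_zpowers a')
    rw [Subsingleton.elim P (X.subtype hXH)] at this
    exact this
  have := Subgroup.card_dvd_of_le hsub
  rw [hN', hN] at this
  simp only [List.mem_cons, Prod.mk.injEq, List.not_mem_nil, or_false] at hme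
  rcases hme with ⟨h, rfl⟩ | ⟨h, rfl⟩ | ⟨h, rfl⟩ | ⟨h, rfl⟩ <;> first
    | (norm_num at h; done)
    | (norm_num at this; done)

theorem nineteen (F : Facts G) [Fact (Nat.Prime 17)] [Fact (Nat.Prime 19)] (X : Sylow 19 G) :
    Nat.card (Subgroup.centralizer ((X : Subgroup G) : Set G)) = 19 ∧
      Nat.card (Subgroup.normalizer ((X : Subgroup G) : Set G)) = 19 * 9 := by
  obtain ⟨m, e, hC, hN, hme⟩ := nineteen_cases F X
  have hX := card_sylow_eq F (Or.inr rfl) X
  simp only [List.mem_cons, Prod.mk.injEq, List.not_mem_nil, or_false] at hme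
  rcases hme with ⟨rfl, rfl⟩ | ⟨rfl, rfl⟩ | ⟨rfl, rfl⟩ | ⟨rfl, rfl⟩
  · exact ⟨by rw [hC], by rw [hN]⟩
  · exfalso
    haveI : Fact (Nat.Prime 3) := ⟨Nat.prime_three⟩
    obtain ⟨y', hy'⟩ := exists_prime_orderOf_dvd_card' 3 (show 3 ∣ Nat.card (Subgroup.centralizer ((X : Subgroup G) : Set G)) by rw [hC]; norm_num)
    obtain ⟨y, hy⟩ : ∃ y : G, y = (y' : G) := ⟨_, rfl⟩
    have hy3 : orderOf y = 3 := by rw [hy, Subgroup.orderOf_coe]; exact hy'
    set K := Subgroup.centralizer ({y} : Set G)
    have hXK : (X : Subgroup G) ≤ K := fun a ha => Subgroup.mem_centralizer_singleton_iff.2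
      (hy ▸ Subgroup.mem_centralizer_iff.1 y'.2 a ha)
    have h19 : 19 ∣ Nat.card K := by
      have := Subgroup.card_dvd_of_le hXK
      rwa [hX] at this
    have hodd : Odd (Nat.card K) := by
      rw [← Nat.not_even_iff_odd]
      intro he
      haveI : Fact (Nat.Prime 2) := ⟨Nat.prime_two⟩
      obtain ⟨u, hu⟩ := exists_prime_orderOf_dvd_card' 2 (even_iff_two_dvd.1 he)
      have h := F.three y hy3 ⟨u, by rw [Subgroup.orderOf_coe]; exact hu,
        (Subgroup.mem_centralizer_singleton_iff.1 u.2).symm⟩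
      change Nat.card K = 1080 at h
      rw [h] at h19
      norm_num at h19
    have h17 : ¬ 17 ∣ Nat.card K := by
      intro h
      obtain ⟨v, hv⟩ := exists_prime_orderOf_dvd_card' 17 h
      obtain ⟨Y, hY⟩ := (IsPGroup.of_card (p := 17) (n := 1) (G := Subgroup.zpowers (v : G))
        (by rw [Nat.card_zpowers, Subgroup.orderOf_coe, hv, pow_one])).exists_le_sylow
      have hYcard := card_sylow_eq F (Or.inl rfl) Y
      have hYeq : Subgroup.zpowers (v : G) = Y := Subgroup.eq_of_le_of_card_ge hY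
        (by rw [hYcard, Nat.card_zpowers, Subgroup.orderOf_coe, hv])
      obtain ⟨m', e', hC', -, hme'⟩ := seventeen_cases F Y
      have hyY : y ∈ Subgroup.centralizer ((Y : Subgroup G) : Set G) := by
        rw [← hYeq]
        refine Subgroup.mem_centralizer_iff.2 fun b hb => ?_
        obtain ⟨j, rfl⟩ := Subgroup.mem_zpowers_iff.1 hb
        exact ((show Commute y (v : G) from (Subgroup.mem_centralizer_singleton_iff.1 v.2).symm).zpow_right j).symm.eq
      have h3 : 3 ∣ 17 * m' := by
        rw [← hC', ← hy3, ← Subgroup.orderOf_mk y hyY]; exact orderOf_dvd_natCard _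
      simp only [List.mem_cons, Prod.mk.injEq, List.not_mem_nil, or_false] at hme'
      rcases hme' with ⟨rfl, -⟩ | ⟨rfl, -⟩ | ⟨rfl, -⟩
      · norm_num at h3
      · norm_num at h3
      · obtain ⟨w, hw⟩ := exists_prime_orderOf_dvd_card' 19 (show 19 ∣ Nat.card (Subgroup.centralizer ((Y : Subgroup G) : Set G)) by rw [hC']; norm_num)
        obtain ⟨X', hX'⟩ := (IsPGroup.of_card (p := 19) (n := 1) (G := Subgroup.zpowers (w : G))
          (by rw [Nat.card_zpowers, Subgroup.orderOf_coe, hw, pow_one])).exists_le_sylow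
        have hXe : Subgroup.zpowers (w : G) = X' := Subgroup.eq_of_le_of_card_ge hX'
          (by rw [card_sylow_eq F (Or.inr rfl) X', Nat.card_zpowers, Subgroup.orderOf_coe, hw])
        refine no_seventeen_nineteen F X' Y (Subgroup.le_centralizer_iff.1 ?_)
        rw [← hXe, Subgroup.zpowers_le]
        exact w.2
    have hdiv : Nat.card K ∣ 57 * 405 := by
      have h1 : Nat.card K ∣ 2 ^ 7 * (17 * (3 ^ 5 * 5 * 19)) := by
        have := Subgroup.card_subgroup_dvd_card K
        rw [F.card] at this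
        exact this.trans (by norm_num)
      exact ((((Fact.out : Nat.Prime 17).coprime_iff_not_dvd.2 h17).symm).dvd_of_dvd_mul_left
        ((Nat.Coprime.pow_right 7 (Nat.coprime_two_right.2 hodd)).dvd_of_dvd_mul_left h1)).trans (by norm_num)
    have hKN : K ≤ Subgroup.normalizer ((X : Subgroup G) : Set G) := by
      refine normalizes_of_count (q := 57) X hXK ?_ 405 hdiv n19 (by norm_num)
      refine Nat.Coprime.mul_dvd_of_dvd_of_dvd (m := 3) (n := 19) (by norm_num) ?_ ?_
      · rw [← hy3, ← Subgroup.orderOf_mk y (show y ∈ K ⊓ Subgroup.normalizer ((X : Subgroup G) : Set G) from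
          ⟨Subgroup.mem_centralizer_singleton_iff.2 rfl, Subgroup.centralizer_le_normalizer _ (hy ▸ y'.2)⟩)]
        exact orderOf_dvd_natCard _
      · exact (dvd_of_eq hX.symm).trans (Subgroup.card_dvd_of_le (le_inf hXK Subgroup.le_normalizer))
    have h27 := (F.no_nine y hy3).trans (Subgroup.card_dvd_of_le hKN)
    rw [hN] at h27
    norm_num at h27
  all_goals
    exfalso
    obtain ⟨v, hv⟩ := exists_prime_orderOf_dvd_card' 17 (show 17 ∣ Nat.card (Subgroup.centralizer ((X : Subgroup G) : Set G)) by rw [hC]; norm_num)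
    obtain ⟨Y, hY⟩ := (IsPGroup.of_card (p := 17) (n := 1) (G := Subgroup.zpowers (v : G))
      (by rw [Nat.card_zpowers, Subgroup.orderOf_coe, hv, pow_one])).exists_le_sylow
    have hYeq : Subgroup.zpowers (v : G) = Y := Subgroup.eq_of_le_of_card_ge hY
      (by rw [card_sylow_eq F (Or.inl rfl) Y, Nat.card_zpowers, Subgroup.orderOf_coe, hv])
    refine no_seventeen_nineteen F X Y ?_
    rw [← hYeq, Subgroup.zpowers_le]
    exact v.2

theorem seventeen (F : Facts G) [Fact (Nat.Prime 17)] [Fact (Nat.Prime 19)] (Y : Sylow 17 G) :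
    Nat.card (Subgroup.centralizer ((Y : Subgroup G) : Set G)) = 17 ∧
      Nat.card (Subgroup.normalizer ((Y : Subgroup G) : Set G)) = 17 * 8 := by
  obtain ⟨m, e, hC, hN, hme⟩ := seventeen_cases F Y
  simp only [List.mem_cons, Prod.mk.injEq, List.not_mem_nil, or_false] at hme
  rcases hme with ⟨rfl, rfl⟩ | ⟨rfl, rfl⟩ | ⟨rfl, rfl⟩
  · exact ⟨by rw [hC], by rw [hN]⟩
  all_goals
    exfalso
    obtain ⟨w, hw⟩ := exists_prime_orderOf_dvd_card' 19 (show 19 ∣ Nat.card (Subgroup.centralizer ((Y : Subgroup G) : Set G)) by rw [hC]; norm_num)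
    obtain ⟨X, hX⟩ := (IsPGroup.of_card (p := 19) (n := 1) (G := Subgroup.zpowers (w : G))
      (by rw [Nat.card_zpowers, Subgroup.orderOf_coe, hw, pow_one])).exists_le_sylow
    have hXe : Subgroup.zpowers (w : G) = X := Subgroup.eq_of_le_of_card_ge hX
      (by rw [card_sylow_eq F (Or.inr rfl) X, Nat.card_zpowers, Subgroup.orderOf_coe, hw])
    refine no_seventeen_nineteen F X Y (Subgroup.le_centralizer_iff.1 ?_)
    rw [← hXe, Subgroup.zpowers_le]
    exact w.2

/-- the final shape -/
theorem sylow_shape (F : Facts G) (hp : p = 17 ∨ p = 19) (X : Sylow p G) {e : ℕ}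
    (hC : Nat.card (Subgroup.centralizer ((X : Subgroup G) : Set G)) = p)
    (hN : Nat.card (Subgroup.normalizer ((X : Subgroup G) : Set G)) = p * e) :
    Subgroup.centralizer ((X : Subgroup G) : Set G) = X ∧
      ∃ h : ((X : Subgroup G).subgroupOf (Subgroup.normalizer ((X : Subgroup G) : Set G))).Normal,
        IsCyclic (↥(Subgroup.normalizer ((X : Subgroup G) : Set G)) ⧸ (X : Subgroup G).subgroupOf _) ∧
        Nat.card (↥(Subgroup.normalizer ((X : Subgroup G) : Set G)) ⧸ (X : Subgroup G).subgroupOf _) = e := by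
  obtain ⟨m, e', -, -, -, -, -, -, -, hcyc⟩ := auto_data F hp X
  have hX := card_sylow_eq F hp X
  haveI : IsCyclic (X : Subgroup G) := isCyclic_of_prime_card hX
  have hXC : (X : Subgroup G) ≤ Subgroup.centralizer ((X : Subgroup G) : Set G) := fun a ha =>
    Subgroup.mem_centralizer_iff.2 fun b hb =>
      congrArg Subtype.val ((IsMulCommutative.is_comm (M := (X : Subgroup G))).comm ⟨b, hb⟩ ⟨a, ha⟩)
  have hCX : Subgroup.centralizer ((X : Subgroup G) : Set G) = X :=
    (Subgroup.eq_of_le_of_card_ge hXC (by rw [hC, hX])).symm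
  refine ⟨hCX, Subgroup.normal_in_normalizer, ?_⟩
  have hker : (X : Subgroup G).normalizerMonoidHom.ker =
      (X : Subgroup G).subgroupOf (Subgroup.normalizer ((X : Subgroup G) : Set G)) := by
    rw [Subgroup.normalizerMonoidHom_ker, hCX]
  haveI := hcyc
  let e1 := (QuotientGroup.quotientMulEquivOfEq hker).symm.trans
    (QuotientGroup.quotientKerEquivRange (X : Subgroup G).normalizerMonoidHom)
  refine ⟨isCyclic_of_injective e1.toMonoidHom e1.injective, ?_⟩
  rw [← Subgroup.index_eq_card]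
  have h := Subgroup.card_mul_index ((X : Subgroup G).subgroupOf (Subgroup.normalizer ((X : Subgroup G) : Set G)))
  rw [Nat.card_congr (Subgroup.subgroupOfEquivOfLe Subgroup.le_normalizer).toEquiv, hX, hN] at h
  exact Nat.eq_of_mul_eq_mul_left (Fact.out : p.Prime).pos h

end Cfsg.Agent.Spor.JThree
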