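import Mathlib
import Cfsg.Agent.Lib.Spor.JThree.Main
import Cfsg.Agent.Lib.Spor.JThree.Primes

/-!
Groups of J₃-type satisfy the facts used for the primes 17 and 19.
-/

set_option autoImplicit false
set_option linter.style.haveILetI false
set_option linter.unusedSectionVars false

namespace Cfsg.Agent.Spor.JThree

open Cfsg.Agent.Lie Cfsg.Agent.Lie.HJType

universe u

variable {G : Type u} [Group G] [Finite G] [IsSimpleGroup G]

theorem facts_of_type (hone : ∀ x y : G, orderOf x = 2 → orderOf y = 2 → IsConj x y) (t : G) (ht : orderOf t = 2)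
    (E : Subgroup (Subgroup.centralizer ({t} : Set G))) [E.Normal] (hE : Nat.card E = 32) (hX : Cfsg.IsExtraspecial 2 E)
    (e : (Subgroup.centralizer ({t} : Set G)) ⧸ E ≃* alternatingGroup (Fin 5)) : Facts G := by
  classical
  haveI : Fact (Nat.Prime 2) := ⟨Nat.prime_two⟩
  have hg := card_of_one_class hone t ht E hE hX e
  obtain ⟨hS, hc, hq⟩ := J2Unique.setting_of_normal t ht E hX hE (core_self_cent t ht E hE hX e) e
  obtain ⟨F⟩ := exists_frame_of hS hc hq (exists_noncentral_invol hS hc)
  have hone' : ∀ x : G, orderOf x = 2 → IsConj t x := fun x hx => hone t x ht hx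
  have hC := card_centralizer F
  obtain ⟨y0, hy0, hy0t, h24, f, hf, hfc⟩ := exists_three F
  have hK := three_centralizer F ht hone' (by rw [hg]; norm_num) hy0 hy0t h24 f hf hfc
  refine ⟨hg, inferInstance, ?_, ?_, ?_, ?_⟩
  · intro x u hu hxu
    obtain ⟨g, rfl⟩ := isConj_iff.1 (hone' u hu)
    have hmem : g⁻¹ * x * g ∈ Subgroup.centralizer ({t} : Set G) := by
      refine Subgroup.mem_centralizer_singleton_iff.2 ?_
      calc g⁻¹ * x * g * t = g⁻¹ * (x * (g * t * g⁻¹)) * g := by group
        _ = g⁻¹ * ((g * t * g⁻¹) * x) * g := by rw [hxu.eq]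
        _ = t * (g⁻¹ * x * g) := by group
    have hd : orderOf x ∣ 1920 := by
      rw [← hC, show orderOf x = orderOf (g⁻¹ * x * g) by
        rw [show g⁻¹ * x * g = MulAut.conj g⁻¹ x by simp, MulEquiv.orderOf_eq], ← Subgroup.orderOf_mk _ hmem]
      exact orderOf_dvd_natCard _
    exact ⟨fun h => absurd (h.trans hd) (by norm_num), fun h => absurd (h.trans hd) (by norm_num)⟩
  · intro x hx
    have h2 : orderOf (x ^ 8) = 2 := by rw [orderOf_pow' _ (by norm_num), hx]; rfl
    obtain ⟨g, hg'⟩ := isConj_iff.1 (hone' _ h2)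
    let z : Subgroup.centralizer ({t} : Set G) := ⟨g⁻¹ * x * g, Subgroup.mem_centralizer_singleton_iff.2 (by
      have h : Commute x (g * t * g⁻¹) := hg'.symm ▸ Commute.self_pow x 8
      calc g⁻¹ * x * g * t = g⁻¹ * (x * (g * t * g⁻¹)) * g := by group
        _ = g⁻¹ * ((g * t * g⁻¹) * x) * g := by rw [h.eq]
        _ = t * (g⁻¹ * x * g) := by group)⟩
    have ho : orderOf z = 16 := by
      rw [← Subgroup.orderOf_coe, show (z : G) = MulAut.conj g⁻¹ x by simp [z], MulEquiv.orderOf_eq, hx]
    have h16 : F.π z ^ 16 = 1 := by rw [← map_pow, ← ho, pow_orderOf_eq_one, map_one]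
    have hQ : (z : G) ^ 2 ∈ E.map (Subgroup.centralizer ({t} : Set G)).subtype := by
      have := (F.ker (z ^ 2)).1 (by rw [map_pow, a5_sixteen _ h16])
      simpa using this
    have h8 : (z : G) ^ 8 = 1 := by
      rw [show 8 = 2 * 4 from rfl, pow_mul, q_pow_four F hQ]
    have := orderOf_dvd_of_pow_eq_one h8
    rw [Subgroup.orderOf_coe, ho] at this
    norm_num at this
  · intro y hy ⟨u, hu, hyu⟩
    obtain ⟨g, h1, h2⟩ := pair_card F hone' hy0 hy0t hu hy hyu
    refine Eq.trans ?_ hK.1
    exact Nat.card_congr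
      { toFun := fun k => ⟨g * (k : G) * g⁻¹, Subgroup.mem_centralizer_singleton_iff.2
          ((h2 _).1 (Subgroup.mem_centralizer_singleton_iff.1 k.2)).eq⟩
        invFun := fun z => ⟨g⁻¹ * z * g, Subgroup.mem_centralizer_singleton_iff.2 ((h2 _).2 (by
          rw [show g * (g⁻¹ * (z : G) * g) * g⁻¹ = z by group]
          exact Subgroup.mem_centralizer_singleton_iff.1 z.2)).eq⟩
        left_inv := fun k => Subtype.ext (show g⁻¹ * (g * (k : G) * g⁻¹) * g = _ by group)
        right_inv := fun z => Subtype.ext (show g * (g⁻¹ * (z : G) * g) * g⁻¹ = _ by group) }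
  · intro y hy
    by_contra h27
    exact no_nine hg (exists_elementary hg hy0 hK) hy h27

end Cfsg.Agent.Spor.JThree
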