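import Cfsg.Agent.Lib.Spor.JThree.Sys

/-!
# The short coordinate vectors
-/

set_option autoImplicit false
set_option maxRecDepth 100000

namespace Cfsg.Agent.Spor.JThree

/-- a vector with seven coordinates -/
def mk7 (f : ℕ → ℤ) : List ℤ := (List.range 7).map f

/-- the form on the nonprincipal coordinates -/
def hh (i j : ℕ) : ℤ := gram i j - cOne.getD i 0 * cOne.getD j 0

/-- scalar product of lists -/
def dotL : List ℤ → List ℤ → ℤ
  | a :: as, b :: bs => a * b + dotL as bs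
  | _, _ => 0

/-- the dual form -/
def qL (v : List ℤ) : ℤ := dotL v (adjL.map fun r => dotL r v)

/-- short range -/
def rngB (b : ℕ) : List ℤ := (List.range (2 * b + 1)).map fun k : ℕ => Int.ofNat k - b

/-- coordinate bound -/
def bndB (i : ℕ) : ℕ := if i < 4 then 1 else 2

/-- candidates with a given first coordinate -/
def boxTail (c0 : ℤ) (l : List ℤ) : List (List ℤ) :=
  l.flatMap fun a1 => (rngB 1).flatMap fun a2 => (rngB 1).flatMap fun a3 =>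
    (rngB 2).flatMap fun a4 => (rngB 2).flatMap fun a5 => (rngB 2).map fun a6 => [c0, a1, a2, a3, a4, a5, a6]

/-- the vectors with first coordinate one -/
def vecs0 : List (List ℤ) :=
  [[1, 0, -1, 0, 0, -1, 0], [1, 0, -1, 0, 0, 0, -1], [1, 0, -1, 0, 0, 0, 0], [1, 0, -1, 0, 1, 0, -1], [1, 0, -1, 0, 1, 0, 0], [1, 0, -1, 0, 1, 0, 1], [1, 0, -1, 0, 1, 1, 0], [1, 0, -1, 1, 0, 0, 0], [1, 0, -1, 1, 0, 1, 0], [1, 0, 0, 0, 0, -1, -1], [1, 0, 0, 0, 0, -1, 0], [1, 0, 0, 0, 0, -1, 1], [1, 0, 0, 0, 0, 0, 0], [1, 0, 0, 0, 0, 0, 1], [1, 0, 0, 0, 1, -1, 0], [1, 0, 0, 0, 1, -1, 1], [1, 0, 0, 0, 1, 0, -1], [1, 0, 0, 0, 1, 0, 0], [1, 0, 0, 0, 1, 0, 1], [1, 0, 0, 1, -1, 0, 0], [1, 0, 0, 1, 0, -1, 0], [1, 0, 0, 1, 0, 0, -1], [1, 0, 0, 1, 0, 0, 0], [1, 0, 0, 1, 0, 0, 1], [1, 0, 0, 1, 0, 1, 0], [1, 0, 0, 1, 0, 1, 1], [1, 0, 0, 1, 1, 0, 0], [1, 0, 0, 1, 1, 0, 1], [1, 1, -1, 0, 0, 0, -1], [1, 1, -1, 0, 0, 0, 0], [1,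 1, -1, 0, 0, 1, -1], [1, 1, -1, 0, 0, 1, 0], [1, 1, -1, 0, 1, 0, -1], [1, 1, -1, 0, 1, 0, 0], [1, 1, -1, 0, 1, 1, 0], [1, 1, -1, 1, 0, 1, -1], [1, 1, -1, 1, 0, 1, 0], [1, 1, 0, 0, 0, -1, 0], [1, 1, 0, 0, 0, 0, -1], [1, 1, 0, 0, 0, 0, 0], [1, 1, 0, 0, 1, 0, -1], [1, 1, 0, 0, 1, 0, 0], [1, 1, 0, 0, 1, 0, 1], [1, 1, 0, 0, 1, 1, 0], [1, 1, 0, 1, 0, 0, 0], [1, 1, 0, 1, 0, 1, 0]]

/-- the vectors with coordinates `0, 1` in the first two places -/
def vecs1 : List (List ℤ) :=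
  [[0, 1, -1, -1, 0, 0, -1], [0, 1, -1, -1, 0, 0, 0], [0, 1, -1, 0, -1, 0, -1], [0, 1, -1, 0, -1, 1, -1], [0, 1, -1, 0, -1, 1, 0], [0, 1, -1, 0, 0, 0, -1], [0, 1, -1, 0, 0, 0, 0], [0, 1, -1, 0, 0, 1, -1], [0, 1, -1, 0, 0, 1, 0], [0, 1, 0, -1, 0, -1, 0], [0, 1, 0, -1, 0, 0, -1], [0, 1, 0, -1, 0, 0, 0], [0, 1, 0, -1, 1, 0, 0], [0, 1, 0, 0, -1, 0, -1], [0, 1, 0, 0, -1, 0, 0], [0, 1, 0, 0, -1, 1, -1], [0, 1, 0, 0, -1, 1, 0], [0, 1, 0, 0, 0, 0, -1], [0, 1, 0, 0, 0, 0, 0], [0, 1, 0, 0, 0, 0, 1], [0, 1, 0, 0, 0, 1, -1], [0, 1, 0, 0, 0, 1, 0], [0, 1, 0, 0, 0, 1, 1], [0, 1, 0, 0, 1, 1, 0], [0, 1, 0, 1, -1, 1, 0], [0, 1, 1, 0, 0, 0, 0]]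

/-- the possible triples, as indices in `vecs0` -/
def triL : List (ℕ × ℕ × ℕ) :=
  [(2, 26, 39), (2, 39, 26), (4, 19, 41), (4, 41, 19), (9, 18, 36), (9, 23, 34), (9, 25, 33), (9, 27, 31), (9, 31, 27), (9, 33, 25), (9, 34, 23), (9, 36, 18), (10, 17, 36), (10, 18, 35), (10, 22, 34), (10, 24, 33), (10, 25, 32), (10, 26, 31), (10, 27, 30), (10, 30, 27), (10, 31, 26), (10, 32, 25), (10, 33, 24), (10, 34, 22), (10, 35, 18), (10, 36, 17), (11, 16, 36), (11, 17, 35), (11, 21, 34), (11, 24, 32), (11, 26, 30), (11, 30, 26), (11, 32, 24), (11, 34, 21), (11, 35, 17), (11, 36, 16), (12, 14, 36), (12, 15, 35), (12, 20, 34), (12, 22, 33), (12, 23, 32), (12, 26, 29), (12, 27, 28), (12, 28, 27), (12, 29, 26), (12, 32, 23), (12, 33, 22), (12, 34, 20), (12, 35, 15), (12, 36, 14), (13, 14, 35), (13, 21, 33), (13, 22, 32), (13, 26, 28), (13, 28, 26), (13, 32, 22), (13, 33, 21), (13, 35, 14), (14, 12, 36), (14,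 13, 35), (14, 19, 34), (14, 22, 31), (14, 23, 30), (14, 24, 29), (14, 25, 28), (14, 28, 25), (14, 29, 24), (14, 30, 23), (14, 31, 22), (14, 34, 19), (14, 35, 13), (14, 36, 12), (15, 12, 35), (15, 21, 31), (15, 22, 30), (15, 24, 28), (15, 28, 24), (15, 30, 22), (15, 31, 21), (15, 35, 12), (16, 11, 36), (16, 23, 29), (16, 29, 23), (16, 36, 11), (17, 10, 36), (17, 11, 35), (17, 19, 33), (17, 20, 31), (17, 22, 29), (17, 23, 28), (17, 28, 23), (17, 29, 22), (17, 31, 20), (17, 33, 19), (17, 35, 11), (17, 36, 10), (18, 9, 36), (18, 10, 35), (18, 19, 32), (18, 20, 30), (18, 21, 29), (18, 22, 28), (18, 28, 22), (18, 29, 21), (18, 30, 20), (18, 32, 19), (18, 35, 10), (18, 36, 9), (19, 4, 41), (19, 14, 34), (19, 17, 33), (19, 18, 32), (19, 32, 18), (19, 33, 17), (19, 34, 14), (19, 41, 4), (20, 12, 34), (20, 17, 31), (20, 18, 30), (20, 30, 18), (20, 31, 17), (20, 34, 12), (21, 11, 34), (21, 13, 33), (21,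 15, 31), (21, 18, 29), (21, 29, 18), (21, 31, 15), (21, 33, 13), (21, 34, 11), (22, 10, 34), (22, 12, 33), (22, 13, 32), (22, 14, 31), (22, 15, 30), (22, 17, 29), (22, 18, 28), (22, 28, 18), (22, 29, 17), (22, 30, 15), (22, 31, 14), (22, 32, 13), (22, 33, 12), (22, 34, 10), (23, 9, 34), (23, 12, 32), (23, 14, 30), (23, 16, 29), (23, 17, 28), (23, 28, 17), (23, 29, 16), (23, 30, 14), (23, 32, 12), (23, 34, 9), (24, 10, 33), (24, 11, 32), (24, 14, 29), (24, 15, 28), (24, 28, 15), (24, 29, 14), (24, 32, 11), (24, 33, 10), (25, 9, 33), (25, 10, 32), (25, 14, 28), (25, 28, 14), (25, 32, 10), (25, 33, 9), (26, 2, 39), (26, 10, 31), (26, 11, 30), (26, 12, 29), (26, 13, 28), (26, 28, 13), (26, 29, 12), (26, 30, 11), (26, 31, 10), (26, 39, 2), (27, 9, 31), (27, 10, 30), (27, 12, 28), (27, 28, 12), (27, 30, 10), (27, 31, 9), (28, 12, 27), (28, 13, 26), (28, 14, 25), (28, 15, 24), (28, 17, 23), (28, 18,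 22), (28, 22, 18), (28, 23, 17), (28, 24, 15), (28, 25, 14), (28, 26, 13), (28, 27, 12), (29, 12, 26), (29, 14, 24), (29, 16, 23), (29, 17, 22), (29, 18, 21), (29, 21, 18), (29, 22, 17), (29, 23, 16), (29, 24, 14), (29, 26, 12), (30, 10, 27), (30, 11, 26), (30, 14, 23), (30, 15, 22), (30, 18, 20), (30, 20, 18), (30, 22, 15), (30, 23, 14), (30, 26, 11), (30, 27, 10), (31, 9, 27), (31, 10, 26), (31, 14, 22), (31, 15, 21), (31, 17, 20), (31, 20, 17), (31, 21, 15), (31, 22, 14), (31, 26, 10), (31, 27, 9), (32, 10, 25), (32, 11, 24), (32, 12, 23), (32, 13, 22), (32, 18, 19), (32, 19, 18), (32, 22, 13), (32, 23, 12), (32, 24, 11), (32, 25, 10), (33, 9, 25), (33, 10, 24), (33, 12, 22), (33, 13, 21), (33, 17, 19), (33, 19, 17), (33, 21, 13), (33, 22, 12), (33, 24, 10), (33, 25, 9), (34, 9, 23), (34, 10, 22), (34, 11, 21), (34, 12, 20), (34, 14, 19), (34, 19, 14), (34, 20, 12), (34, 21, 11), (34, 22,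 10), (34, 23, 9), (35, 10, 18), (35, 11, 17), (35, 12, 15), (35, 13, 14), (35, 14, 13), (35, 15, 12), (35, 17, 11), (35, 18, 10), (36, 9, 18), (36, 10, 17), (36, 11, 16), (36, 12, 14), (36, 14, 12), (36, 16, 11), (36, 17, 10), (36, 18, 9), (39, 2, 26), (39, 26, 2), (41, 4, 19), (41, 19, 4)]

/-- the Galois action on vectors -/
def sigV (v : List ℤ) : List ℤ := mk7 fun i => sgs i * v.getD (sgi i) 0

/-- the third vector of a triple -/
def thirdV (x y : List ℤ) : List ℤ := mk7 fun q => hh 0 q - x.getD q 0 - y.getD q 0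

/-- closed under the Galois action -/
def closedV (x y z : List ℤ) : Bool := [x, y, z].all fun v => decide (sigV v ∈ [x, y, z])

theorem hh_adj : ((List.range 7).all fun i => (List.range 7).all fun j =>
    decide (∑ k ∈ Finset.range 7, hh i k * adj k j = if i = j then 552 else 0)) = true := by decide +kernel

theorem vecs0_ok : ((boxTail 1 (rngB 1)).all fun v => decide (552 < qL v) || decide (v ∈ vecs0)) = true := by
  decide +kernel

theorem vecs1_ok : ((boxTail 0 [1]).all fun v => decide (552 < qL v) || decide (v ∈ vecs1)) = true := by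
  decide +kernel

theorem triL_ok : ((List.range 46).all fun i => (List.range 46).all fun j =>
    let x := vecs0.getD i []
    let y := vecs0.getD j []
    let z := thirdV x y
    (List.range 46).all fun k => !(decide (vecs0.getD k [] = z)) || !(closedV x y z) || decide ((i, j, k) ∈ triL)) =
      true := by
  decide +kernel

theorem vecs0_length : vecs0.length = 46 := by decide +kernel

end Cfsg.Agent.Spor.JThree
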